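import Mathlib

/-!
The numerical inequalities.
-/

set_option autoImplicit false

namespace Cfsg.Agent.ClassBoundSq

/-- The bound on the order over the class number for a completely reducible group in dimension `a`. -/
def fb : ℕ → ℕ
  | 0 => 1
  | 1 => 1
  | a + 2 => 6 * 10 ^ a

theorem fb_two : fb 2 = 6 := rfl

theorem one_le_fb : ∀ a, 1 ≤ fb a
  | 0 => le_rfl
  | 1 => le_rfl
  | a + 2 => by have := Nat.one_le_pow a 10 (by norm_num); simp only [fb]; omega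

theorem fb_of_two_le {a : ℕ} (h : 2 ≤ a) : fb a = 6 * 10 ^ (a - 2) := by
  obtain ⟨c, rfl⟩ := Nat.exists_eq_add_of_le' h
  rfl

theorem fb_le_succ : ∀ a, fb a ≤ fb (a + 1)
  | 0 => le_rfl
  | 1 => by decide
  | a + 2 => by
    simp only [fb, pow_succ]
    omega

theorem fb_mono {a b : ℕ} (h : a ≤ b) : fb a ≤ fb b := monotone_nat_of_le_succ fb_le_succ h

theorem fb_mul : ∀ a b, fb a * fb b ≤ fb (a + b)
  | 0, b => by simp [fb]
  | 1, b => by rw [show fb 1 = 1 from rfl, one_mul]; exact fb_mono (by omega)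
  | a + 2, 0 => by simp [fb]
  | a + 2, 1 => by rw [show fb 1 = 1 from rfl, mul_one]; exact fb_mono (by omega)
  | a + 2, b + 2 => by
    rw [show a + 2 + (b + 2) = (a + b + 2) + 2 by omega]
    simp only [fb, pow_add]
    nlinarith [Nat.zero_le (10 ^ a * 10 ^ b)]

theorem fb_sq : ∀ b, b ^ 2 ≤ fb b
  | 0 => by simp [fb]
  | 1 => by simp [fb]
  | b + 2 => by
    simp only [fb]
    induction b with
    | zero => norm_num
    | succ b ih => rw [pow_succ 10 b]; nlinarith [Nat.zero_le b]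

theorem fb_field {a b e : ℕ} (he : 2 ≤ e) (hb : 0 < b) (h : b * e ≤ a) : b ^ 2 * fb e ≤ fb a := by
  refine le_trans ?_ (fb_mono h)
  obtain ⟨c, rfl⟩ : ∃ c, b = c + 1 := ⟨b - 1, by omega⟩
  have h2 : 2 ≤ (c + 1) * e := he.trans (Nat.le_mul_of_pos_left e hb)
  rw [fb_of_two_le he, fb_of_two_le h2, show (c + 1) * e - 2 = (e - 2) + c * e by
    rw [add_mul, one_mul]; omega, pow_add, ← mul_assoc 6, mul_comm ((c + 1) ^ 2) (6 * 10 ^ (e - 2))]
  refine Nat.mul_le_mul_left _ ?_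
  calc (c + 1) ^ 2 ≤ (2 ^ c) ^ 2 := Nat.pow_le_pow_left (Nat.lt_two_pow_self) 2
    _ = 4 ^ c := by rw [← pow_mul, mul_comm, pow_mul]; norm_num
    _ ≤ 10 ^ c := Nat.pow_le_pow_left (by norm_num) c
    _ ≤ 10 ^ (c * e) := Nat.pow_le_pow_right (by norm_num) (Nat.le_mul_of_pos_right c (by omega))

theorem fb_block {a r s : ℕ} (ha : 0 < a) (hr : 2 ≤ r) (hs : s ^ 2 ≤ 6 * 10 ^ (r - 2)) :
    s ^ 2 * fb a ^ r ≤ fb (r * a) := by
  rcases (show a = 1 ∨ 2 ≤ a by omega) with rfl | ha2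
  · rw [show fb 1 = 1 from rfl, one_pow, mul_one, mul_one, fb_of_two_le hr]
    exact hs
  obtain ⟨c, rfl⟩ := Nat.exists_eq_add_of_le' ha2
  obtain ⟨t, rfl⟩ := Nat.exists_eq_add_of_le' hr
  rw [fb_of_two_le (hr.trans (Nat.le_mul_of_pos_right _ ha)), fb_of_two_le (by omega : 2 ≤ c + 2),
    Nat.add_sub_cancel, mul_pow, ← pow_mul, mul_comm c (t + 2),
    show (t + 2) * (c + 2) - 2 = (t + 2) * c + (2 * t + 2) by rw [mul_add]; omega,
    pow_add 10 ((t + 2) * c)]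
  rw [Nat.add_sub_cancel] at hs
  calc s ^ 2 * (6 ^ (t + 2) * 10 ^ ((t + 2) * c)) ≤ 6 * 10 ^ t * (6 ^ (t + 2) * 10 ^ ((t + 2) * c)) :=
        Nat.mul_le_mul_right _ hs
    _ = 6 * 10 ^ ((t + 2) * c) * (6 ^ 2 * (10 * 6) ^ t) := by rw [mul_pow, pow_add]; ring
    _ ≤ 6 * 10 ^ ((t + 2) * c) * (10 ^ 2 * (10 * 10) ^ t) := by gcongr <;> norm_num
    _ = 6 * (10 ^ ((t + 2) * c) * 10 ^ (2 * t + 2)) := by rw [pow_add 10 (2 * t), pow_mul 10 2 t]; ring

/-- The two summands of the class number. -/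
theorem split_le {h k n f N : ℕ} (h2 : n ≤ f * h) (h3 : N ≤ (k - h) * n) (hk : h ≤ k) : 4 * N ≤ f * k ^ 2 := by
  obtain ⟨d, rfl⟩ := Nat.exists_eq_add_of_le hk
  rw [Nat.add_sub_cancel_left] at h3
  have h4 := h3.trans (Nat.mul_le_mul_left d h2)
  nlinarith [Nat.mul_le_mul_left f (two_mul_le_add_sq h d)]

theorem final_five {p k : ℕ} (hp : 3 ≤ p) (h : 4 * (p ^ 2 - 1) ≤ 5 * k ^ 2) : 49 * p ≤ 60 * k := by
  by_contra hlt
  push Not at hlt
  have hsq : (60 * k) * (60 * k) ≤ (49 * p) * (49 * p) := Nat.mul_self_le_mul_self hlt.le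
  have h1 : 1 ≤ p ^ 2 := Nat.one_le_pow _ _ (by omega)
  zify [h1] at h
  zify at hsq hp
  nlinarith

theorem final_big {p a k : ℕ} (hp : 11 ≤ p) (ha : 3 ≤ a) (h : 4 * (p ^ a - 1) ≤ fb a * k ^ 2) :
    49 * p ≤ 60 * k := by
  by_contra hlt
  push Not at hlt
  have hsq : (60 * k) * (60 * k) ≤ (49 * p) * (49 * p) := Nat.mul_self_le_mul_self hlt.le
  obtain ⟨c, rfl⟩ := Nat.exists_eq_add_of_le' ha
  rw [fb_of_two_le (by omega : 2 ≤ c + 3), show c + 3 - 2 = c + 1 by omega] at h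
  have key : 14400 * (p ^ (c + 3) - 1) > 14406 * 10 ^ (c + 1) * p ^ 2 := by
    have h2 : 10 ^ c * p ^ 3 ≤ p ^ (c + 3) := by
      rw [pow_add]; exact Nat.mul_le_mul_right _ (Nat.pow_le_pow_left (by omega) c)
    have h3 : 14406 * 10 * p ^ 2 + 14400 < 14400 * p ^ 3 := by nlinarith
    have h4 : 14400 * 10 ^ c ≥ 14400 := Nat.le_mul_of_pos_right _ (Nat.pow_pos (by norm_num))
    have h5 : 10 ^ c * (14406 * 10 * p ^ 2 + 14400) < 10 ^ c * (14400 * p ^ 3) :=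
      Nat.mul_lt_mul_of_pos_left h3 (Nat.pow_pos (by norm_num))
    rw [pow_succ 10 c]
    rw [Nat.mul_sub, mul_one, gt_iff_lt, Nat.lt_sub_iff_add_lt]
    nlinarith
  nlinarith [Nat.mul_le_mul_left (6 * 10 ^ (c + 1)) hsq]

theorem final_six {p h k n m : ℕ} (hp : p.Prime) (hp5 : 5 ≤ p) (hm : m ∣ p - 1) (hn : n = 24 * m)
    (h2 : n ≤ 6 * h) (h3 : p ^ 2 - 1 ≤ (k - h) * n) : 49 * p ≤ 60 * k := by
  by_contra hlt
  push Not at hlt
  subst hn
  obtain ⟨d, hd⟩ := hm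
  have hpd : p = m * d + 1 := by omega
  have hm0 : 0 < m := Nat.pos_of_ne_zero fun e => by simp [e] at hpd; omega
  by_cases hsmall : p ≤ 25
  · have hmle : m ≤ p - 1 := Nat.le_of_dvd (by omega) ⟨d, hd⟩
    have hdvd : m ∣ p - 1 := ⟨d, hd⟩
    interval_cases p <;> first
      | (norm_num at hp; done)
      | (interval_cases m <;> first | omega | (norm_num at hdvd; done))
  have hkh : h ≤ k := by
    by_contra hh
    rw [Nat.sub_eq_zero_of_le (by omega : k ≤ h), zero_mul] at h3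
    have := Nat.pow_le_pow_left (show 2 ≤ p by omega) 2
    omega
  have h4 : (60 * (p ^ 2 - 1) : ℕ) ≤ (49 * p - 240 * m) * (24 * m) :=
    calc 60 * (p ^ 2 - 1) ≤ 60 * ((k - h) * (24 * m)) := Nat.mul_le_mul_left _ h3
      _ = (60 * (k - h)) * (24 * m) := by ring
      _ ≤ (49 * p - 240 * m) * (24 * m) := Nat.mul_le_mul_right _ (by omega)
  zify [Nat.one_le_pow 2 p (by omega), show 240 * m ≤ 49 * p by omega] at h4
  subst hpd
  push_cast at h4
  zify at hsmall hm0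
  push Not at hsmall
  have h5 : (5 * (d : ℤ) - 48) * (d - 10) * (m * d + 1) + 5 * (d : ℤ) ^ 2 - 480 ≤ 0 := by nlinarith
  rcases (show d ≤ 9 ∨ d = 10 ∨ 11 ≤ d by omega) with hd9 | rfl | hd11
  · interval_cases d <;> push_cast at h5 hsmall <;> linarith
  · push_cast at h5; linarith
  · have : (0 : ℤ) ≤ (5 * (d : ℤ) - 48) * (d - 10) * (m * d + 1) :=
      mul_nonneg (mul_nonneg (by linarith [(by exact_mod_cast hd11 : (11 : ℤ) ≤ d)])
        (by linarith [(by exact_mod_cast hd11 : (11 : ℤ) ≤ d)])) (by positivity)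
    nlinarith [(by exact_mod_cast hd11 : (11 : ℤ) ≤ d)]

end Cfsg.Agent.ClassBoundSq
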