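import Mathlib
import Cfsg.Agent.S4200

/-!
Elementary inequalities between class numbers.
-/

set_option autoImplicit false

namespace Cfsg.Agent.ClassBoundSq

/-- The class number. -/
noncomputable abbrev cls (G : Type*) [Group G] : ℕ := Nat.card (ConjClasses G)

theorem cls_pos (G : Type*) [Group G] [Finite G] : 0 < cls G := Nat.card_pos

theorem cls_le_card (G : Type*) [Group G] [Finite G] : cls G ≤ Nat.card G :=
  Nat.card_le_card_of_surjective ConjClasses.mk ConjClasses.mk_surjective

theorem cls_congr {G H : Type*} [Group G] [Group H] [Finite G] [Finite H] (e : G ≃* H) :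
    cls G = cls H := by
  have h : Nat.card {p : G × G // Commute p.1 p.2} = Nat.card {p : H × H // Commute p.1 p.2} :=
    Nat.card_congr
      { toFun := fun p => ⟨(e p.1.1, e p.1.2), p.2.map e⟩
        invFun := fun p => ⟨(e.symm p.1.1, e.symm p.1.2), p.2.map e.symm⟩
        left_inv := fun p => by simp
        right_inv := fun p => by simp }
  rw [card_comm_eq_card_conjClasses_mul_card, card_comm_eq_card_conjClasses_mul_card,
    Nat.card_congr e.toEquiv] at h
  exact Nat.eq_of_mul_eq_mul_right Nat.card_pos h

theorem cls_of_comm {G : Type*} [Group G] [Finite G] (h : ∀ a b : G, a * b = b * a) : cls G = Nat.card G := by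
  refine (Nat.card_eq_of_bijective ConjClasses.mk ⟨fun a b hab => ?_, ConjClasses.mk_surjective⟩).symm
  obtain ⟨c, hc⟩ := isConj_iff.1 (ConjClasses.mk_eq_mk_iff_isConj.1 hab)
  rw [← hc, h c a, mul_inv_cancel_right]

theorem cls_quotient_le {G : Type*} [Group G] [Finite G] (N : Subgroup G) [N.Normal] :
    cls (G ⧸ N) ≤ cls G :=
  Nat.card_le_card_of_surjective (ConjClasses.map (QuotientGroup.mk' N))
    (ConjClasses.map_surjective Quotient.mk''_surjective)

/-- A subgroup of index `i` loses at most the square of `i`. -/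
theorem card_le_of_subgroup {G : Type*} [Group G] [Finite G] (K : Subgroup G) {f : ℕ}
    (h : Nat.card K ≤ f * cls K) : Nat.card G ≤ K.index ^ 2 * f * cls G :=
  calc Nat.card G = K.index * Nat.card K := K.index_mul_card.symm
    _ ≤ K.index * (f * (K.index * cls G)) :=
        Nat.mul_le_mul_left _ (h.trans (Nat.mul_le_mul_left _ (S4200.result K).1))
    _ = K.index ^ 2 * f * cls G := by ring

/-- The commuting probability of a subgroup is at least that of the group. -/
theorem cls_mul_le_of_injective {H A : Type*} [Group H] [Finite H] [Group A] [Finite A] (f : H →* A)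
    (hf : Function.Injective f) : Nat.card H * cls A ≤ Nat.card A * cls H := by
  have h2 := (S4200.result f.range).2.1
  have e : f.range.index * Nat.card H = Nat.card A := by
    rw [Nat.card_congr (MonoidHom.ofInjective hf).toEquiv, Subgroup.index_mul_card]
  have e2 : Nat.card (ConjClasses f.range) = cls H := (cls_congr (MonoidHom.ofInjective hf)).symm
  rw [e2] at h2
  calc Nat.card H * cls A ≤ Nat.card H * (f.range.index * cls H) := Nat.mul_le_mul_left _ h2
    _ = f.range.index * Nat.card H * cls H := by ring
    _ = _ := by rw [e]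

theorem cls_prod (A B : Type*) [Group A] [Group B] [Finite A] [Finite B] :
    cls (A × B) = cls A * cls B := by
  have h : Nat.card {p : (A × B) × (A × B) // Commute p.1 p.2} =
      Nat.card {p : A × A // Commute p.1 p.2} * Nat.card {p : B × B // Commute p.1 p.2} := by
    rw [← Nat.card_prod]
    exact Nat.card_congr
      { toFun := fun x => (⟨(x.1.1.1, x.1.2.1), congrArg Prod.fst x.2.eq⟩,
          ⟨(x.1.1.2, x.1.2.2), congrArg Prod.snd x.2.eq⟩)
        invFun := fun x => ⟨((x.1.1.1, x.2.1.1), (x.1.1.2, x.2.1.2)), Prod.ext x.1.2.eq x.2.2.eq⟩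
        left_inv := fun x => rfl
        right_inv := fun x => rfl }
  rw [card_comm_eq_card_conjClasses_mul_card, card_comm_eq_card_conjClasses_mul_card,
    card_comm_eq_card_conjClasses_mul_card, Nat.card_prod,
    show ∀ a b c d : ℕ, a * b * (c * d) = a * c * (b * d) from fun a b c d => by ring] at h
  exact Nat.eq_of_mul_eq_mul_right (Nat.mul_pos Nat.card_pos Nat.card_pos) h

theorem cls_pi {ι : Type*} [Fintype ι] (A : ι → Type*) [∀ i, Group (A i)] [∀ i, Finite (A i)] :
    cls (∀ i, A i) = ∏ i, cls (A i) := by
  have h : Nat.card {p : (∀ i, A i) × (∀ i, A i) // Commute p.1 p.2} =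
      ∏ i, Nat.card {p : A i × A i // Commute p.1 p.2} := by
    rw [← Nat.card_pi]
    exact Nat.card_congr
      { toFun := fun x i => ⟨(x.1.1 i, x.1.2 i), congrFun x.2.eq i⟩
        invFun := fun x => ⟨(fun i => (x i).1.1, fun i => (x i).1.2), funext fun i => (x i).2.eq⟩
        left_inv := fun x => rfl
        right_inv := fun x => rfl }
  rw [card_comm_eq_card_conjClasses_mul_card, Nat.card_pi] at h
  simp only [card_comm_eq_card_conjClasses_mul_card, Finset.prod_mul_distrib] at h
  exact Nat.eq_of_mul_eq_mul_right (Finset.prod_pos fun i _ => Nat.card_pos) h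

/-- A normal subgroup contributes its orbits under the quotient by a centralising normal subgroup. -/
theorem card_sub_one_le_above {G : Type*} [Group G] [Finite G] (N W : Subgroup G) [W.Normal] (hNW : N ≤ W)
    (hN : ∀ a ∈ W, ∀ b ∈ N, a * b = b * a) :
    Nat.card N - 1 ≤ (cls G - cls (G ⧸ W)) * Nat.card (G ⧸ W) := by
  classical
  haveI := Fintype.ofFinite G
  haveI := Fintype.ofFinite (ConjClasses G)
  haveI := Fintype.ofFinite (ConjClasses (G ⧸ W))
  haveI := Fintype.ofFinite (G ⧸ W)
  let φ : ConjClasses G → ConjClasses (G ⧸ W) := ConjClasses.map (QuotientGroup.mk' W)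
  have hφ : Function.Surjective φ := ConjClasses.map_surjective Quotient.mk''_surjective
  let S : Finset G := Finset.univ.filter fun g => g ∈ N ∧ g ≠ 1
  have hS : S.card = Nat.card N - 1 := by
    have : S = (Finset.univ.filter fun g => g ∈ N).erase 1 := by
      ext g; simp [S, and_comm]
    rw [this, Finset.card_erase_of_mem (by simp), Nat.card_eq_fintype_card, Fintype.card_subtype]
  -- each class meets `N` in at most `[G : N]` elements
  have hfib : ∀ c ∈ S.image ConjClasses.mk, (S.filter fun g => ConjClasses.mk g = c).card ≤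
      Nat.card (G ⧸ W) := by
    intro c hc
    obtain ⟨a, ha, rfl⟩ := Finset.mem_image.1 hc
    have haN : a ∈ N := (Finset.mem_filter.1 ha).2.1
    have hsub : (S.filter fun g => ConjClasses.mk g = ConjClasses.mk a) ⊆
        Finset.univ.image fun q : G ⧸ W => q.out * a * q.out⁻¹ := by
      intro g hg
      obtain ⟨c, hc⟩ := isConj_iff.1 (ConjClasses.mk_eq_mk_iff_isConj.1 (Finset.mem_filter.1 hg).2.symm)
      refine Finset.mem_image.2 ⟨(c : G ⧸ W), Finset.mem_univ _, ?_⟩
      obtain ⟨n, hn⟩ := QuotientGroup.mk_out_eq_mul W c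
      rw [hn, ← hc, mul_inv_rev]
      calc c * n.1 * a * (n.1⁻¹ * c⁻¹) = c * (n.1 * a) * n.1⁻¹ * c⁻¹ := by group
        _ = c * (a * n.1) * n.1⁻¹ * c⁻¹ := by rw [hN n.1 n.2 a haN]
        _ = c * a * c⁻¹ := by group
    refine (Finset.card_le_card hsub).trans (Finset.card_image_le.trans ?_)
    rw [Finset.card_univ, Nat.card_eq_fintype_card]
  have h1 : S.card ≤ Nat.card (G ⧸ W) * (S.image ConjClasses.mk).card :=
    Finset.card_le_mul_card_image _ _ hfib
  -- these classes are nontrivial and lie above the trivial class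
  let rep : ConjClasses (G ⧸ W) → ConjClasses G := fun q =>
    if q = ConjClasses.mk 1 then ConjClasses.mk 1 else Function.surjInv hφ q
  have hrep : ∀ q, φ (rep q) = q := fun q => by
    simp only [rep]
    split_ifs with h
    · rw [h]; rfl
    · exact Function.surjInv_eq hφ q
  have hdis : Disjoint (S.image ConjClasses.mk) (Finset.univ.image rep) := by
    rw [Finset.disjoint_left]
    intro c hc hc'
    obtain ⟨g, hg, rfl⟩ := Finset.mem_image.1 hc
    obtain ⟨q, -, hq⟩ := Finset.mem_image.1 hc'
    have hg' := (Finset.mem_filter.1 hg).2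
    have hq1 : q = ConjClasses.mk 1 := by
      rw [← hrep q, hq]
      show ConjClasses.mk ((g : G) : G ⧸ W) = _
      rw [(QuotientGroup.eq_one_iff g).2 (hNW hg'.1)]
    simp only [rep, if_pos hq1] at hq
    exact hg'.2 (isConj_one_right.1 (ConjClasses.mk_eq_mk_iff_isConj.1 hq))
  have h2 := Finset.card_le_univ ((S.image ConjClasses.mk) ∪ Finset.univ.image rep)
  rw [Finset.card_union_of_disjoint hdis,
    Finset.card_image_of_injective _ (f := rep) (fun x y h => by rw [← hrep x, h, hrep]), Finset.card_univ] at h2
  rw [← hS, mul_comm]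
  refine h1.trans (Nat.mul_le_mul_left _ ?_)
  rw [cls, cls, Nat.card_eq_fintype_card, Nat.card_eq_fintype_card]
  omega

/-- A normal subgroup with a commutative multiplication contributes orbits. -/
theorem card_sub_one_le {G : Type*} [Group G] [Finite G] (N : Subgroup G) [N.Normal]
    (hN : ∀ a ∈ N, ∀ b ∈ N, a * b = b * a) :
    Nat.card N - 1 ≤ (cls G - cls (G ⧸ N)) * Nat.card (G ⧸ N) :=
  card_sub_one_le_above N N le_rfl hN

end Cfsg.Agent.ClassBoundSq
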