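import Cfsg.Agent.ClassBoundSq.Heis
import Cfsg.Agent.ClassBoundSq.Arith

/-!
The order over the class number for such groups.
-/

set_option autoImplicit false
set_option maxHeartbeats 1000000

namespace Cfsg.Agent.ClassBoundSq.Heis

universe u v

variable {K : Type u} [Field K] {C : Type v} [Group C] [Finite C] (H : Heis K C)

/-- The embedding of the quotient of the normal subgroup. -/
noncomputable def emb : H.W →* C ⧸ H.B :=
  QuotientGroup.lift _ ((QuotientGroup.mk' H.B).comp H.N.subtype) fun a ha => (QuotientGroup.eq_one_iff a.1).2 ha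

omit [Finite C] in
theorem emb_inj : Function.Injective H.emb := by
  refine (injective_iff_map_eq_one _).2 fun u hu => ?_
  induction u using QuotientGroup.induction_on with | _ a =>
  exact (QuotientGroup.eq_one_iff a).2 ((QuotientGroup.eq_one_iff a.1).1 hu)

theorem mem_emb_iff (q : C ⧸ H.B) : (∃ u, H.emb u = q) ↔ H.act q = 1 := by
  induction q using QuotientGroup.induction_on with | _ g =>
  rw [H.act_mk, ← MonoidHom.mem_ker, H.conj_ker]
  refine ⟨fun ⟨u, hu⟩ => ?_, fun hg => ⟨((⟨g, hg⟩ : H.N) : H.W), rfl⟩⟩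
  induction u using QuotientGroup.induction_on with | _ a =>
  have h : a.1⁻¹ * g ∈ H.B := QuotientGroup.eq.1 hu
  simpa using H.N.mul_mem a.2 (H.le h)

theorem emb_act (q : C ⧸ H.B) (u : H.W) : H.emb (H.act q u) = q * H.emb u * q⁻¹ := by
  induction q using QuotientGroup.induction_on with | _ g =>
  induction u using QuotientGroup.induction_on with | _ a =>
  rw [H.act_mk, H.conj_mk]
  rfl

theorem card_fibre_eq {φ : MulAut H.W} (hφ : φ ∈ H.act.range) :
    Nat.card {q : C ⧸ H.B // H.act q = φ} = Nat.card H.W := by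
  refine le_antisymm (H.card_fibre φ) ?_
  obtain ⟨q, hq⟩ := hφ
  refine Nat.card_le_card_of_injective
    (fun u => ⟨q * H.emb u, by rw [map_mul, hq, (H.mem_emb_iff _).1 ⟨u, rfl⟩, mul_one]⟩) fun u v h => ?_
  exact H.emb_inj (mul_left_cancel (congrArg Subtype.val h))

theorem range_act : H.act.range = H.conj.range := by
  ext y
  simp only [MonoidHom.mem_range]
  refine ⟨?_, fun ⟨g, hg⟩ => ⟨(g : C ⧸ H.B), hg⟩⟩
  rintro ⟨q, hq⟩
  induction q using QuotientGroup.induction_on with | _ g => exact ⟨g, hq⟩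

theorem pair_fix {φ : MulAut H.W} (hφ : φ ∈ H.conj.range) (u v : H.W) :
    H.pair (φ u) (φ v) = H.pair u v := by
  obtain ⟨g, rfl⟩ := hφ
  exact H.pair_conj g u v

theorem exponent_eq {e : ℕ} (he : e.Prime) (hw : Nat.card H.W = e ^ 2) (u : H.W) : u ^ e = 1 := by
  obtain ⟨i, hi, ho⟩ := (Nat.dvd_prime_pow he).1 (hw ▸ orderOf_dvd_natCard u)
  by_cases h : i ≤ 1
  · exact orderOf_dvd_iff_pow_eq_one.1 (ho ▸ (pow_dvd_pow e h).trans (pow_one e).dvd)
  exfalso
  have htop : Subgroup.zpowers u = ⊤ := Subgroup.eq_top_of_card_eq _ (by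
    rw [Nat.card_zpowers, ho, hw, show i = 2 by omega])
  have : H.pair u = 1 := MonoidHom.ext fun v => by
    obtain ⟨j, rfl⟩ := Subgroup.mem_zpowers_iff.1 (htop ▸ Subgroup.mem_top v : v ∈ Subgroup.zpowers u)
    rw [map_zpow, H.pair_self, one_zpow]; rfl
  have hu : u = 1 := H.pair_inj (this.trans (map_one H.pair).symm)
  rw [hu, orderOf_one, show i = 2 by omega] at ho
  have := Nat.one_lt_pow two_ne_zero he.one_lt
  omega

theorem ker_pair {a : H.W} (ha : a ≠ 1) :
    Nat.card (H.pair a).ker * 2 ≤ Nat.card H.W ∧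
      ∀ e : ℕ, e.Prime → Nat.card H.W = e ^ 2 → Nat.card (H.pair a).ker ≤ e := by
  have hne : (H.pair a).ker.index ≠ 1 := fun h => ha (H.pair_inj ((MonoidHom.ext fun v => by
    exact MonoidHom.mem_ker.1 ((Subgroup.index_eq_one.1 h).symm ▸ Subgroup.mem_top v)).trans (map_one H.pair).symm))
  have h := (H.pair a).ker.card_mul_index
  refine ⟨?_, fun e he hw => ?_⟩
  · have h2 : 2 ≤ (H.pair a).ker.index := by
      have := Subgroup.index_ne_zero_of_finite (H := (H.pair a).ker)
      omega
    calc _ ≤ Nat.card (H.pair a).ker * (H.pair a).ker.index := Nat.mul_le_mul_left _ h2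
      _ = _ := h
  · obtain ⟨i, hi, hi'⟩ := (Nat.dvd_prime_pow he).1 (hw ▸ (H.pair a).ker.card_subgroup_dvd_card)
    rcases (show i ≤ 1 ∨ i = 2 by omega) with h1 | rfl
    · rw [hi']; exact (Nat.pow_le_pow_right he.one_lt.le h1).trans (pow_one e).le
    · exfalso
      rw [hi', hw] at h
      exact hne (Nat.eq_of_mul_eq_mul_left (Nat.pow_pos he.pos) (h.trans (mul_one _).symm))

theorem card_pair_fibre (a : H.W) (t : Kˣ) :
    Nat.card {b : H.W // H.pair a b = t} ≤ Nat.card (H.pair a).ker := by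
  rcases isEmpty_or_nonempty {b : H.W // H.pair a b = t} with h | ⟨⟨b0, h0⟩⟩
  · rw [Nat.card_of_isEmpty]; exact Nat.zero_le _
  refine Nat.card_le_card_of_injective (fun b => ⟨b0⁻¹ * b.1, by
    rw [MonoidHom.mem_ker, map_mul, map_inv, h0, b.2, inv_mul_cancel]⟩) fun x y e => Subtype.ext ?_
  exact mul_left_cancel (congrArg Subtype.val e)

/-- Trivial lower bounds for the centralisers suffice for a small quotient. -/
theorem simple_bound {f : ℕ} (h : H.B.index + 1 ≤ 3 * f) : Nat.card C ≤ f * cls C := by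
  classical
  haveI := Fintype.ofFinite (C ⧸ H.B)
  have hn : 0 < H.B.index := Nat.pos_of_ne_zero Subgroup.index_ne_zero_of_finite
  let c : C ⧸ H.B → ℕ := fun q => if q = 1 then H.B.index else 2
  have hS : ∑ q, c q = H.B.index + 2 * (H.B.index - 1) := by
    rw [← Finset.add_sum_erase _ _ (Finset.mem_univ (1 : C ⧸ H.B))]
    simp only [c, if_true]
    rw [Finset.sum_congr rfl (fun q hq => if_neg (Finset.ne_of_mem_erase hq)), Finset.sum_const,
      Finset.card_erase_of_mem (Finset.mem_univ _), Finset.card_univ, smul_eq_mul, ← Nat.card_eq_fintype_card,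
      ← Subgroup.index_eq_card, mul_comm]
  have hle := H.card_mul_le c fun g => by
    simp only [c]
    split_ifs with hg
    · exact H.cent_one g hg
    · refine le_trans (Nat.mul_le_mul_left _ ?_) (H.cent_order g)
      have := orderOf_pos (g : C ⧸ H.B)
      have : orderOf (g : C ⧸ H.B) ≠ 1 := fun e => hg (orderOf_eq_one_iff.1 e)
      omega
  rw [hS] at hle
  have key : H.B.index ^ 2 ≤ f * (H.B.index + 2 * (H.B.index - 1)) := by
    zify [show 1 ≤ H.B.index by omega] at h hn ⊢
    nlinarith [mul_le_mul_of_nonneg_left h (le_of_lt hn), mul_nonneg (le_of_lt hn) (le_of_lt hn)]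
  refine Nat.le_of_mul_le_mul_right (hle.trans ?_) (show 0 < H.B.index + 2 * (H.B.index - 1) by omega)
  calc _ ≤ f * (H.B.index + 2 * (H.B.index - 1)) * cls C := Nat.mul_le_mul_right _ key
    _ = _ := by ring

theorem bound_one (hw : Nat.card H.W = 1) : cls C = Nat.card C := by
  have hNB : H.N ≤ H.B := by
    rw [← Subgroup.relIndex_eq_one]
    exact (Subgroup.index_eq_card _).trans hw
  have htop : ∀ c : C, c ∈ H.B := fun c => H.cent c fun x hx => (H.central x (hNB hx) c).symm
  exact cls_of_comm fun a b => H.central a (htop a) b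

/-- An abelian group of order dividing the square of a prime has two generators. -/
theorem exists_two_gen {A : Type*} [Group A] [Finite A] {p : ℕ} (hp : p.Prime) (hA : Nat.card A ∣ p ^ 2) :
    ∃ u v : A, Subgroup.closure ({u, v} : Set A) = ⊤ := by
  by_cases h1 : ∀ u : A, u = 1
  · exact ⟨1, 1, (Subgroup.eq_top_iff' _).2 fun x => by rw [h1 x]; exact Subgroup.one_mem _⟩
  push Not at h1
  obtain ⟨u, hu⟩ := h1
  by_cases h2 : ∀ v : A, v ∈ Subgroup.zpowers u
  · exact ⟨u, u, (Subgroup.eq_top_iff' _).2 fun x => Subgroup.zpowers_le.2 (Subgroup.subset_closure (by simp)) (h2 x)⟩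
  push Not at h2
  obtain ⟨v, hv⟩ := h2
  refine ⟨u, v, Subgroup.eq_top_of_card_eq _ ?_⟩
  set S := Subgroup.closure ({u, v} : Set A)
  have hlt : Subgroup.zpowers u < S := lt_of_le_of_ne (Subgroup.zpowers_le.2 (Subgroup.subset_closure (by simp)))
    fun e => hv (e.symm ▸ Subgroup.subset_closure (by simp : v ∈ ({u, v} : Set A)))
  obtain ⟨i, hi, hA'⟩ := (Nat.dvd_prime_pow hp).1 hA
  obtain ⟨j, hj, hS⟩ := (Nat.dvd_prime_pow hp).1 (S.card_subgroup_dvd_card.trans hA)
  obtain ⟨l, hl, hU⟩ := (Nat.dvd_prime_pow hp).1 ((Subgroup.zpowers u).card_subgroup_dvd_card.trans hA)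
  have h1' : 1 < Nat.card (Subgroup.zpowers u) := by
    rw [Nat.card_zpowers]
    have := orderOf_pos u
    have : orderOf u ≠ 1 := fun e => hu (orderOf_eq_one_iff.1 e)
    omega
  have h3 : Nat.card (Subgroup.zpowers u) < Nat.card S := by
    by_contra h
    exact hlt.ne (Subgroup.eq_of_le_of_card_ge hlt.le (by omega))
  rw [hU, ← pow_zero p, Nat.pow_lt_pow_iff_right hp.one_lt] at h1'
  rw [hU, hS, Nat.pow_lt_pow_iff_right hp.one_lt] at h3
  have h4 := S.card_le_card_group
  rw [hS, hA', Nat.pow_le_pow_iff_right hp.one_lt] at h4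
  rw [hS, hA', show j = i by omega]

theorem aut_eq_of_closure {A : Type*} [Group A] {s : Set A} (hs : Subgroup.closure s = ⊤) {φ ψ : MulAut A}
    (h : ∀ a ∈ s, φ a = ψ a) : φ = ψ :=
  MulEquiv.ext fun x => DFunLike.congr_fun (MonoidHom.eq_of_eqOn_dense hs (f := φ.toMonoidHom) (g := ψ.toMonoidHom) h) x

theorem card_sq_one : Nat.card {b : H.B // b ^ 2 = 1} ≤ 2 := by
  classical
  let f : {b : H.B // b ^ 2 = 1} → Bool := fun b => decide (H.χ b.1 = 1)
  refine (Nat.card_le_card_of_injective f fun a b h => Subtype.ext (H.inj ?_)).trans (by simp)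
  have hz : ∀ c : {b : H.B // b ^ 2 = 1}, H.χ c.1 = 1 ∨ H.χ c.1 = -1 := fun c => by
    have h2 : (H.χ c.1 : K) ^ 2 = 1 := by rw [← Units.val_pow_eq_pow_val, ← map_pow, c.2, map_one, Units.val_one]
    exact (sq_eq_one_iff.1 h2).imp (fun h => Units.ext h) (fun h => Units.ext (by simpa using h))
  simp only [f, decide_eq_decide] at h
  rcases hz a with ha | ha <;> rcases hz b with hb | hb
  · rw [ha, hb]
  · rw [ha, h.1 ha]
  · rw [hb, h.2 hb]
  · rw [ha, hb]

/-- Dimension two. -/
theorem bound_two (hw : Nat.card H.W = 4) :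
    Nat.card C ≤ 5 * cls C ∨ (Nat.card C = 24 * Nat.card H.B ∧ Nat.card C ≤ 6 * cls C) := by
  classical
  haveI := Fintype.ofFinite H.W
  haveI := Fintype.ofFinite (C ⧸ H.B)
  have h2 : ∀ u : H.W, u ^ 2 = 1 := H.exponent_eq Nat.prime_two (by rw [hw]; norm_num)
  have h6 : Nat.card H.conj.range ∣ 6 := by
    let f : H.conj.range →* Equiv.Perm {u : H.W // u ≠ 1} :=
      MonoidHom.mk' (fun φ => (φ.1.toEquiv).subtypeEquiv fun u => (map_ne_one_iff φ.1 φ.1.injective).symm)
        fun φ ψ => Equiv.ext fun u => rfl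
    have hf : Function.Injective f := fun φ ψ h => Subtype.ext <| MulEquiv.ext fun u => by
      by_cases hu : u = 1
      · rw [hu, map_one, map_one]
      · exact congrArg Subtype.val (Equiv.congr_fun h ⟨u, hu⟩)
    have := Subgroup.card_dvd_of_injective f hf
    rwa [Nat.card_perm, Nat.card_eq_fintype_card (α := {u : H.W // u ≠ 1}), Fintype.card_subtype_compl,
      Fintype.card_subtype_eq, ← Nat.card_eq_fintype_card (α := H.W), hw] at this
  have hidx := H.index_eq
  rw [hw] at hidx
  by_cases hx : Nat.card H.conj.range ≤ 3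
  · exact Or.inl (H.simple_bound (by omega))
  have hx6 : Nat.card H.conj.range = 6 := by
    have hle := Nat.le_of_dvd (by norm_num) h6
    generalize Nat.card H.conj.range = x at *
    interval_cases x <;> first | rfl | (norm_num at h6)
  rw [hx6] at hidx
  refine Or.inr ⟨by rw [← H.B.index_mul_card, hidx], ?_⟩
  let c : C ⧸ H.B → ℕ := fun q => if q = 1 then 24 else if H.act q = 1 then 4 else
    if orderOf (H.act q) = 2 then (if q ^ 2 = 1 then 2 else 4) else 3
  have hle := H.card_mul_le c fun g => by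
    have ho := orderOf_pos (g : C ⧸ H.B)
    have hdvd := orderOf_map_dvd H.act (g : C ⧸ H.B)
    simp only [c]
    split_ifs with hg hk ho2 hsq
    · have := H.cent_one g hg
      rw [hidx] at this
      omega
    · -- an element of the normal subgroup has at most six conjugates
      have hgN : g ∈ H.N := by rw [← H.conj_ker]; exact hk
      haveI := Fintype.ofFinite C
      let S : Finset C := Finset.univ.filter fun a => a ∈ H.N ∧ a ∉ H.B ∧ a ^ 2 = g ^ 2
      have hB2 : ∀ a ∈ H.N, a ^ 2 ∈ H.B := fun a ha =>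
        (QuotientGroup.eq_one_iff (N := H.B.subgroupOf H.N) ((⟨a, ha⟩ : H.N) ^ 2)).1
          (by rw [QuotientGroup.mk_pow]; exact h2 _)
      have hS : S.card ≤ 6 := by
        let im : C → C ⧸ H.B := fun a => (a : C ⧸ H.B)
        have h3 : (S.image im).card ≤ 3 := by
          refine (Finset.card_le_card (t := (Finset.univ.erase (1 : H.W)).image H.emb) ?_).trans
            (Finset.card_image_le.trans (by
              rw [Finset.card_erase_of_mem (Finset.mem_univ _), Finset.card_univ, ← Nat.card_eq_fintype_card, hw]))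
          intro q hq
          obtain ⟨a, ha, rfl⟩ := Finset.mem_image.1 hq
          obtain ⟨haN, haB, -⟩ := (Finset.mem_filter.1 ha).2
          refine Finset.mem_image.2 ⟨((⟨a, haN⟩ : H.N) : H.W), ?_, rfl⟩
          simpa [QuotientGroup.eq_one_iff, Subgroup.mem_subgroupOf] using haB
        refine (Finset.card_le_mul_card_image S 2 (f := im) fun q hq => ?_).trans (by omega)
        obtain ⟨a, ha, rfl⟩ := Finset.mem_image.1 hq
        have hb : ∀ b : (S.filter fun b => im b = im a), a⁻¹ * b.1 ∈ H.B := fun b =>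
          QuotientGroup.eq.1 (Finset.mem_filter.1 b.2).2.symm
        have hb2 : ∀ b : (S.filter fun b => im b = im a), (⟨_, hb b⟩ : H.B) ^ 2 = 1 := fun b => Subtype.ext (by
          show (a⁻¹ * b.1) ^ 2 = 1
          have h' : b.1 ^ 2 = a ^ 2 :=
            (Finset.mem_filter.1 (Finset.mem_filter.1 b.2).1).2.2.2.trans (Finset.mem_filter.1 ha).2.2.2.symm
          have hc : Commute a (a⁻¹ * b.1) := (H.central _ (hb b) a).symm
          have := hc.mul_pow 2
          rw [mul_inv_cancel_left, h'] at this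
          exact left_eq_mul.1 this)
        refine le_trans ?_ (H.card_sq_one)
        rw [← Fintype.card_coe, ← Nat.card_eq_fintype_card]
        refine Nat.card_le_card_of_injective (fun b => ⟨_, hb2 b⟩) fun b b' e => Subtype.ext ?_
        exact mul_left_cancel (congrArg (fun z : {b : H.B // b ^ 2 = 1} => (z.1 : C)) e)
      have horb : (Subgroup.centralizer ({g} : Set C)).index ≤ 6 := by
        rw [Subgroup.centralizer_eq_comap_stabilizer]
        refine (Subgroup.index_comap_of_surjective (MulAction.stabilizer (ConjAct C) g)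
          (f := (ConjAct.toConjAct (G := C)).toMonoidHom) ConjAct.toConjAct.surjective).trans_le ?_
        rw [MulAction.index_stabilizer]
        refine le_trans ?_ hS
        rw [← Set.ncard_coe_finset]
        refine Set.ncard_le_ncard (fun a ha => ?_) (Finset.finite_toSet _)
        obtain ⟨h, rfl⟩ := ha
        simp only [S, Finset.coe_filter, Finset.mem_univ, true_and, Set.mem_setOf_eq, ConjAct.smul_def]
        refine ⟨H.normal.conj_mem g hgN _, fun hB => hg ?_, ?_⟩
        · refine (QuotientGroup.eq_one_iff g).2 ?_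
          have := H.normal_B.conj_mem _ hB (ConjAct.ofConjAct h)⁻¹
          simpa [mul_assoc] using this
        · rw [conj_pow, ← H.central _ (hB2 g hgN), mul_inv_cancel_right]
      have h1 := (Subgroup.centralizer ({g} : Set C)).index_mul_card
      rw [← H.B.index_mul_card, hidx] at h1
      have := Nat.mul_le_mul_right (Nat.card (Subgroup.centralizer ({g} : Set C))) horb
      omega
    · refine le_trans (Nat.mul_le_mul_left _ ?_) (H.cent_order g)
      have : orderOf (g : C ⧸ H.B) ≠ 1 := fun e => hg (orderOf_eq_one_iff.1 e)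
      omega
    · refine le_trans (Nat.mul_le_mul_left _ ?_) (H.cent_order g)
      rw [ho2] at hdvd
      have : orderOf (g : C ⧸ H.B) ≠ 2 := fun e => hsq (e ▸ pow_orderOf_eq_one _)
      omega
    · refine le_trans (Nat.mul_le_mul_left _ ?_) (H.cent_order g)
      have h1 : orderOf (H.act (g : C ⧸ H.B)) ≠ 1 := fun e => hk (orderOf_eq_one_iff.1 e)
      have := Nat.le_of_dvd ho hdvd
      have := Nat.pos_of_dvd_of_pos hdvd ho
      omega
  haveI := Fintype.ofFinite H.act.range
  let im : C ⧸ H.B → H.act.range := fun q => ⟨H.act q, q, rfl⟩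
  have hcard : ∀ φ : H.act.range, (Finset.univ.filter fun q => im q = φ).card = 4 := fun φ => by
    rw [← Fintype.card_subtype, ← Nat.card_eq_fintype_card]
    exact (Nat.card_congr (Equiv.subtypeEquivRight fun q => Subtype.ext_iff)).trans
      ((H.card_fibre_eq φ.2).trans hw)
  have hsum : 96 ≤ ∑ q, c q := by
    rw [← Finset.sum_fiberwise Finset.univ im c, ← Finset.add_sum_erase _ _ (Finset.mem_univ (1 : H.act.range))]
    have h1 : 36 ≤ ∑ q ∈ Finset.univ.filter (fun q => im q = 1), c q := by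
      have hm : (1 : C ⧸ H.B) ∈ Finset.univ.filter fun q => im q = 1 :=
        Finset.mem_filter.2 ⟨Finset.mem_univ _, Subtype.ext (map_one H.act)⟩
      rw [← Finset.add_sum_erase _ _ hm]
      have h4 : ∀ q ∈ (Finset.univ.filter fun q => im q = 1).erase 1, c q = 4 := fun q hq =>
        (if_neg (Finset.ne_of_mem_erase hq)).trans
          (if_pos (congrArg Subtype.val (Finset.mem_filter.1 (Finset.mem_of_mem_erase hq)).2))
      rw [Finset.sum_congr rfl h4, Finset.sum_const, Finset.card_erase_of_mem hm, hcard]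
      simp [c]
    have h5 : ∀ φ ∈ Finset.univ.erase (1 : H.act.range), 12 ≤ ∑ q ∈ Finset.univ.filter (fun q => im q = φ), c q := by
      intro φ hφ
      have hφ1 : φ.1 ≠ 1 := fun e => Finset.ne_of_mem_erase hφ (Subtype.ext e)
      have hact : ∀ q ∈ Finset.univ.filter (fun q => im q = φ), H.act q = φ.1 := fun q hq =>
        congrArg Subtype.val (Finset.mem_filter.1 hq).2
      have hc : ∀ q ∈ Finset.univ.filter (fun q => im q = φ),
          c q = if orderOf φ.1 = 2 then (if q ^ 2 = 1 then 2 else 4) else 3 := fun q hq => by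
        have hk : H.act q ≠ 1 := by rw [hact q hq]; exact hφ1
        simp only [c]
        rw [if_neg (fun e : q = 1 => hk (by rw [e, map_one])), if_neg hk, hact q hq]
      rw [Finset.sum_congr rfl hc]
      by_cases ho : orderOf φ.1 = 2
      swap
      · simp only [ho, if_false, Finset.sum_const, hcard]
        norm_num
      simp only [ho, if_true]
      rw [Finset.sum_ite, Finset.sum_const, Finset.sum_const, smul_eq_mul, smul_eq_mul]
      set F := Finset.univ.filter fun q => im q = φ
      have hp : (F.filter fun q => q ^ 2 = 1).card ≤ 2 := by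
        rcases (F.filter fun q => q ^ 2 = 1).eq_empty_or_nonempty with h | ⟨a, ha⟩
        · simp [h]
        let Fix : Subgroup H.W :=
          { carrier := {u | φ.1 u = u}
            one_mem' := map_one φ.1
            mul_mem' := fun {u v} hu hv => (map_mul φ.1 u v).trans (congrArg₂ (· * ·) hu hv)
            inv_mem' := fun {u} hu => (map_inv φ.1 u).trans (congrArg (·⁻¹) hu) }
        have hF : Nat.card Fix ≤ 2 := by
          have hne : Nat.card Fix ≠ 4 := fun e => hφ1 <| MulEquiv.ext fun u =>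
            (Subgroup.eq_top_of_card_eq Fix (e.trans hw.symm) ▸ Subgroup.mem_top u : u ∈ Fix)
          have hdv := Fix.card_subgroup_dvd_card
          rw [hw] at hdv
          have := Nat.le_of_dvd (by norm_num) hdv
          generalize Nat.card Fix = z at *
          interval_cases z <;> first | omega | (norm_num at hdv)
        refine le_trans ?_ hF
        rw [← Fintype.card_coe, ← Nat.card_eq_fintype_card]
        have hu : ∀ b : (F.filter fun q => q ^ 2 = 1), ∃ u : Fix, H.emb u.1 = a⁻¹ * b.1 := by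
          intro b
          obtain ⟨u, hu⟩ := (H.mem_emb_iff (a⁻¹ * b.1)).2 (by
            rw [map_mul, map_inv, hact a (Finset.mem_filter.1 ha).1, hact b (Finset.mem_filter.1 b.2).1,
              inv_mul_cancel])
          refine ⟨⟨u, ?_⟩, hu⟩
          show φ.1 u = u
          have ha2 : a * a = 1 := by rw [← pow_two]; exact (Finset.mem_filter.1 ha).2
          have hb2 : b.1 * b.1 = 1 := by rw [← pow_two]; exact (Finset.mem_filter.1 b.2).2
          have h := H.emb_act a u
          rw [hact a (Finset.mem_filter.1 ha).1, hu, mul_inv_cancel_left] at h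
          apply H.emb_inj
          rw [h, hu]
          have hu2 : H.emb u * H.emb u = 1 := by rw [← map_mul, ← pow_two, h2, map_one]
          rw [hu] at hu2
          calc b.1 * a⁻¹ = b.1⁻¹ * a⁻¹⁻¹ := by
                rw [inv_inv, inv_eq_of_mul_eq_one_left hb2, inv_eq_of_mul_eq_one_left ha2]
            _ = (a⁻¹ * b.1)⁻¹ := (mul_inv_rev _ _).symm
            _ = a⁻¹ * b.1 := inv_eq_of_mul_eq_one_left hu2
        choose u hu using hu
        refine Nat.card_le_card_of_injective u fun b b' e => Subtype.ext (mul_left_cancel (a := a⁻¹) ?_)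
        rw [← hu b, ← hu b', e]
      have hsplit := Finset.card_filter_add_card_filter_not (s := F) (fun q => q ^ 2 = 1)
      have hF4 : F.card = 4 := hcard φ
      omega
    have h5' := Finset.card_nsmul_le_sum _ _ _ h5
    have hr : Nat.card H.act.range = 6 := by rw [H.range_act, hx6]
    rw [Finset.card_erase_of_mem (Finset.mem_univ _), Finset.card_univ, ← Nat.card_eq_fintype_card, hr] at h5'
    simp only [smul_eq_mul] at h5'
    omega
  rw [hidx] at hle
  have := Nat.mul_le_mul_left (Nat.card C) hsum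
  omega

/-- Dimension three. -/
theorem bound_three (hw : Nat.card H.W = 9) : Nat.card C ≤ 60 * cls C := by
  classical
  haveI := Fintype.ofFinite H.W
  haveI := Fintype.ofFinite (C ⧸ H.B)
  have hw' : Nat.card H.W = 3 ^ 2 := by rw [hw]; norm_num
  have h3 : ∀ u : H.W, u ^ 3 = 1 := H.exponent_eq Nat.prime_three hw'
  obtain ⟨u, v, huv⟩ := exists_two_gen (A := H.W) Nat.prime_three hw'.dvd
  have hu1 : u ≠ 1 := by
    rintro rfl
    have hz : Subgroup.zpowers v = ⊤ := top_le_iff.1 (huv.symm.le.trans ((Subgroup.closure_le _).2 (by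
      rintro x (rfl | rfl)
      · exact Subgroup.one_mem _
      · exact Subgroup.mem_zpowers _)))
    have h := congrArg (fun S : Subgroup H.W => Nat.card S) hz
    simp only [Nat.card_zpowers, Subgroup.card_top, hw] at h
    have := orderOf_le_of_pow_eq_one (by norm_num) (h3 v)
    omega
  have hx : Nat.card H.conj.range ≤ 24 := by
    let f : H.conj.range → Σ a : {a : H.W // a ≠ 1}, {b : H.W // H.pair a.1 b = H.pair u v} :=
      fun φ => ⟨⟨φ.1 u, (map_ne_one_iff φ.1 φ.1.injective).2 hu1⟩, φ.1 v, H.pair_fix φ.2 u v⟩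
    have hf : Function.Injective f := fun φ ψ h => Subtype.ext <| aut_eq_of_closure huv (by
      have h1 : φ.1 u = ψ.1 u := congrArg (fun z => (z.1 : H.W)) h
      have h2 : φ.1 v = ψ.1 v := congrArg (fun z => (z.2.1 : H.W)) h
      rintro a (rfl | rfl)
      exacts [h1, h2])
    refine (Nat.card_le_card_of_injective f hf).trans ?_
    rw [Nat.card_sigma]
    refine (Finset.sum_le_card_nsmul _ _ 3 fun a _ => (H.card_pair_fibre a.1 _).trans
      ((H.ker_pair a.2).2 3 Nat.prime_three hw')).trans ?_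
    rw [Finset.card_univ, Fintype.card_subtype_compl, Fintype.card_subtype_eq, ← Nat.card_eq_fintype_card, hw]
    norm_num
  -- an involution of the image is the inversion
  have hinv : ∀ φ ∈ H.conj.range, φ ≠ 1 → φ * φ = 1 → ∀ a, φ a = a⁻¹ := by
    intro φ hφ hne hsq a
    have hh : ∀ b, φ (φ b) = b := fun b => DFunLike.congr_fun hsq b
    by_cases hfix : ∀ b, φ b = b → b = 1
    · have : φ (a * φ a) = a * φ a := by rw [map_mul, hh, mul_comm]
      exact (inv_eq_of_mul_eq_one_right (hfix _ this)).symm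
    exfalso
    push Not at hfix
    obtain ⟨b, hb, hb1⟩ := hfix
    refine hne (MulEquiv.ext fun z => ?_)
    have hk : φ z / z ∈ (H.pair b).ker := by
      rw [MonoidHom.mem_ker, map_div, div_eq_one]
      conv_lhs => rw [← hb]
      exact H.pair_fix hφ b z
    have hzb : Subgroup.zpowers b = (H.pair b).ker := Subgroup.eq_of_le_of_card_ge
      (Subgroup.zpowers_le.2 (H.pair_self b)) (by
        rw [Nat.card_zpowers, orderOf_eq_prime (p := 3) (h3 b) hb1]
        exact (H.ker_pair hb1).2 3 Nat.prime_three hw')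
    rw [← hzb] at hk
    obtain ⟨j, hj⟩ := Subgroup.mem_zpowers_iff.1 hk
    have h1 : φ (φ z / z) = φ z / z := by rw [← hj, map_zpow, hb]
    rw [map_div, hh, ← inv_div (φ z) z, eq_comm, eq_inv_iff_mul_eq_one, ← pow_two] at h1
    show φ z = z
    rw [← div_eq_one]
    calc φ z / z = (φ z / z) ^ 3 / (φ z / z) ^ 2 := by rw [pow_succ (φ z / z) 2, mul_div_cancel_left]
      _ = 1 := by rw [h3, h1, div_one]
  let c : C ⧸ H.B → ℕ := fun q => if q = 1 then H.B.index else if q ^ 2 = 1 then 2 else 3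
  have hle := H.card_mul_le c fun g => by
    simp only [c]
    split_ifs with hg hsq
    · exact H.cent_one g hg
    · refine le_trans (Nat.mul_le_mul_left _ ?_) (H.cent_order g)
      have := orderOf_pos (g : C ⧸ H.B)
      have : orderOf (g : C ⧸ H.B) ≠ 1 := fun e => hg (orderOf_eq_one_iff.1 e)
      omega
    · refine le_trans (Nat.mul_le_mul_left _ ?_) (H.cent_order g)
      have := orderOf_pos (g : C ⧸ H.B)
      have : orderOf (g : C ⧸ H.B) ≠ 1 := fun e => hg (orderOf_eq_one_iff.1 e)
      have : orderOf (g : C ⧸ H.B) ≠ 2 := fun e => hsq (e ▸ pow_orderOf_eq_one _)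
      omega
  set R := Finset.univ.erase (1 : C ⧸ H.B) with hR
  have hinvol : (R.filter fun q => q ^ 2 = 1).card ≤ 9 := by
    rcases (R.filter fun q => q ^ 2 = 1).eq_empty_or_nonempty with h | ⟨a, ha⟩
    · simp [h]
    have hact : ∀ q ∈ R.filter (fun q => q ^ 2 = 1), ∀ z, H.act q z = z⁻¹ := fun q hq => by
      obtain ⟨hq1, hq2⟩ := Finset.mem_filter.1 hq
      refine hinv _ (H.range_act ▸ ⟨q, rfl⟩) (fun e => ?_) (by rw [← map_mul, ← pow_two, hq2, map_one])
      obtain ⟨z, hz⟩ := (H.mem_emb_iff q).2 e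
      apply Finset.ne_of_mem_erase hq1
      rw [← hz] at hq2 ⊢
      have hz2 : z ^ 2 = 1 := H.emb_inj (by rw [map_pow, hq2, map_one])
      rw [show z = 1 by simpa [pow_succ, ← pow_two, hz2] using h3 z, map_one]
    refine le_trans (le_trans ?_ (H.card_fibre (H.act a))) hw.le
    rw [Nat.card_eq_fintype_card, Fintype.card_subtype]
    exact Finset.card_le_card fun q hq => Finset.mem_filter.2
      ⟨Finset.mem_univ _, MulEquiv.ext fun z => (hact q hq z).trans (hact a ha z).symm⟩
  have hn : 0 < H.B.index := Nat.pos_of_ne_zero Subgroup.index_ne_zero_of_finite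
  have hsum : 4 * H.B.index ≤ ∑ q, c q + 12 := by
    rw [← Finset.add_sum_erase _ _ (Finset.mem_univ (1 : C ⧸ H.B)), ← hR]
    have h1 : c 1 = H.B.index := by simp [c]
    rw [h1, Finset.sum_congr rfl (fun q hq => if_neg (Finset.ne_of_mem_erase hq) :
      ∀ q ∈ R, c q = if q ^ 2 = 1 then 2 else 3), Finset.sum_ite, Finset.sum_const, Finset.sum_const]
    have hsplit := Finset.card_filter_add_card_filter_not (s := R) (fun q => q ^ 2 = 1)
    rw [hR, Finset.card_erase_of_mem (Finset.mem_univ _), Finset.card_univ, ← Nat.card_eq_fintype_card,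
      ← Subgroup.index_eq_card, ← hR] at hsplit
    simp only [smul_eq_mul]
    omega
  have hidx := H.index_eq
  rw [hw] at hidx
  have hxp : 0 < Nat.card H.conj.range := Nat.card_pos
  have key : H.B.index ^ 2 + 720 ≤ 240 * H.B.index := by
    rw [hidx]
    generalize Nat.card H.conj.range = x at hx hxp
    interval_cases x <;> norm_num
  have hmul := Nat.mul_le_mul_left (Nat.card C) hsum
  have h60 : Nat.card C * (4 * H.B.index - 12) ≤ 60 * cls C * (4 * H.B.index - 12) :=
    calc Nat.card C * (4 * H.B.index - 12) ≤ Nat.card C * ∑ q, c q := Nat.mul_le_mul_left _ (by omega)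
      _ ≤ H.B.index ^ 2 * cls C := hle
      _ ≤ 60 * (4 * H.B.index - 12) * cls C := Nat.mul_le_mul_right _ (by omega)
      _ = _ := by ring
  exact Nat.le_of_mul_le_mul_right h60 (by omega)

theorem range_le_five (hw : Nat.card H.W = 5 ^ 2) : Nat.card H.conj.range ≤ 625 := by
  obtain ⟨u, v, huv⟩ := exists_two_gen (A := H.W) (by norm_num : Nat.Prime 5) hw.dvd
  refine (Nat.card_le_card_of_injective (fun φ : H.conj.range => (φ.1 u, φ.1 v)) fun φ ψ h => Subtype.ext <|
    aut_eq_of_closure huv (by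
      simp only [Prod.mk.injEq] at h
      rintro a (rfl | rfl)
      exacts [h.1, h.2])).trans ?_
  rw [Nat.card_prod, hw]; norm_num

theorem range_le_six (hw : Nat.card H.W = 6 ^ 2) : Nat.card H.conj.range ≤ 1296 := by
  classical
  let T : ℕ → Subgroup H.W := fun k => (powMonoidHom k : H.W →* H.W).ker
  have hcard : ∀ k (l : ℕ), l.Prime → (∀ x : H.W, x ^ k = 1 → x ^ l = 1 → x = 1) →
      ¬ l ∣ Nat.card (T k) := fun k l hl hk hd => by
    haveI := Fact.mk hl
    obtain ⟨x, hx⟩ := exists_prime_orderOf_dvd_card' (G := T k) l hd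
    have h1 : (x : H.W) ^ k = 1 := x.2
    have := hk x.1 h1 (by rw [← SubmonoidClass.coe_pow, ← hx, pow_orderOf_eq_one]; rfl)
    rw [show x = 1 from Subtype.ext this, orderOf_one] at hx
    exact hl.one_lt.ne hx
  have hcop : ∀ {k l : ℕ} (x : H.W), Nat.Coprime k l → x ^ k = 1 → x ^ l = 1 → x = 1 := fun x hkl hk hl =>
    orderOf_eq_one_iff.1 (Nat.eq_one_of_dvd_coprimes hkl (orderOf_dvd_of_pow_eq_one hk) (orderOf_dvd_of_pow_eq_one hl))
  have h4 : Nat.card (T 4) ∣ 2 ^ 2 := by
    have hd : Nat.card (T 4) ∣ 4 * 9 := by have := (T 4).card_subgroup_dvd_card; rwa [hw] at this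
    refine Nat.Coprime.dvd_of_dvd_mul_right ?_ hd
    exact ((Nat.prime_three.coprime_iff_not_dvd.2 (hcard 4 3 Nat.prime_three fun x => hcop x (by norm_num))).pow_left 2).symm
  have h9 : Nat.card (T 9) ∣ 3 ^ 2 := by
    have hd : Nat.card (T 9) ∣ 9 * 4 := by have := (T 9).card_subgroup_dvd_card; rwa [hw] at this
    refine Nat.Coprime.dvd_of_dvd_mul_right ?_ hd
    exact ((Nat.prime_two.coprime_iff_not_dvd.2 (hcard 9 2 Nat.prime_two fun x => hcop x (by norm_num))).pow_left 2).symm
  obtain ⟨a, b, hab⟩ := exists_two_gen (A := T 4) Nat.prime_two h4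
  obtain ⟨c, d, hcd⟩ := exists_two_gen (A := T 9) Nat.prime_three h9
  have hmem : ∀ k (φ : MulAut H.W) (x : T k), φ x.1 ∈ T k := fun k φ x => by
    show (φ x.1) ^ k = 1
    rw [← map_pow, show x.1 ^ k = 1 from x.2, map_one]
  have hclo : Subgroup.closure ({a.1, b.1, c.1, d.1} : Set H.W) = ⊤ := by
    refine (Subgroup.eq_top_iff' _).2 fun x => ?_
    have h36 : x ^ 36 = 1 := by rw [show 36 = Nat.card H.W by rw [hw]; norm_num]; exact pow_card_eq_one'
    have hsub : ∀ (k : ℕ) (s t : T k), Subgroup.closure ({s, t} : Set (T k)) = ⊤ →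
        ({s.1, t.1} : Set H.W) ⊆ {a.1, b.1, c.1, d.1} → ∀ y : T k, y.1 ∈ Subgroup.closure ({a.1, b.1, c.1, d.1} : Set H.W) := by
      intro k s t hst hs y
      refine Subgroup.closure_mono hs ?_
      have : y.1 ∈ (Subgroup.closure ({s, t} : Set (T k))).map (T k).subtype := ⟨y, hst ▸ Subgroup.mem_top y, rfl⟩
      rwa [MonoidHom.map_closure, Set.image_pair] at this
    have hx9 := hsub 4 a b hab (by intro z hz; simp only [Set.mem_insert_iff, Set.mem_singleton_iff] at hz ⊢; tauto)
      ⟨x ^ 9, show (x ^ 9) ^ 4 = 1 by rw [← pow_mul, h36]⟩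
    have hx4 := hsub 9 c d hcd (by intro z hz; simp only [Set.mem_insert_iff, Set.mem_singleton_iff] at hz ⊢; tauto)
      ⟨x ^ 4, show (x ^ 4) ^ 9 = 1 by rw [← pow_mul, h36]⟩
    have := Subgroup.mul_mem _ hx9 (Subgroup.inv_mem _ (Subgroup.pow_mem _ hx4 2))
    have e : x ^ 9 * ((x ^ 4) ^ 2)⁻¹ = x := by rw [← pow_mul, pow_succ' x 8, mul_inv_cancel_right]
    exact (congrArg (· ∈ Subgroup.closure ({a.1, b.1, c.1, d.1} : Set H.W)) e).mp this
  let f : H.conj.range → T 4 × T 4 × T 9 × T 9 := fun φ =>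
    (⟨_, hmem 4 φ.1 a⟩, ⟨_, hmem 4 φ.1 b⟩, ⟨_, hmem 9 φ.1 c⟩, ⟨_, hmem 9 φ.1 d⟩)
  refine (Nat.card_le_card_of_injective f fun φ ψ h => Subtype.ext <| aut_eq_of_closure hclo (by
    simp only [f, Prod.mk.injEq, Subtype.mk.injEq] at h
    rintro z (rfl | rfl | rfl | rfl)
    exacts [h.1, h.2.1, h.2.2.1, h.2.2.2])).trans ?_
  simp only [Nat.card_prod]
  calc _ ≤ 4 * (4 * (9 * 9)) := by
        gcongr <;> first | exact Nat.le_of_dvd (by norm_num) h4 | exact Nat.le_of_dvd (by norm_num) h9
    _ = _ := by norm_num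

theorem range_le_base (hw : 1 < Nat.card H.W) (a b c : H.W)
    (h : ∀ φ ∈ H.conj.range, φ a = a → φ b = b → φ c = c → φ = 1) :
    4 * Nat.card H.conj.range ≤ Nat.card H.W ^ 3 := by
  classical
  haveI := Fintype.ofFinite H.W
  obtain ⟨a', ha', h'⟩ : ∃ a' : H.W, a' ≠ 1 ∧ ∀ φ ∈ H.conj.range, φ a' = a' → φ b = b → φ c = c → φ = 1 := by
    by_cases ha : a = 1
    · haveI := Finite.one_lt_card_iff_nontrivial.1 hw
      obtain ⟨u, hu⟩ := exists_ne (1 : H.W)
      exact ⟨u, hu, fun φ hφ _ h2 h3 => h φ hφ (by rw [ha, map_one]) h2 h3⟩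
    · exact ⟨a, ha, h⟩
  let f : H.conj.range → Σ u : {u : H.W // u ≠ 1},
      {v : H.W // H.pair u.1 v = H.pair a' b} × {v : H.W // H.pair u.1 v = H.pair a' c} := fun φ =>
    ⟨⟨φ.1 a', (map_ne_one_iff φ.1 φ.1.injective).2 ha'⟩, ⟨φ.1 b, H.pair_fix φ.2 a' b⟩,
      ⟨φ.1 c, H.pair_fix φ.2 a' c⟩⟩
  have hf : Function.Injective f := fun φ ψ e => by
    have h1 : φ.1 a' = ψ.1 a' := congrArg (fun z => (z.1 : H.W)) e
    have h2 : φ.1 b = ψ.1 b := congrArg (fun z => (z.2.1 : H.W)) e
    have h3 : φ.1 c = ψ.1 c := congrArg (fun z => (z.2.2 : H.W)) e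
    refine (inv_mul_eq_one.1 (Subtype.ext (h' _ (ψ⁻¹ * φ).2 ?_ ?_ ?_))).symm
    all_goals
      show ψ.1⁻¹ (φ.1 _) = _
      rw [MulAut.inv_def, MulEquiv.symm_apply_eq]
      assumption
  have := Nat.card_le_card_of_injective f hf
  rw [Nat.card_sigma] at this
  calc 4 * Nat.card H.conj.range
      ≤ 4 * ∑ u : {u : H.W // u ≠ 1}, Nat.card ({v : H.W // H.pair u.1 v = H.pair a' b} × {v : H.W // H.pair u.1 v = H.pair a' c}) :=
        Nat.mul_le_mul_left _ this
    _ = ∑ u : {u : H.W // u ≠ 1}, Nat.card {v : H.W // H.pair u.1 v = H.pair a' b} * 2 *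
          (Nat.card {v : H.W // H.pair u.1 v = H.pair a' c} * 2) := by
        rw [Finset.mul_sum]; exact Finset.sum_congr rfl fun u _ => by rw [Nat.card_prod]; ring
    _ ≤ ∑ _u : {u : H.W // u ≠ 1}, Nat.card H.W * Nat.card H.W := Finset.sum_le_sum fun u _ =>
        Nat.mul_le_mul ((Nat.mul_le_mul_right 2 (H.card_pair_fibre _ _)).trans (H.ker_pair u.2).1)
          ((Nat.mul_le_mul_right 2 (H.card_pair_fibre _ _)).trans (H.ker_pair u.2).1)
    _ ≤ Nat.card H.W * (Nat.card H.W * Nat.card H.W) := by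
        rw [Finset.sum_const, smul_eq_mul]
        refine Nat.mul_le_mul_right _ ?_
        rw [Nat.card_eq_fintype_card]
        exact (Finset.card_univ (α := {u : H.W // u ≠ 1})) ▸ Fintype.card_subtype_le _
    _ = _ := by ring

theorem pow_eight_le_fb : ∀ e, 7 ≤ e → e ^ 8 + 4 ≤ 12 * fb e := by
  intro e he
  induction e, he using Nat.le_induction with
  | base => norm_num [fb]
  | succ e he ih =>
    have h1 : (e + 1) ^ 8 * 7 ^ 8 ≤ e ^ 8 * 8 ^ 8 := by
      rw [← mul_pow, ← mul_pow]; exact Nat.pow_le_pow_left (by omega) 8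
    rw [fb_of_two_le (show 2 ≤ e + 1 by omega), show e + 1 - 2 = (e - 2) + 1 by omega, pow_succ 10]
    rw [fb_of_two_le (show 2 ≤ e by omega)] at ih
    generalize (e + 1) ^ 8 = A, e ^ 8 = B, 10 ^ (e - 2) = D at *
    norm_num at h1
    omega

/-- All dimensions. -/
theorem bound {d : ℕ} (hd : Nat.card H.W ≤ d ^ 2)
    (h72 : Nat.card H.W = 4 ^ 2 → Nat.card H.conj.range ≤ 72)
    (hbase : ∃ a b c : H.W, ∀ φ ∈ H.conj.range, φ a = a → φ b = b → φ c = c → φ = 1) :
    (Nat.card H.W = 1 ∧ cls C = Nat.card C) ∨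
      ∃ e, 2 ≤ e ∧ e ≤ d ∧ Nat.card C ≤ fb e * cls C ∧
        (e = 2 → Nat.card C ≤ 5 * cls C ∨ (Nat.card C = 24 * Nat.card H.B ∧ Nat.card C ≤ 6 * cls C)) := by
  obtain ⟨e, he0, hw⟩ := H.exists_sq
  by_cases he1 : e = 1
  · subst he1
    rw [one_pow] at hw
    exact Or.inl ⟨hw, H.bound_one hw⟩
  refine Or.inr ⟨e, by omega, (Nat.pow_le_pow_iff_left two_ne_zero).1 (hw ▸ hd), ?_⟩
  have hidx := H.index_eq
  rcases (show e = 2 ∨ e = 3 ∨ e = 4 ∨ e = 5 ∨ e = 6 ∨ 7 ≤ e by omega) with rfl | rfl | rfl | rfl | rfl | h7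
  · have h := H.bound_two hw
    refine ⟨?_, fun _ => h⟩
    rw [fb_two]
    omega
  · refine ⟨?_, fun h => absurd h (by norm_num)⟩
    exact H.bound_three hw
  · refine ⟨H.simple_bound ?_, fun h => absurd h (by norm_num)⟩
    have := h72 hw
    rw [hw] at hidx
    simp only [fb]
    omega
  · refine ⟨H.simple_bound ?_, fun h => absurd h (by norm_num)⟩
    have := H.range_le_five hw
    rw [hw] at hidx
    simp only [fb]
    omega
  · refine ⟨H.simple_bound ?_, fun h => absurd h (by norm_num)⟩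
    have := H.range_le_six hw
    rw [hw] at hidx
    simp only [fb]
    omega
  · refine ⟨H.simple_bound ?_, fun h => absurd h (by omega)⟩
    obtain ⟨a, b, c, habc⟩ := hbase
    have h1 := H.range_le_base (hw ▸ Nat.one_lt_pow two_ne_zero (by omega)) a b c habc
    have h2 := pow_eight_le_fb e h7
    have h3 := Nat.mul_le_mul_left (Nat.card H.W) h1
    rw [hidx]
    rw [hw] at h3 ⊢
    rw [show e ^ 2 * (e ^ 2) ^ 3 = e ^ 8 by ring, mul_left_comm] at h3
    omega

end Cfsg.Agent.ClassBoundSq.Heis
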