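import Cfsg.Agent.ClassBoundSq.Induct
import Cfsg.Agent.ClassBoundSq.HeisBound

/-!
A maximal abelian normal subgroup of scalars: the centraliser and the chief factors above it.
-/

set_option autoImplicit false
set_option maxHeartbeats 1000000

namespace Cfsg.Agent.ClassBoundSq

open BaseTwo BaseTwo.Setting MulAction

universe u

variable {K V : Type u} {H : Type u} [Field K] [Finite K] [AddCommGroup V] [Module K V] [Nontrivial V]
  [Group H] [DistribMulAction H V] [Finite H] [Group.IsSolvable H] (T : Setting K V H)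

/-- The join of the chief factors above the scalars. -/
def top (T : Setting K V H) : Subgroup H := T.B ⊔ ⨆ D : {D : Subgroup H // T.Chief D}, D.1

omit [Finite K] [Nontrivial V] [Finite H] [Group.IsSolvable H] in
theorem top_le_C : top T ≤ T.C := sup_le T.B_le_C (iSup_le fun D => D.2.le)

omit [Finite K] [Nontrivial V] [Finite H] [Group.IsSolvable H] in
theorem chief_le_top {D : Subgroup H} (hD : T.Chief D) : D ≤ top T := by
  intro x hx
  exact Subgroup.mem_sup_right (Subgroup.mem_iSup_of_mem (⟨D, hD⟩ : {D : Subgroup H // T.Chief D}) hx)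

omit [Finite K] [Nontrivial V] [Finite H] [Group.IsSolvable H] in
theorem top_normal : (top T).Normal := by
  haveI := T.normal
  haveI : ∀ D : {D : Subgroup H // T.Chief D}, D.1.Normal := fun D => D.2.normal
  haveI := Subgroup.iSup_normal (fun D : {D : Subgroup H // T.Chief D} => D.1)
  exact Subgroup.sup_normal _ _

omit [Finite K] [Nontrivial V] [Finite H] in
theorem top_comm {a b : H} (ha : a ∈ top T) (hb : b ∈ top T) : a * b * a⁻¹ * b⁻¹ ∈ T.B := by
  haveI := T.normal
  let π := QuotientGroup.mk' T.B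
  have hpair : ∀ D D' : {D : Subgroup H // T.Chief D}, ∀ x ∈ D.1, ∀ y ∈ D'.1, x * y * x⁻¹ * y⁻¹ ∈ T.B := by
    intro D D' x hx y hy
    by_cases h : D.1 = D'.1
    · exact Chief.commutator_mem D.2 hx (h ▸ hy)
    haveI := D.2.normal
    haveI := D'.2.normal
    have hxy : x * y * x⁻¹ * y⁻¹ ∈ D.1 ⊓ D'.1 := by
      refine ⟨?_, D'.1.mul_mem (D'.2.normal.conj_mem y hy x) (D'.1.inv_mem hy)⟩
      rw [mul_assoc x, mul_assoc x]
      exact D.1.mul_mem hx (D.2.normal.conj_mem _ (D.1.inv_mem hx) y)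
    rcases D.2.mini (D.1 ⊓ D'.1) inferInstance (le_inf D.2.lt.le D'.2.lt.le) inf_le_left with e | e
    · exact e ▸ hxy
    · exfalso
      rcases D'.2.mini D.1 D.2.normal D.2.lt.le (e ▸ inf_le_right) with e' | e'
      · exact D.2.lt.ne e'.symm
      · exact h e'
  have hc : ∀ x y : H, x * y * x⁻¹ * y⁻¹ ∈ T.B ↔ π y * π x = π x * π y := fun x y => by
    rw [← QuotientGroup.eq_one_iff, eq_comm (a := π y * π x), ← mul_inv_eq_one (b := π y * π x), mul_inv_rev,
      ← mul_assoc]
    rfl
  have hB : ∀ x ∈ T.B, π x = 1 := fun x hx => (QuotientGroup.eq_one_iff x).2 hx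
  have h1 : ∀ D : {D : Subgroup H // T.Chief D}, top T ≤ (Subgroup.centralizer (π '' D.1)).comap π := fun D =>
    sup_le (fun x hx => by
      rintro _ ⟨y, -, rfl⟩
      rw [hB x hx, one_mul, mul_one]) (iSup_le fun D' x hx => by
      rintro _ ⟨y, hy, rfl⟩
      exact (hc x y).1 (hpair D' D x hx y hy))
  have h2 : top T ≤ (Subgroup.centralizer (π '' (top T : Set H))).comap π :=
    sup_le (fun x hx => by
      rintro _ ⟨y, -, rfl⟩
      rw [hB x hx, one_mul, mul_one]) (iSup_le fun D x hx => by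
      rintro _ ⟨y, hy, rfl⟩
      exact ((h1 D hy) (π x) ⟨x, hx, rfl⟩).symm)
  exact (hc a b).2 (h2 ha (π b) ⟨b, hb, rfl⟩)

omit [Finite K] in
theorem top_cent {c : H} (hc : c ∈ T.C) (h : ∀ x ∈ top T, c * x = x * c) : c ∈ T.B := by
  haveI := top_normal T
  haveI := T.C_normal
  let E := T.C ⊓ Subgroup.centralizer (top T : Set H)
  have hBE : T.B ≤ E := le_inf T.B_le_C fun b hb x hx => T.mem_C.1 (top_le_C T hx) b hb
  by_contra hcB
  obtain ⟨D, hD, hDE⟩ := T.exists_chief E inferInstance inf_le_left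
    (lt_of_le_of_ne hBE fun e => hcB (e ▸ ⟨hc, fun x hx => (h x hx).symm⟩))
  exact Chief.not_comm hD fun a ha b hb => ((hDE ha).2 b (chief_le_top T hD hb)).symm

omit [Finite K] [Finite H] [Group.IsSolvable H] in
theorem exists_scalar_hom : ∃ χ : T.B.subgroupOf T.C →* Kˣ, Function.Injective χ ∧
    ∀ b : T.B.subgroupOf T.C, T.L b.1 = (χ b : K) • 1 := by
  choose k hk0 hk using fun b : T.B.subgroupOf T.C => T.L_scalar b.1 b.2
  refine ⟨MonoidHom.mk' (fun b => Units.mk0 (k b) (hk0 b)) fun a b => Units.ext (Setting.smul_one_inj (V := V) ?_),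
    fun a b h => ?_, hk⟩
  · show k (a * b) • (1 : Module.End K V) = (k a * k b) • 1
    rw [← hk, Subgroup.coe_mul, T.L_mul, hk, hk, smul_mul_smul_comm, mul_one]
  · have h' : k a = k b := congrArg Units.val h
    refine Subtype.ext (Subtype.ext (inv_mul_eq_one.1 (T.faithful _ fun v => ?_)).symm).symm
    have e : T.L a.1 v = T.L b.1 v := by rw [hk, hk, h']
    show (a.1.1⁻¹ * b.1.1) • v = v
    rw [mul_smul, inv_smul_eq_iff]
    exact e.symm

/-- The Heisenberg data of the centraliser. -/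
noncomputable def heis : Heis K T.C where
  B := T.B.subgroupOf T.C
  N := (top T).subgroupOf T.C
  normal := haveI := top_normal T; inferInstance
  central b hb c := Subtype.ext (T.mem_C.1 c.2 b.1 hb).symm
  le b hb := le_sup_left (b := ⨆ D : {D : Subgroup H // T.Chief D}, D.1) (hb : b.1 ∈ T.B)
  comm a ha b hb := top_comm T ha hb
  cent c hc := top_cent T c.2 fun x hx => congrArg Subtype.val (hc ⟨x, top_le_C T hx⟩ hx)
  χ := (exists_scalar_hom T).choose
  inj := (exists_scalar_hom T).choose_spec.1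

theorem heis_scalar (b : (heis T).B) : T.L b.1 = ((heis T).χ b : K) • 1 :=
  (exists_scalar_hom T).choose_spec.2 b

/-- The coset operators are independent. -/
theorem card_W_le [Finite V] : Nat.card (heis T).W ≤ Module.finrank K V ^ 2 := by
  classical
  let R := heis T
  haveI := Fintype.ofFinite R.W
  haveI : FiniteDimensional K V := Module.Finite.of_finite
  let rep : R.W → R.N := fun u => u.out
  have hrep : ∀ u : R.W, ((rep u : R.N) : R.W) = u := fun u => QuotientGroup.out_eq' u
  have hcomm : ∀ a n : R.N, T.L a.1 * T.L n.1 = (R.pair a n : K) • (T.L n.1 * T.L a.1) := fun a n => by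
    rw [R.pair_mk, ← one_mul (T.L n.1 * T.L a.1), ← smul_mul_assoc, ← heis_scalar T (R.br a n), ← T.L_mul,
      ← T.L_mul, ← T.L_mul]
    congr 1
    show a.1 * n.1 = a.1 * n.1 * a.1⁻¹ * n.1⁻¹ * (n.1 * a.1)
    group
  have hne : ∀ c : T.C, T.L c ≠ 0 := fun c e => by
    obtain ⟨z, hz⟩ := exists_ne (0 : V)
    exact hz ((smul_eq_zero_iff_eq c.1).1 (LinearMap.congr_fun e z))
  have hli : LinearIndependent K fun u => T.L (rep u).1 := by
    rw [Fintype.linearIndependent_iff]
    intro g hg i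
    have hchar := (linearIndependent_monoidHom R.W K).comp
      (fun u => (Units.coeHom K).comp (R.pair u)) fun u v e =>
        R.pair_inj (MonoidHom.ext fun x => Units.ext (DFunLike.congr_fun e x))
    have hn : ∀ n : R.N, ∑ u, (g u * (R.pair u n : K)) • T.L (rep u).1 = 0 := by
      intro n
      refine LinearMap.ext fun z => MulAction.injective (n.1.1 : H) ?_
      show T.L n.1 ((∑ u, (g u * (R.pair u n : K)) • T.L (rep u).1) z) = n.1.1 • (0 : V)
      have e : T.L n.1 * (∑ u, (g u * (R.pair u n : K)) • T.L (rep u).1) = (∑ u, g u • T.L (rep u).1) * T.L n.1 := by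
        rw [Finset.mul_sum, Finset.sum_mul]
        exact Finset.sum_congr rfl fun u _ => by rw [smul_mul_assoc, hcomm, hrep, mul_smul_comm, smul_smul]
      rw [smul_zero, ← Module.End.mul_apply, e, hg, zero_mul, LinearMap.zero_apply]
    by_contra hi
    obtain ⟨φ, hφ⟩ : ∃ φ : Module.Dual K (Module.End K V), φ (T.L (rep i).1) ≠ 0 := by
      by_contra h
      push Not at h
      exact hne _ ((Module.forall_dual_apply_eq_zero_iff K _).1 h)
    have h0 := (Fintype.linearIndependent_iff.1 hchar) (fun u => g u * φ (T.L (rep u).1)) (funext fun x => by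
      induction x using QuotientGroup.induction_on with | _ n =>
      have := congrArg φ (hn n)
      simp only [map_sum, map_smul, smul_eq_mul, map_zero] at this
      simp only [Finset.sum_apply, Pi.smul_apply, smul_eq_mul, Function.comp_apply, Pi.zero_apply]
      rw [← this]
      exact Finset.sum_congr rfl fun u _ => by
        show g u * φ (T.L (rep u).1) * (R.pair u n : K) = _
        ring) i
    exact mul_ne_zero hi hφ h0
  have := hli.fintype_card_le_finrank
  have h2 : Module.finrank K (Module.End K V) = Module.finrank K V * Module.finrank K V :=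
    Module.finrank_linearMap K K V V
  rw [h2, ← sq, ← Nat.card_eq_fintype_card] at this
  exact this

/-- Conjugation on the join. -/
@[reducible] noncomputable def topConj (g : H) : (heis T).N →* (heis T).N where
  toFun a := ⟨⟨g * a.1.1 * g⁻¹, T.C_normal.conj_mem _ a.1.2 g⟩, (top_normal T).conj_mem _ a.2 g⟩
  map_one' := Subtype.ext (Subtype.ext (by show g * 1 * g⁻¹ = 1; group))
  map_mul' a b := Subtype.ext (Subtype.ext (by
    show g * (a.1.1 * b.1.1) * g⁻¹ = g * a.1.1 * g⁻¹ * (g * b.1.1 * g⁻¹); group))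

/-- The whole group acts on the quotient. -/
@[reducible] noncomputable def wAction : DistribMulAction H (Additive (heis T).W) where
  smul g u := Additive.ofMul (QuotientGroup.map _ _ (topConj T g) (fun _ ha => T.normal.conj_mem _ ha g) u.toMul)
  one_smul u := by
    obtain ⟨a, rfl⟩ := QuotientGroup.mk_surjective u.toMul
    exact congrArg Additive.ofMul (congrArg _ (Subtype.ext (Subtype.ext (by show 1 * _ * (1 : H)⁻¹ = _; group))))
  mul_smul g h u := by
    obtain ⟨a, rfl⟩ := QuotientGroup.mk_surjective u.toMul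
    exact congrArg Additive.ofMul (congrArg _ (Subtype.ext (Subtype.ext (by
      show (g * h) * _ * (g * h)⁻¹ = g * (h * _ * h⁻¹) * g⁻¹; group))))
  smul_zero g := congrArg Additive.ofMul (map_one _)
  smul_add g u v := congrArg Additive.ofMul (map_mul _ _ _)

theorem wAction_mk (g : H) (a : (heis T).N) :
    letI := wAction T
    g • Additive.ofMul ((a : (heis T).W)) = Additive.ofMul ((topConj T g a : (heis T).N) : (heis T).W) := rfl

/-- The quotient is a semisimple module. -/
theorem w_cr : letI := wAction T; CR H (Additive (heis T).W) := by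
  letI := wAction T
  intro U hU
  obtain ⟨W', ⟨hW', hdis⟩, hmax⟩ := Set.Finite.exists_maximal
    (Set.toFinite {W' : AddSubgroup (Additive (heis T).W) | (∀ g : H, ∀ u ∈ W', g • u ∈ W') ∧ U ⊓ W' = ⊥})
    ⟨⊥, fun g u hu => by rw [AddSubgroup.mem_bot] at hu ⊢; rw [hu, smul_zero], inf_bot_eq _⟩
  refine ⟨W', hW', hdis, ?_⟩
  have hsupinv : ∀ g : H, ∀ u ∈ U ⊔ W', g • u ∈ U ⊔ W' := fun g u hu => by
    obtain ⟨x, hx, y, hy, rfl⟩ := AddSubgroup.mem_sup.1 hu
    rw [smul_add]
    exact AddSubgroup.mem_sup.2 ⟨_, hU g x hx, _, hW' g y hy, rfl⟩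
  let mk : ∀ x : H, x ∈ top T → Additive (heis T).W := fun x hx =>
    Additive.ofMul (((⟨⟨x, top_le_C T hx⟩, hx⟩ : (heis T).N)) : (heis T).W)
  let S : Subgroup H :=
    { carrier := {x | ∃ hx : x ∈ top T, mk x hx ∈ U ⊔ W'}
      one_mem' := ⟨(top T).one_mem, AddSubgroup.zero_mem _⟩
      mul_mem' := fun {x y} ⟨hx, hx'⟩ ⟨hy, hy'⟩ => ⟨(top T).mul_mem hx hy, AddSubgroup.add_mem _ hx' hy'⟩
      inv_mem' := fun {x} ⟨hx, hx'⟩ => ⟨(top T).inv_mem hx, AddSubgroup.neg_mem _ hx'⟩ }
  have hBS : T.B ≤ S := fun b hb => ⟨le_sup_left (a := T.B) hb, by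
    have : mk b (le_sup_left (a := T.B) hb) = 0 := congrArg Additive.ofMul ((QuotientGroup.eq_one_iff _).2 hb)
    rw [this]; exact AddSubgroup.zero_mem _⟩
  have hDS : ∀ D : Subgroup H, T.Chief D → D ≤ S := by
    intro D hD
    have hn : (D ⊓ S).Normal := ⟨fun x hx g => ⟨hD.normal.conj_mem x hx.1 g, by
      obtain ⟨hxt, hx'⟩ := hx.2
      exact ⟨(top_normal T).conj_mem x hxt g, hsupinv g _ hx'⟩⟩⟩
    rcases hD.mini (D ⊓ S) hn (le_inf hD.lt.le hBS) inf_le_left with e | e
    swap
    · exact e ▸ inf_le_right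
    exfalso
    let E : AddSubgroup (Additive (heis T).W) :=
      { carrier := {u | ∃ x, ∃ hx : x ∈ D, mk x (chief_le_top T hD hx) = u}
        zero_mem' := ⟨1, D.one_mem, rfl⟩
        add_mem' := by rintro _ _ ⟨x, hx, rfl⟩ ⟨y, hy, rfl⟩; exact ⟨x * y, D.mul_mem hx hy, rfl⟩
        neg_mem' := by rintro _ ⟨x, hx, rfl⟩; exact ⟨x⁻¹, D.inv_mem hx, rfl⟩ }
    have hEinv : ∀ g : H, ∀ u ∈ E, g • u ∈ E := by
      rintro g _ ⟨x, hx, rfl⟩
      exact ⟨g * x * g⁻¹, hD.normal.conj_mem x hx g, rfl⟩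
    have hEdis : ∀ u ∈ E, u ∈ U ⊔ W' → u = 0 := by
      rintro _ ⟨x, hx, rfl⟩ hx'
      have : x ∈ T.B := e ▸ (⟨hx, _, hx'⟩ : x ∈ D ⊓ S)
      exact congrArg Additive.ofMul ((QuotientGroup.eq_one_iff _).2 this)
    have hle : W' ⊔ E ≤ W' := hmax ⟨fun g u hu => by
      obtain ⟨x, hx, y, hy, rfl⟩ := AddSubgroup.mem_sup.1 hu
      rw [smul_add]
      exact AddSubgroup.mem_sup.2 ⟨_, hW' g x hx, _, hEinv g y hy, rfl⟩, by
      refine (AddSubgroup.eq_bot_iff_forall _).2 fun u hu => ?_
      obtain ⟨x, hx, y, hy, hxy⟩ := AddSubgroup.mem_sup.1 hu.2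
      have hy0 : y = 0 := hEdis y hy (by
        rw [show y = u - x from eq_sub_of_add_eq' hxy]
        exact AddSubgroup.sub_mem _ (AddSubgroup.mem_sup_left hu.1) (AddSubgroup.mem_sup_right hx))
      rw [hy0, add_zero] at hxy
      exact (AddSubgroup.eq_bot_iff_forall _).1 hdis u ⟨hu.1, hxy ▸ hx⟩⟩ le_sup_left
    obtain ⟨d, hd, hdB⟩ : ∃ d, d ∈ D ∧ d ∉ T.B := Set.exists_of_ssubset hD.lt
    apply hdB
    rw [← e]
    exact ⟨hd, chief_le_top T hD hd,
      AddSubgroup.mem_sup_right (hle (AddSubgroup.mem_sup_right ⟨d, hd, rfl⟩))⟩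
  refine (AddSubgroup.eq_top_iff' _).2 fun u => ?_
  obtain ⟨a, ha⟩ := QuotientGroup.mk_surjective u.toMul
  obtain ⟨hx, h⟩ := (sup_le hBS (iSup_le fun D => hDS D.1 D.2) : top T ≤ S) a.2
  rw [← ofMul_toMul u, ← ha]
  exact h

omit [Finite H] [Group.IsSolvable H] in
/-- The index of the centraliser is at most the degree of the field. -/
theorem index_le {p b : ℕ} [Fact p.Prime] (hb : Nat.card K = p ^ b) : T.C.index ≤ b := by
  classical
  haveI := Fintype.ofFinite K
  haveI : CharP K p := charP_of_card_eq_prime_pow (f := b) (by rw [← Nat.card_eq_fintype_card, hb])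
  letI := ZMod.algebra K p
  have hrank : Module.finrank (ZMod p) K = b := by
    have h := Module.natCard_eq_pow_finrank (K := ZMod p) (V := K)
    rw [hb, Nat.card_zmod] at h
    exact (Nat.pow_right_injective (Fact.out : p.Prime).two_le h).symm
  let toAlg : (K ≃+* K) → (K ≃ₐ[ZMod p] K) := fun e => AlgEquiv.ofRingEquiv (f := e) fun x =>
    RingHom.congr_fun (Subsingleton.elim (e.toRingHom.comp (algebraMap (ZMod p) K)) (algebraMap (ZMod p) K)) x
  let f : H ⧸ T.C → (K ≃ₐ[ZMod p] K) := fun q => toAlg (T.σ q.out)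
  have hf : Function.Injective f := fun x y h => by
    have hσ : T.σ x.out = T.σ y.out := RingEquiv.ext fun k => DFunLike.congr_fun h k
    rw [← QuotientGroup.out_eq' x, ← QuotientGroup.out_eq' y]
    refine QuotientGroup.eq.2 (T.mem_C.2 fun c hc => ?_)
    obtain ⟨k, hk⟩ := T.scalar c hc
    have hcj : x.out * c * x.out⁻¹ = y.out * c * y.out⁻¹ := by
      refine inv_mul_eq_one.1 (T.faithful _ fun v => ?_)
      have h1 : ∀ g : H, ∀ v : V, (g * c * g⁻¹) • v = T.σ g k • v := fun g v => by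
        rw [mul_smul, mul_smul, hk, T.semi, smul_inv_smul]
      rw [mul_smul, inv_smul_eq_iff, h1, h1, hσ]
    calc x.out⁻¹ * y.out * c = x.out⁻¹ * (y.out * c * y.out⁻¹) * y.out := by group
      _ = x.out⁻¹ * (x.out * c * x.out⁻¹) * y.out := by rw [hcj]
      _ = c * (x.out⁻¹ * y.out) := by group
  calc T.C.index ≤ Nat.card (K ≃ₐ[ZMod p] K) := Nat.card_le_card_of_injective f hf
    _ = b := by rw [IsGalois.card_aut_eq_finrank, hrank]

theorem card_B_dvd : Nat.card (heis T).B ∣ Nat.card K - 1 := by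
  rw [← Nat.card_units]
  exact Subgroup.card_dvd_of_injective _ (heis T).inj

theorem w_one_of_coprime (h : (Nat.card (heis T).W).Coprime (Nat.card K - 1)) : Nat.card (heis T).W = 1 := by
  refine Nat.card_eq_one_iff_unique.2 ⟨⟨fun u v => (heis T).pair_inj (MonoidHom.ext fun x => ?_)⟩, ⟨1⟩⟩
  have key : ∀ u, (heis T).pair u x = 1 := fun u => by
    refine orderOf_eq_one_iff.1 (Nat.eq_one_of_dvd_coprimes h (orderOf_dvd_of_pow_eq_one ?_)
      (Nat.card_units K ▸ orderOf_dvd_natCard _))
    rw [← MonoidHom.pow_apply, ← map_pow, pow_card_eq_one', map_one, MonoidHom.one_apply]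
  rw [key, key]

end Cfsg.Agent.ClassBoundSq
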