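import Cfsg.Agent.ClassBoundSq.Count

/-!
Groups with at most four classes are small.
-/

set_option autoImplicit false

namespace Cfsg.Agent.ClassBoundSq

theorem two_sizes {n a : ℕ} (hn : n = 1 + a) (ha : a ∣ n) : n ≤ 2 := by
  have : a ∣ 1 := (Nat.dvd_add_left (dvd_refl a)).1 (hn ▸ ha)
  have := Nat.le_of_dvd one_pos this
  omega

theorem three_sizes {n a b : ℕ} (hn : n = 1 + a + b) (ha : a ∣ n) (hb : b ∣ n) (hab : b ≤ a) (hb0 : 0 < b) :
    n ≤ 6 := by
  obtain ⟨q, hq⟩ := ha
  have hq1 : 2 ≤ q := by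
    by_contra h
    interval_cases q <;> omega
  rcases (show q = 2 ∨ 3 ≤ q by omega) with rfl | h3
  · have h1 : b ∣ a * 2 := hq ▸ hb
    rw [show a = b + 1 by omega, add_mul, one_mul] at h1
    have := Nat.le_of_dvd two_pos ((Nat.dvd_add_right (dvd_mul_right b 2)).1 h1)
    omega
  · have := Nat.mul_le_mul_left a h3
    omega

theorem four_sizes {n a b c : ℕ} (hn : n = 1 + a + b + c) (ha : a ∣ n) (hb : b ∣ n) (hc : c ∣ n)
    (hab : b ≤ a) (hbc : c ≤ b) (hc0 : 0 < c) : n ≤ 42 := by
  obtain ⟨q, hq⟩ := ha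
  have hq1 : 2 ≤ q := by
    by_contra h
    interval_cases q <;> omega
  rcases (show q = 2 ∨ q = 3 ∨ 4 ≤ q by omega) with rfl | rfl | h4
  · obtain ⟨t, ht⟩ := hb
    by_cases hb2 : b ≤ 2
    · omega
    have ht4 : t ≤ 4 := by
      by_contra h
      have := Nat.mul_le_mul_left b (show 5 ≤ t by omega)
      omega
    have ht3 : 3 ≤ t := by
      by_contra h
      have := Nat.mul_le_mul_left b (show t ≤ 2 by omega)
      omega
    obtain ⟨w, hw⟩ := hc
    rcases (show t = 3 ∨ t = 4 by omega) with rfl | rfl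
    · obtain ⟨u, hu⟩ : 2 ∣ b := by omega
      have : c ∣ 6 + c * 6 := ⟨w, by omega⟩
      have := Nat.le_of_dvd (by norm_num) ((Nat.dvd_add_left (dvd_mul_right c 6)).1 this)
      omega
    · have : c ∣ 4 + c * 4 := ⟨w, by omega⟩
      have := Nat.le_of_dvd (by norm_num) ((Nat.dvd_add_left (dvd_mul_right c 4)).1 this)
      omega
  · rcases Nat.lt_or_ge b a with h | h
    · omega
    · obtain ⟨w, hw⟩ := hc
      have : c ∣ 3 + c * 3 := ⟨w, by omega⟩
      have := Nat.le_of_dvd (by norm_num) ((Nat.dvd_add_left (dvd_mul_right c 3)).1 this)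
      omega
  · have := Nat.mul_le_mul_left a h4
    omega

/-- Groups with at most four classes. -/
theorem card_le_of_cls {G : Type*} [Group G] [Finite G] :
    (cls G ≤ 2 → Nat.card G ≤ 2) ∧ (cls G ≤ 4 → Nat.card G ≤ 42) := by
  classical
  haveI := Fintype.ofFinite G
  haveI := Fintype.ofFinite (ConjClasses G)
  let s : ConjClasses G → ℕ := fun c => (Finset.univ.filter fun g => ConjClasses.mk g = c).card
  have hsum : Nat.card G = ∑ c, s c := by
    rw [Nat.card_eq_fintype_card, ← Finset.card_univ]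
    exact Finset.card_eq_sum_card_fiberwise fun g _ => Finset.mem_univ _
  have hs : ∀ g, s (ConjClasses.mk g) = Nat.card (ConjClasses.mk g).carrier := fun g => by
    rw [Nat.card_eq_fintype_card]
    exact (Fintype.card_of_subtype _ fun x => by simp [s, ConjClasses.mem_carrier_iff_mk_eq]).symm
  have hdvd : ∀ c, s c ∣ Nat.card G := fun c => by
    obtain ⟨g, rfl⟩ := ConjClasses.exists_rep c
    rw [hs, ← ConjAct.orbit_eq_carrier_conjClasses, Nat.card_coe_set_eq, ← MulAction.index_stabilizer,
      show Nat.card G = Nat.card (ConjAct G) from Nat.card_congr ConjAct.toConjAct.toEquiv]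
    exact Subgroup.index_dvd_card _
  have hpos : ∀ c, 0 < s c := fun c => Nat.pos_of_dvd_of_pos (hdvd c) Nat.card_pos
  have hone : s (ConjClasses.mk 1) = 1 := by
    simp only [s]
    rw [Finset.card_eq_one]
    exact ⟨1, by ext g; simp [ConjClasses.mk_eq_mk_iff_isConj, isConj_one_left]⟩
  rw [hsum, ← Finset.add_sum_erase _ _ (Finset.mem_univ (ConjClasses.mk (1 : G))), hone] at hdvd ⊢
  set R := Finset.univ.erase (ConjClasses.mk (1 : G)) with hR
  have hcR : R.card + 1 = cls G := by
    rw [hR, Finset.card_erase_add_one (Finset.mem_univ _), Finset.card_univ, cls, Nat.card_eq_fintype_card]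
  suffices h : (R.card ≤ 1 → 1 + ∑ c ∈ R, s c ≤ 2) ∧ (R.card ≤ 3 → 1 + ∑ c ∈ R, s c ≤ 42) from
    ⟨fun hk => h.1 (by omega), fun hk => h.2 (by omega)⟩
  have hbig : R.card ≤ 3 → (R.card ≤ 1 → 1 + ∑ c ∈ R, s c ≤ 2) ∧ 1 + ∑ c ∈ R, s c ≤ 42 := by
    intro h3
    rcases (show R.card = 0 ∨ R.card = 1 ∨ R.card = 2 ∨ R.card = 3 by omega) with h | h | h | h
    · simp [Finset.card_eq_zero.1 h]
    · obtain ⟨x, hx⟩ := Finset.card_eq_one.1 h
      have h' := hdvd x
      rw [hx, Finset.sum_singleton] at h' ⊢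
      have := two_sizes rfl h'
      exact ⟨fun _ => this, by omega⟩
    · obtain ⟨x, y, hxy, hx⟩ := Finset.card_eq_two.1 h
      have ha := hdvd x
      have hb := hdvd y
      rw [hx, Finset.sum_pair hxy] at ha hb ⊢
      have := hpos x
      have := hpos y
      refine ⟨fun hle => by rw [← hx] at hle; omega, ?_⟩
      rcases le_total (s x) (s y) with hle | hle
      · exact (three_sizes (by ring) hb ha hle (hpos x)).trans (by norm_num)
      · exact (three_sizes (by ring) ha hb hle (hpos y)).trans (by norm_num)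
    · obtain ⟨x, y, z, hxy, hxz, hyz, hx⟩ := Finset.card_eq_three.1 h
      have ha := hdvd x
      have hb := hdvd y
      have hc := hdvd z
      have e : 1 + ∑ c ∈ R, s c = 1 + s x + s y + s z := by
        rw [hx, Finset.sum_insert (by simp [hxy, hxz]), Finset.sum_pair hyz]; ring
      rw [e] at ha hb hc ⊢
      refine ⟨fun hle => by omega, ?_⟩
      rcases le_total (s x) (s y) with h1 | h1 <;> rcases le_total (s y) (s z) with h2 | h2 <;>
        rcases le_total (s x) (s z) with h3' | h3' <;>
        first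
        | exact four_sizes (by ring) ha hb hc (by omega) (by omega) (hpos _)
        | exact four_sizes (by ring) ha hc hb (by omega) (by omega) (hpos _)
        | exact four_sizes (by ring) hb ha hc (by omega) (by omega) (hpos _)
        | exact four_sizes (by ring) hb hc ha (by omega) (by omega) (hpos _)
        | exact four_sizes (by ring) hc ha hb (by omega) (by omega) (hpos _)
        | exact four_sizes (by ring) hc hb ha (by omega) (by omega) (hpos _)
  exact ⟨fun h => (hbig (by omega)).1 h, fun h => (hbig h).2⟩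

end Cfsg.Agent.ClassBoundSq
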