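import Cfsg.Agent.ClassBoundSq.Linear
import Cfsg.Agent.ClassBoundSq.Small

/-!
A solvable group whose order is divisible by the square of a prime has many classes.
-/

set_option autoImplicit false
set_option maxHeartbeats 1000000

namespace Cfsg.Agent.ClassBoundSq

universe u

variable {G : Type u} [Group G] [Finite G] {p : ℕ} [Fact p.Prime]

/-- The action of the quotient on a normal abelian subgroup. -/
@[reducible] noncomputable def quotAction (V : Subgroup G) [V.Normal] [IsMulCommutative V] :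
    letI : CommGroup V := { (inferInstance : Group V) with mul_comm := mul_comm' }
    DistribMulAction (G ⧸ V) (Additive V) :=
  letI : CommGroup V := { (inferInstance : Group V) with mul_comm := mul_comm' }
  let φ : G ⧸ V →* MulAut V := QuotientGroup.lift V MulAut.conjNormal fun g hg => MulEquiv.ext fun x =>
    Subtype.ext (by
      rw [MulAut.conjNormal_apply]
      show g * x.1 * g⁻¹ = x.1
      exact mul_inv_eq_iff_eq_mul.2 (congrArg Subtype.val (mul_comm (⟨g, hg⟩ : V) x)))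
  { smul := fun q x => Additive.ofMul (φ q x.toMul)
    one_smul := fun x => congrArg Additive.ofMul (DFunLike.congr_fun (map_one φ) x.toMul)
    mul_smul := fun q r x => congrArg Additive.ofMul (DFunLike.congr_fun (map_mul φ q r) x.toMul)
    smul_zero := fun q => congrArg Additive.ofMul (map_one (φ q))
    smul_add := fun q x y => congrArg Additive.ofMul (map_mul (φ q) x.toMul y.toMul) }

theorem quotAction_mk (V : Subgroup G) [V.Normal] [IsMulCommutative V] (g : G) (x : V) :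
    letI : CommGroup V := { (inferInstance : Group V) with mul_comm := mul_comm' }
    letI := quotAction V
    (((g : G ⧸ V) • Additive.ofMul x).toMul : G) = g * x.1 * g⁻¹ :=
  MulAut.conjNormal_apply g x

/-- The final count. -/
theorem endgame (hsolv : Group.IsSolvable G) (hp5 : 5 ≤ p) (V : Subgroup G) [V.Normal]
    [IsMulCommutative V] {a : ℕ} (ha : 2 ≤ a) (hV : Nat.card V = p ^ a)
    (hcent : ∀ g : G, (∀ x ∈ V, g * x = x * g) → g ∈ V)
    (hcase : (a = 2 ∧ ∀ x y : G ⧸ V, x * y = y * x) ∨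
      (letI : CommGroup V := { (inferInstance : Group V) with mul_comm := mul_comm' }
       letI := quotAction V
       CR (G ⧸ V) (Additive V))) :
    49 * p ≤ 60 * cls G := by
  have hp : p.Prime := Fact.out
  haveI := hsolv
  haveI : Group.IsSolvable (G ⧸ V) := Group.isSolvable_of_surjective (QuotientGroup.mk'_surjective V)
  have hN := card_sub_one_le V (fun x hx y hy => congrArg Subtype.val (mul_comm' (⟨x, hx⟩ : V) ⟨y, hy⟩))
  rw [hV] at hN
  have hhk : cls (G ⧸ V) ≤ cls G := cls_quotient_le V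
  rcases hcase with ⟨rfl, hab⟩ | hcr
  · refine final_five (by omega) (split_le ?_ hN hhk)
    rw [cls_of_comm hab]
    exact Nat.le_mul_of_pos_left _ (by norm_num)
  letI : CommGroup V := { (inferInstance : Group V) with mul_comm := mul_comm' }
  letI := quotAction V
  have hfaith : ∀ q : G ⧸ V, (∀ x : Additive V, q • x = x) → q = 1 := by
    intro q hq
    induction q using QuotientGroup.induction_on with | _ g =>
    refine (QuotientGroup.eq_one_iff g).2 (hcent g fun x hx => ?_)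
    have h := quotAction_mk V g ⟨x, hx⟩
    rw [hq] at h
    exact eq_mul_inv_iff_mul_eq.1 h |>.symm
  have hr := ratio p a (Additive V) (G ⧸ V) hfaith hcr ((Nat.card_congr Additive.toMul).trans hV)
  rcases eq_or_lt_of_le ha with rfl | ha3
  · rcases hr.2 rfl with h | ⟨m, hm, hn, h⟩
    · exact final_five (by omega) (split_le h hN hhk)
    · exact final_six hp hp5 hm hn h hN
  by_cases hp11 : 11 ≤ p
  · exact final_big hp11 ha3 (split_le hr.1 hN hhk)
  by_contra hlt
  push Not at hlt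
  have h3 := Nat.pow_le_pow_right hp.pos ha3
  have hpos := cls_pos (G ⧸ V)
  obtain ⟨hs2, hs4⟩ := card_le_of_cls (G := G ⧸ V)
  interval_cases p
  · -- five
    norm_num at h3
    have hn0 : 1 ≤ cls G - cls (G ⧸ V) := by
      by_contra h
      rw [show cls G - cls (G ⧸ V) = 0 by omega, zero_mul] at hN
      omega
    by_cases h2 : cls (G ⧸ V) ≤ 2
    · have := Nat.mul_le_mul (show cls G - cls (G ⧸ V) ≤ 3 by omega) (hs2 h2)
      omega
    · have := Nat.mul_le_mul (show cls G - cls (G ⧸ V) ≤ 1 by omega) (hs4 (by omega))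
      omega
  · norm_num at hp
  · -- seven
    norm_num at h3
    have hn0 : 1 ≤ cls G - cls (G ⧸ V) := by
      by_contra h
      rw [show cls G - cls (G ⧸ V) = 0 by omega, zero_mul] at hN
      omega
    have := Nat.mul_le_mul (show cls G - cls (G ⧸ V) ≤ 4 by omega) (hs4 (by omega))
    omega
  all_goals norm_num at hp

omit [Finite G] [Fact p.Prime] in
theorem conj_pow_eq {x y c : G} (h : x * y * x⁻¹ = c * y) (hcx : x * c = c * x) :
    ∀ k : ℕ, x ^ k * y * (x ^ k)⁻¹ = c ^ k * y := by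
  intro k
  induction k with
  | zero => simp
  | succ k ih =>
    calc x ^ (k + 1) * y * (x ^ (k + 1))⁻¹ = x * (x ^ k * y * (x ^ k)⁻¹) * x⁻¹ := by rw [pow_succ']; group
      _ = (x * c ^ k * x⁻¹) * (x * y * x⁻¹) := by rw [ih]; group
      _ = c ^ k * (c * y) := by
          rw [h, (Commute.pow_right (show Commute x c from hcx) k).eq, mul_inv_cancel_right]
      _ = _ := by rw [← mul_assoc, pow_succ]

/-- An elementary section above a central `p`-subgroup is a `p`-group or splits off. -/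
theorem no_coprime_above (hno : ∀ Q : Subgroup G, Q.Normal → ¬ p ∣ Nat.card Q → Q = ⊥)
    (V K : Subgroup G) [K.Normal] {a q : ℕ} (hV : Nat.card V = p ^ a) (hVK : V < K)
    (hKC : ∀ x ∈ K, ∀ v ∈ V, x * v = v * x) (hq : q.Prime) (hqp : q ≠ p) (hpow : ∀ x ∈ K, x ^ q ∈ V)
    (hcomm : ∀ x ∈ K, ∀ y ∈ K, x * y * x⁻¹ * y⁻¹ ∈ V) : False := by
  have hp : p.Prime := Fact.out
  have hVp : ∀ v ∈ V, v ^ (p ^ a) = 1 := fun v hv => by
    rw [← hV]
    exact congrArg Subtype.val (pow_card_eq_one' (x := (⟨v, hv⟩ : V)))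
  have hcop : Nat.Coprime q (p ^ a) := ((Nat.coprime_primes hq hp).2 hqp).pow_right a
  have hab : ∀ x ∈ K, ∀ y ∈ K, x * y = y * x := by
    intro x hx y hy
    have hc := hcomm x hx y hy
    have hcq := conj_pow_eq (c := x * y * x⁻¹ * y⁻¹) (x := x) (y := y) (by group) (hKC x hx _ hc) q
    rw [← hKC y hy _ (hpow x hx), mul_inv_cancel_right] at hcq
    have hone : x * y * x⁻¹ * y⁻¹ = 1 := orderOf_eq_one_iff.1 (Nat.eq_one_of_dvd_coprimes hcop
      (orderOf_dvd_of_pow_eq_one (right_eq_mul.1 hcq)) (orderOf_dvd_of_pow_eq_one (hVp _ hc)))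
    exact mul_inv_eq_iff_eq_mul.1 (mul_inv_eq_one.1 hone)
  let Q : Subgroup G :=
    { carrier := {z | ∃ x ∈ K, x ^ (p ^ a) = z}
      one_mem' := ⟨1, K.one_mem, one_pow _⟩
      mul_mem' := by
        rintro _ _ ⟨x, hx, rfl⟩ ⟨y, hy, rfl⟩
        exact ⟨x * y, K.mul_mem hx hy, (show Commute x y from hab x hx y hy).mul_pow _⟩
      inv_mem' := by rintro _ ⟨x, hx, rfl⟩; exact ⟨x⁻¹, K.inv_mem hx, inv_pow _ _⟩ }
  have hQn : Q.Normal := ⟨by
    rintro _ ⟨x, hx, rfl⟩ g
    exact ⟨g * x * g⁻¹, (inferInstance : K.Normal).conj_mem x hx g, conj_pow⟩⟩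
  have hQ := hno Q hQn (fun hd => by
    obtain ⟨⟨z, x, hx, hxz⟩, ho⟩ := exists_prime_orderOf_dvd_card' (G := Q) p hd
    have h1 : z ^ q = 1 := by rw [← hxz, ← pow_mul, mul_comm, pow_mul]; exact hVp _ (hpow x hx)
    have h2 := orderOf_dvd_of_pow_eq_one h1
    rw [← Subgroup.orderOf_coe] at ho
    rw [ho] at h2
    exact hqp ((Nat.prime_dvd_prime_iff_eq hp hq).1 h2).symm)
  obtain ⟨x, hxK, hxV⟩ : ∃ x, x ∈ K ∧ x ∉ V := Set.exists_of_ssubset hVK
  have hx1 : x ^ (p ^ a) ∈ V := by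
    have : x ^ (p ^ a) ∈ Q := ⟨x, hxK, rfl⟩
    rw [hQ, Subgroup.mem_bot] at this
    rw [this]
    exact V.one_mem
  apply hxV
  obtain ⟨s, t, hst⟩ : ∃ s t : ℤ, (q : ℤ) * s + ((p ^ a : ℕ) : ℤ) * t = 1 :=
    ⟨_, _, by rw [← Nat.gcd_eq_gcd_ab, hcop.gcd_eq_one]; rfl⟩
  rw [← zpow_one x, ← hst, zpow_add, zpow_mul, zpow_mul, zpow_natCast, zpow_natCast]
  exact V.mul_mem (V.zpow_mem (hpow x hxK) s) (V.zpow_mem hx1 t)

omit [Fact p.Prime] in
/-- An elementary normal section inside the centraliser. -/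
theorem exists_above (hsolv : Group.IsSolvable G) (V : Subgroup G) [V.Normal] (hVc : ∀ x ∈ V, ∀ y ∈ V, x * y = y * x)
    (h : ¬ ∀ g : G, (∀ x ∈ V, g * x = x * g) → g ∈ V) :
    ∃ (K : Subgroup G) (q : ℕ), K.Normal ∧ q.Prime ∧ V < K ∧ (∀ x ∈ K, ∀ v ∈ V, x * v = v * x) ∧
      (∀ x ∈ K, x ^ q ∈ V) ∧ ∀ x ∈ K, ∀ y ∈ K, x * y * x⁻¹ * y⁻¹ ∈ V := by
  haveI := hsolv
  haveI : Group.IsSolvable (G ⧸ V) := Group.isSolvable_of_surjective (QuotientGroup.mk'_surjective V)
  push Not at h
  obtain ⟨g, hg, hgV⟩ := h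
  let C := Subgroup.centralizer (V : Set G)
  let π := QuotientGroup.mk' V
  haveI : (C.map π).Normal := (inferInstance : C.Normal).map π (QuotientGroup.mk'_surjective V)
  have hne : C.map π ≠ ⊥ := fun e => hgV ((QuotientGroup.eq_one_iff g).1 (Subgroup.mem_bot.1
    (e ▸ ⟨g, fun x hx => (hg x hx).symm, rfl⟩ : π g ∈ (⊥ : Subgroup (G ⧸ V)))))
  obtain ⟨M, hMC, hM⟩ := Core.exists_isMinNormal_le hne
  haveI := hM.normal
  haveI : IsMulCommutative M := hM.isMulCommutative
  obtain ⟨q, hq, hqM⟩ := hM.exists_prime_pow_eq_one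
  refine ⟨M.comap π, q, hM.normal.comap π, hq, ?_, fun x hx v hv => ?_, fun x hx => ?_, fun x hx y hy => ?_⟩
  · refine lt_of_le_of_ne (fun x hx => ?_) fun e => hM.ne_bot ?_
    · show π x ∈ M
      rw [show π x = 1 from (QuotientGroup.eq_one_iff x).2 hx]
      exact M.one_mem
    · refine (Subgroup.eq_bot_iff_forall _).2 fun m hm => ?_
      obtain ⟨x, rfl⟩ := QuotientGroup.mk'_surjective V m
      exact (QuotientGroup.eq_one_iff x).2 (e ▸ hm : x ∈ V)
  · obtain ⟨c, hc, e⟩ := hMC (hx : π x ∈ M)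
    have hcx : c⁻¹ * x ∈ V := QuotientGroup.eq.1 e
    have h1 : ∀ v ∈ V, c * v = v * c := fun v hv => (hc v hv).symm
    calc x * v = c * ((c⁻¹ * x) * v) := by group
      _ = c * (v * (c⁻¹ * x)) := by rw [hVc _ hcx v hv]
      _ = v * x := by rw [← mul_assoc, h1 v hv]; group
  · rw [← QuotientGroup.eq_one_iff, QuotientGroup.mk_pow]
    exact hqM _ hx
  · rw [← QuotientGroup.eq_one_iff]
    have h1 : π x * π y = π y * π x := congrArg Subtype.val (mul_comm' (⟨_, hx⟩ : M) ⟨_, hy⟩)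
    show π (x * y * x⁻¹ * y⁻¹) = 1
    rw [map_mul, map_mul, map_mul, map_inv, map_inv, h1, mul_inv_cancel_right, mul_inv_cancel]

/-- The statement, by induction on the order. -/
theorem main_aux : ∀ (n : ℕ) (G : Type u) [Group G] [Finite G], Nat.card G = n → Group.IsSolvable G →
    ∀ (p : ℕ) [Fact p.Prime], p ^ 2 ∣ Nat.card G → 49 * p ≤ 60 * cls G := by
  intro n
  induction n using Nat.strong_induction_on with
  | _ n ih =>
  intro G _ _ hn hsolv p _ hdvd
  have hp : p.Prime := Fact.out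
  haveI := hsolv
  have hp2 : 4 ≤ p ^ 2 := by have := Nat.pow_le_pow_left hp.two_le 2; omega
  have hG : 4 ≤ Nat.card G := hp2.trans (Nat.le_of_dvd Nat.card_pos hdvd)
  by_cases hsmall : p ≤ 3
  · have : 3 ≤ cls G := by
      by_contra h
      have := (card_le_of_cls (G := G)).1 (by omega)
      omega
    omega
  have hp5 : 5 ≤ p := by
    rcases (show p = 4 ∨ 5 ≤ p by omega) with h | h
    · rw [h] at hp; norm_num at hp
    · exact h
  -- normal subgroups with a large quotient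
  by_cases hq : ∃ Q : Subgroup G, Q.Normal ∧ Q ≠ ⊥ ∧ p ^ 2 ∣ Q.index
  · obtain ⟨Q, hQn, hQ1, hQd⟩ := hq
    have hlt : Nat.card (G ⧸ Q) < n := by
      rw [← hn, ← Subgroup.index_eq_card, ← Q.card_mul_index]
      have h1 := Subgroup.index_ne_zero_of_finite (H := Q)
      have h2 := Subgroup.one_lt_card_iff_ne_bot Q |>.2 hQ1
      exact lt_mul_left (Nat.pos_of_ne_zero h1) h2
    have := ih _ hlt (G ⧸ Q) rfl (Group.isSolvable_of_surjective (QuotientGroup.mk'_surjective Q)) p
      (by rwa [← Subgroup.index_eq_card])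
    exact this.trans (Nat.mul_le_mul_left _ (cls_quotient_le Q))
  push Not at hq
  have hno : ∀ Q : Subgroup G, Q.Normal → ¬ p ∣ Nat.card Q → Q = ⊥ := fun Q hQ hd => by
    by_contra hne
    refine hq Q hQ hne ?_
    rw [← Q.card_mul_index] at hdvd
    exact (((hp.coprime_iff_not_dvd.2 hd)).pow_left 2).dvd_of_dvd_mul_left hdvd
  haveI : Nontrivial G := Finite.one_lt_card_iff_nontrivial.1 (by omega)
  obtain ⟨N, hN⟩ := Core.exists_isMinNormal (G := G)
  haveI := hN.normal
  haveI : IsMulCommutative N := hN.isMulCommutative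
  obtain ⟨r, hr, hrN⟩ := hN.exists_prime_pow_eq_one
  have hNc : ∀ x ∈ N, ∀ y ∈ N, x * y = y * x := fun x hx y hy =>
    congrArg Subtype.val (mul_comm' (⟨x, hx⟩ : N) ⟨y, hy⟩)
  obtain rfl : r = p := by
    by_contra hne
    refine hN.ne_bot (hno N hN.normal fun hd => ?_)
    obtain ⟨x, hx⟩ := exists_prime_orderOf_dvd_card' (G := N) p hd
    have h1 : orderOf x.1 ∣ r := orderOf_dvd_of_pow_eq_one (hrN x.1 x.2)
    rw [Subgroup.orderOf_coe, hx] at h1
    exact hne ((Nat.prime_dvd_prime_iff_eq hp hr).1 h1).symm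
  have hNp : IsPGroup r N := fun x => ⟨1, Subtype.ext (by rw [SubmonoidClass.coe_pow, pow_one, OneMemClass.coe_one]; exact hrN x.1 x.2)⟩
  obtain ⟨a, hNa⟩ := IsPGroup.iff_card.1 hNp
  have ha1 : 1 ≤ a := Nat.pos_of_ne_zero fun e => hN.ne_bot (Subgroup.eq_bot_of_card_eq N (by rw [hNa, e, pow_zero]))
  by_cases hCN : ∀ g : G, (∀ x ∈ N, g * x = x * g) → g ∈ N
  · -- self-centralising
    have ha2 : 2 ≤ a := by
      by_contra h
      obtain rfl : a = 1 := by omega
      rw [pow_one] at hNa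
      have hker : (MulAut.conjNormal : G →* MulAut N).ker ≤ N := fun g hg => hCN g fun x hx => by
        have := congrArg Subtype.val (DFunLike.congr_fun (hg : MulAut.conjNormal g = 1) (⟨x, hx⟩ : N))
        rw [MulAut.conjNormal_apply] at this
        exact mul_inv_eq_iff_eq_mul.1 this
      haveI : IsCyclic N := isCyclic_of_prime_card hNa
      have h1 : N.index ∣ r - 1 := (Subgroup.index_dvd_of_le hker).trans (by
        rw [Subgroup.index_ker]
        refine (Subgroup.card_subgroup_dvd_card _).trans ?_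
        rw [IsCyclic.card_mulAut, hNa, Nat.totient_prime hp])
      have h2 : r ∣ N.index := by
        rw [← N.card_mul_index, hNa, sq] at hdvd
        exact Nat.dvd_of_mul_dvd_mul_left hp.pos hdvd
      have := Nat.le_of_dvd (by omega) (h2.trans h1)
      omega
    refine endgame hsolv hp5 N ha2 hNa hCN (Or.inr ?_)
    letI : CommGroup N := { (inferInstance : Group N) with mul_comm := mul_comm' }
    letI := quotAction N
    refine cr_of_irr fun U hU => ?_
    let M : Subgroup G :=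
      { carrier := {x | ∃ h : x ∈ N, Additive.ofMul ⟨x, h⟩ ∈ U}
        one_mem' := ⟨N.one_mem, U.zero_mem⟩
        mul_mem' := fun {x y} ⟨hx, hxU⟩ ⟨hy, hyU⟩ => ⟨N.mul_mem hx hy, U.add_mem hxU hyU⟩
        inv_mem' := fun {x} ⟨hx, hxU⟩ => ⟨N.inv_mem hx, U.neg_mem hxU⟩ }
    have hMn : M.Normal := ⟨fun x ⟨hx, hxU⟩ g => ⟨hN.normal.conj_mem x hx g, by
      have h1 := hU (g : G ⧸ N) _ hxU
      convert h1 using 1
      exact Additive.toMul.injective (Subtype.ext (quotAction_mk N g ⟨x, hx⟩).symm)⟩⟩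
    rcases hN.eq_of_le M hMn (fun x hx => hx.1) with h | h
    · refine Or.inl ((AddSubgroup.eq_bot_iff_forall U).2 fun u hu => ?_)
      have : u.toMul.1 ∈ (⊥ : Subgroup G) := h ▸ (⟨u.toMul.2, hu⟩ : u.toMul.1 ∈ M)
      exact Additive.toMul.injective (Subtype.ext (Subgroup.mem_bot.1 this))
    · exact Or.inr ((AddSubgroup.eq_top_iff' U).2 fun u => (h.symm ▸ u.toMul.2 : u.toMul.1 ∈ M).2)
  -- a Sylow subgroup above the minimal normal subgroup
  obtain ⟨K, q, hKn, hqp, hNK, hKN, hKq, hKcom⟩ := exists_above hsolv N hNc hCN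
  haveI := hKn
  obtain rfl : q = r := by
    by_contra hne
    exact no_coprime_above hno N K hNa hNK hKN hqp hne hKq hKcom
  have hNKi : Nat.card K = Nat.card N * q := by
    have hle := hNK.le
    have hPG : IsPGroup q K := fun x => ⟨2, Subtype.ext (by
      rw [SubmonoidClass.coe_pow, pow_two q, pow_mul, OneMemClass.coe_one]
      exact hrN _ (hKq x.1 x.2))⟩
    obtain ⟨c, hKc⟩ := IsPGroup.iff_card.1 hPG
    have hac : a < c := by
      have hlt : Nat.card N < Nat.card K := by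
        by_contra h
        exact hNK.ne (Subgroup.eq_of_le_of_card_ge hle (by omega))
      rwa [hNa, hKc, Nat.pow_lt_pow_iff_right hp.one_lt] at hlt
    have hrel : N.relIndex K = q ^ (c - a) := by
      have h := Subgroup.relIndex_mul_index hle
      have h1 := N.card_mul_index
      have h2 := K.card_mul_index
      rw [← h, hNa] at h1
      rw [hKc, show c = a + (c - a) by omega, pow_add] at h2
      have h3 : q ^ a * (N.relIndex K * K.index) = q ^ a * (q ^ (c - a) * K.index) := by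
        rw [h1, ← mul_assoc, h2]
      exact Nat.eq_of_mul_eq_mul_right (Nat.pos_of_ne_zero Subgroup.index_ne_zero_of_finite)
        (Nat.eq_of_mul_eq_mul_left (Nat.pow_pos hp.pos) h3)
    have hca : c = a + 1 := by
      by_contra hne
      refine hq N hN.normal hN.ne_bot ?_
      rw [← Subgroup.relIndex_mul_index hle, hrel]
      exact dvd_mul_of_dvd_left (pow_dvd_pow q (by omega)) _
    rw [hKc, hca, pow_succ, hNa]
  have hKc : Nat.card K = q ^ (a + 1) := by rw [hNKi, hNa, pow_succ]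
  have hKi : ¬ q ∣ K.index := fun hd => by
    refine hq N hN.normal hN.ne_bot ?_
    rw [← Subgroup.relIndex_mul_index hNK.le, sq]
    refine mul_dvd_mul ?_ hd
    have h1 := N.card_mul_index
    rw [← Subgroup.relIndex_mul_index hNK.le, ← K.card_mul_index, hNKi, mul_assoc] at h1
    exact (Nat.eq_of_mul_eq_mul_right (Nat.pos_of_ne_zero Subgroup.index_ne_zero_of_finite)
      (Nat.eq_of_mul_eq_mul_left Nat.card_pos h1)).symm.dvd
  have hKab : ∀ x ∈ K, ∀ y ∈ K, x * y = y * x := by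
    intro x hx y hy
    obtain ⟨g, hgK, hgN⟩ : ∃ g, g ∈ K ∧ g ∉ N := Set.exists_of_ssubset hNK
    have htop : N ⊔ Subgroup.zpowers g = K := by
      refine Subgroup.eq_of_le_of_card_ge (sup_le hNK.le (Subgroup.zpowers_le.2 hgK)) ?_
      have hlt : N < N ⊔ Subgroup.zpowers g := lt_of_le_of_ne le_sup_left fun e =>
        hgN (e ▸ Subgroup.mem_sup_right (Subgroup.mem_zpowers g))
      have hd := Subgroup.card_dvd_of_le (sup_le hNK.le (Subgroup.zpowers_le.2 hgK))
      obtain ⟨e, he, hec⟩ := (Nat.dvd_prime_pow hp).1 (hKc ▸ hd)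
      have hlt' : Nat.card N < Nat.card (N ⊔ Subgroup.zpowers g : Subgroup G) := by
        by_contra h
        exact hlt.ne (Subgroup.eq_of_le_of_card_ge hlt.le (by omega))
      rw [hNa, hec, Nat.pow_lt_pow_iff_right hp.one_lt] at hlt'
      rw [hKc, hec]
      exact Nat.pow_le_pow_right hp.pos hlt'
    have hgen : ∀ z ∈ K, ∃ n ∈ N, ∃ i : ℤ, z = n * g ^ i := fun z hz => by
      obtain ⟨n, hn, _, ⟨i, rfl⟩, rfl⟩ :=
        (Subgroup.mem_sup_of_normal_left).1 (htop.symm ▸ hz : z ∈ N ⊔ Subgroup.zpowers g)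
      exact ⟨n, hn, i, rfl⟩
    obtain ⟨n, hn, i, rfl⟩ := hgen x hx
    obtain ⟨m, hm, j, rfl⟩ := hgen y hy
    have hgm : ∀ (k : ℤ), ∀ v ∈ N, g ^ k * v = v * g ^ k := fun k v hv =>
      hKN _ (K.zpow_mem hgK k) v hv
    calc n * g ^ i * (m * g ^ j) = n * m * (g ^ i * g ^ j) := by
          rw [mul_assoc, ← mul_assoc (g ^ i), hgm i m hm]; group
      _ = m * n * (g ^ j * g ^ i) := by rw [hNc n hn m hm, ← zpow_add, add_comm, zpow_add]
      _ = m * g ^ j * (n * g ^ i) := by rw [mul_assoc m (g ^ j), ← mul_assoc (g ^ j), hgm j n hn]; group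
  haveI : IsMulCommutative K := ⟨⟨fun x y => Subtype.ext (hKab x x.2 y y.2)⟩⟩
  have hKcent : ∀ g : G, (∀ x ∈ K, g * x = x * g) → g ∈ K := by
    by_contra hne
    obtain ⟨L, s, hLn, hs, hKL, hLK, hLs, hLcom⟩ := exists_above hsolv K hKab hne
    haveI := hLn
    by_cases hsq : s = q
    · subst hsq
      obtain ⟨x, hxL, hxK⟩ : ∃ x, x ∈ L ∧ x ∉ K := Set.exists_of_ssubset hKL
      refine hKi ?_
      have h1 : orderOf ((x : G ⧸ K)) = s := orderOf_eq_prime
        (by rw [← QuotientGroup.mk_pow, QuotientGroup.eq_one_iff]; exact hLs x hxL)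
        (fun e => hxK ((QuotientGroup.eq_one_iff x).1 e))
      rw [← h1, Subgroup.index_eq_card]
      exact orderOf_dvd_natCard _
    · exact no_coprime_above hno K L hKc hKL hLK hs hsq hLs hLcom
  by_cases hel : ∀ x ∈ K, x ^ q = 1
  · -- elementary: split the minimal normal subgroup off
    letI : CommGroup K := { (inferInstance : Group K) with mul_comm := mul_comm' }
    letI := quotAction K
    have hcop : (Nat.card (G ⧸ K)).Coprime q := by
      rw [← Subgroup.index_eq_card]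
      exact (hp.coprime_iff_not_dvd.2 hKi).symm
    have hexp : ∀ v : Additive K, q • v = 0 := fun v =>
      Additive.toMul.injective (Subtype.ext (by
        rw [toMul_nsmul, SubmonoidClass.coe_pow]; exact hel _ v.toMul.2))
    have hcr : CR (G ⧸ K) (Additive K) := fun U hU => by
      obtain ⟨W, hW, hd, hs⟩ := BaseTwo.Reduce.exists_complement q hexp hcop U hU
      refine ⟨W, hW, (AddSubgroup.eq_bot_iff_forall _).2 fun u hu => hd u hu.1 hu.2,
        (AddSubgroup.eq_top_iff' _).2 fun v => ?_⟩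
      obtain ⟨x, hx, y, hy, e⟩ := hs v
      exact AddSubgroup.mem_sup.2 ⟨x, hx, y, hy, e⟩
    by_cases ha2 : a = 1
    · subst ha2
      exact endgame hsolv hp5 K le_rfl hKc hKcent (Or.inr hcr)
    exfalso
    let U : AddSubgroup (Additive K) :=
      { carrier := {v | v.toMul.1 ∈ N}
        zero_mem' := N.one_mem
        add_mem' := fun hx hy => N.mul_mem hx hy
        neg_mem' := fun hx => N.inv_mem hx }
    obtain ⟨W, hW, hWd, hWs⟩ := hcr U fun g u hu => by
      induction g using QuotientGroup.induction_on with | _ g =>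
      show ((g : G ⧸ K) • u).toMul.1 ∈ N
      rw [← ofMul_toMul u, quotAction_mk]
      exact hN.normal.conj_mem _ hu g
    let M : Subgroup G :=
      { carrier := {x | ∃ h : x ∈ K, Additive.ofMul ⟨x, h⟩ ∈ W}
        one_mem' := ⟨K.one_mem, W.zero_mem⟩
        mul_mem' := fun {x y} ⟨hx, hxU⟩ ⟨hy, hyU⟩ => ⟨K.mul_mem hx hy, W.add_mem hxU hyU⟩
        inv_mem' := fun {x} ⟨hx, hxU⟩ => ⟨K.inv_mem hx, W.neg_mem hxU⟩ }
    have hMn : M.Normal := ⟨fun x ⟨hx, hxU⟩ g => ⟨hKn.conj_mem x hx g, by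
      have h1 := hW (g : G ⧸ K) _ hxU
      convert h1 using 1
      exact Additive.toMul.injective (Subtype.ext (quotAction_mk K g ⟨x, hx⟩).symm)⟩⟩
    have hMN : ∀ x ∈ M, x ∈ N → x = 1 := fun x ⟨hx, hxW⟩ hxN => by
      have h1 : (Additive.ofMul (⟨x, hx⟩ : K)) ∈ U ⊓ W := ⟨hxN, hxW⟩
      rw [hWd, AddSubgroup.mem_bot] at h1
      exact congrArg (fun v : Additive K => (v.toMul : G)) h1
    have hMne : M ≠ ⊥ := fun e => by
      obtain ⟨g, hgK, hgN⟩ : ∃ g, g ∈ K ∧ g ∉ N := Set.exists_of_ssubset hNK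
      obtain ⟨x, hx, y, hy, hxy⟩ := AddSubgroup.mem_sup.1
        (show Additive.ofMul (⟨g, hgK⟩ : K) ∈ U ⊔ W by rw [hWs]; exact AddSubgroup.mem_top _)
      have hy1 : y.toMul.1 ∈ (⊥ : Subgroup G) := e ▸ (⟨y.toMul.2, hy⟩ : y.toMul.1 ∈ M)
      have h2 : g = x.toMul.1 * y.toMul.1 := congrArg (fun v : Additive K => (v.toMul : G)) hxy.symm
      rw [Subgroup.mem_bot.1 hy1, mul_one] at h2
      exact hgN (h2 ▸ hx)
    refine hq M hMn hMne ?_
    have hdis : Disjoint N M := Subgroup.disjoint_def.2 fun {x} hxN hxM => hMN x hxM hxN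
    have h1 : Nat.card N * Nat.card M ≤ Nat.card K := by
      rw [← Nat.card_prod]
      refine Nat.card_le_card_of_injective (fun v => (⟨v.1.1 * v.2.1,
        K.mul_mem (hNK.le v.1.2) v.2.2.1⟩ : K)) fun v w e => ?_
      exact Subgroup.mul_injective_of_disjoint hdis (congrArg Subtype.val e)
    rw [hNKi] at h1
    have h2 : Nat.card M ≤ q := Nat.le_of_mul_le_mul_left h1 Nat.card_pos
    have h4 : M ≤ K := fun x hx => hx.1
    obtain ⟨e, he, hMc⟩ := (Nat.dvd_prime_pow hp).1 (hKc ▸ Subgroup.card_dvd_of_le h4)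
    have he1 : e ≤ 1 := by
      rw [hMc] at h2
      exact (Nat.pow_le_pow_iff_right hp.one_lt).1 (h2.trans (pow_one q).ge)
    have h5 : q ^ 2 * q ^ e ∣ Nat.card G := by
      refine dvd_trans ?_ (K.card_subgroup_dvd_card)
      rw [hKc, ← pow_add]
      exact pow_dvd_pow q (by omega)
    rw [← M.card_mul_index, hMc, mul_comm] at h5
    exact Nat.dvd_of_mul_dvd_mul_left (Nat.pow_pos hp.pos) h5
  · -- cyclic
    push Not at hel
    obtain ⟨g, hgK, hg⟩ := hel
    have ho : orderOf g = q ^ 2 := by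
      refine orderOf_eq_prime_pow ?_ ?_
      · rwa [pow_one]
      · rw [pow_two q, pow_mul]
        exact hrN _ (hKq g hgK)
    have hgN : g ∉ N := fun h => hg (hrN g h)
    -- the powers form a normal subgroup inside the minimal one
    let P : Subgroup G :=
      { carrier := {z | ∃ x ∈ K, x ^ q = z}
        one_mem' := ⟨1, K.one_mem, one_pow _⟩
        mul_mem' := by
          rintro _ _ ⟨x, hx, rfl⟩ ⟨y, hy, rfl⟩
          exact ⟨x * y, K.mul_mem hx hy, (show Commute x y from hKab x hx y hy).mul_pow _⟩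
        inv_mem' := by rintro _ ⟨x, hx, rfl⟩; exact ⟨x⁻¹, K.inv_mem hx, inv_pow _ _⟩ }
    have hPn : P.Normal := ⟨by
      rintro _ ⟨x, hx, rfl⟩ c
      exact ⟨c * x * c⁻¹, hKn.conj_mem x hx c, conj_pow⟩⟩
    have hPN : P = N := (hN.eq_of_le P hPn (by rintro _ ⟨x, hx, rfl⟩; exact hKq x hx)).resolve_left fun e =>
      hg (Subgroup.mem_bot.1 (e ▸ ⟨g, hgK, rfl⟩ : g ^ q ∈ (⊥ : Subgroup G)))
    have htop : N ⊔ Subgroup.zpowers g = K := by
      refine Subgroup.eq_of_le_of_card_ge (sup_le hNK.le (Subgroup.zpowers_le.2 hgK)) ?_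
      have hlt : N < N ⊔ Subgroup.zpowers g := lt_of_le_of_ne le_sup_left fun e =>
        hgN (e ▸ Subgroup.mem_sup_right (Subgroup.mem_zpowers g))
      have hd := Subgroup.card_dvd_of_le (sup_le hNK.le (Subgroup.zpowers_le.2 hgK))
      obtain ⟨e, he, hec⟩ := (Nat.dvd_prime_pow hp).1 (hKc ▸ hd)
      have hlt' : Nat.card N < Nat.card (N ⊔ Subgroup.zpowers g : Subgroup G) := by
        by_contra h
        exact hlt.ne (Subgroup.eq_of_le_of_card_ge hlt.le (by omega))
      rw [hNa, hec, Nat.pow_lt_pow_iff_right hp.one_lt] at hlt'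
      rw [hKc, hec]
      exact Nat.pow_le_pow_right hp.pos hlt'
    have hsub : P ≤ Subgroup.zpowers (g ^ q) := by
      rintro _ ⟨x, hx, rfl⟩
      obtain ⟨n, hn, _, ⟨i, rfl⟩, rfl⟩ :=
        (Subgroup.mem_sup_of_normal_left).1 (htop.symm ▸ hx : x ∈ N ⊔ Subgroup.zpowers g)
      refine ⟨i, ?_⟩
      show (g ^ q) ^ i = (n * g ^ i) ^ q
      rw [(show Commute n (g ^ i) from (hKN _ (K.zpow_mem hgK i) n hn).symm).mul_pow, hrN n hn, one_mul,
        ← zpow_natCast g q, ← zpow_natCast (g ^ i), ← zpow_mul, ← zpow_mul, mul_comm]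
    obtain rfl : a = 1 := by
      have h1 := Subgroup.card_le_of_le (hPN ▸ hsub)
      rw [hNa, Nat.card_zpowers] at h1
      have h2 : orderOf (g ^ q) ≤ q := orderOf_le_of_pow_eq_one hp.pos (by
        rw [← pow_mul, ← pow_two q, ← ho]; exact pow_orderOf_eq_one g)
      have := (Nat.pow_le_pow_iff_right hp.one_lt).1 ((h1.trans h2).trans (pow_one q).ge)
      omega
    refine endgame hsolv hp5 K le_rfl hKc hKcent (Or.inl ⟨rfl, ?_⟩)
    have hKg : Subgroup.zpowers g = K := Subgroup.eq_of_le_of_card_ge (Subgroup.zpowers_le.2 hgK)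
      (by rw [Nat.card_zpowers, ho, hKc])
    have hact : ∀ c : G, ∃ i : ℤ, c * g * c⁻¹ = g ^ i := fun c => by
      obtain ⟨i, hi⟩ := Subgroup.mem_zpowers_iff.1 (hKg.symm ▸ hKn.conj_mem g hgK c : c * g * c⁻¹ ∈ Subgroup.zpowers g)
      exact ⟨i, hi.symm⟩
    intro x y
    induction x using QuotientGroup.induction_on with | _ x =>
    induction y using QuotientGroup.induction_on with | _ y =>
    rw [← QuotientGroup.mk_mul, ← QuotientGroup.mk_mul, QuotientGroup.eq]
    refine hKcent _ fun z hz => ?_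
    obtain ⟨j, rfl⟩ := Subgroup.mem_zpowers_iff.1 (hKg.symm ▸ hz : z ∈ Subgroup.zpowers g)
    obtain ⟨i, hi⟩ := hact x
    obtain ⟨k, hk⟩ := hact y
    have hxy : ∀ (c : G) (l : ℤ), c * g ^ l * c⁻¹ = (c * g * c⁻¹) ^ l := fun c l => conj_zpow.symm
    have h1 : (x * y) * g ^ j * (x * y)⁻¹ = (y * x) * g ^ j * (y * x)⁻¹ := by
      calc (x * y) * g ^ j * (x * y)⁻¹ = x * (y * g ^ j * y⁻¹) * x⁻¹ := by group
        _ = g ^ (i * (k * j)) := by rw [hxy y, hk, ← zpow_mul, hxy x, hi, ← zpow_mul]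
        _ = g ^ (k * (i * j)) := by congr 1; ring
        _ = y * (x * g ^ j * x⁻¹) * y⁻¹ := by rw [hxy x, hi, ← zpow_mul, hxy y, hk, ← zpow_mul]
        _ = _ := by group
    calc (x * y)⁻¹ * (y * x) * g ^ j = (x * y)⁻¹ * ((y * x) * g ^ j * (y * x)⁻¹) * (y * x) := by group
      _ = (x * y)⁻¹ * ((x * y) * g ^ j * (x * y)⁻¹) * (y * x) := by rw [h1]
      _ = g ^ j * ((x * y)⁻¹ * (y * x)) := by group

/-- A solvable group whose order is divisible by the square of a prime. -/
theorem main {G : Type u} [Group G] [Finite G] (hsolv : Group.IsSolvable G) (p : ℕ) [Fact p.Prime]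
    (hp : p ^ 2 ∣ Nat.card G) : 49 * p ≤ 60 * cls G :=
  main_aux _ G rfl hsolv p hp

end Cfsg.Agent.ClassBoundSq
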