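import Cfsg.Agent.ClassBoundSq.RatioFix
import Cfsg.Agent.ClassBoundSq.Main
import Cfsg.Prelude.Def_Solvable

/-!
A prime dividing the index of the Fitting subgroup of a solvable group.
-/

set_option autoImplicit false
set_option maxHeartbeats 1000000

namespace Cfsg.Agent.ClassBoundSq

universe u

theorem first_range (l a : ℕ) (hl : 6 ≤ l) (ha : 3 * l + 1 ≤ a) :
    6 * a ^ 2 * 4 ^ l + (3 * l) ^ 2 ≤ (3 * l) ^ 2 * 2 ^ a := by
  induction a, ha using Nat.le_induction with
  | base =>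
    have h1 : 2 ^ (3 * l + 1) = 2 * (4 ^ l * 2 ^ l) := by
      rw [pow_succ, pow_mul, ← mul_pow]; ring
    have h2 : 64 ≤ 2 ^ l := le_trans (by norm_num) (Nat.pow_le_pow_right two_pos hl)
    have h3 : 1 ≤ 4 ^ l := Nat.one_le_pow _ _ (by norm_num)
    rw [h1]
    calc 6 * (3 * l + 1) ^ 2 * 4 ^ l + (3 * l) ^ 2 ≤ 6 * (16 * l ^ 2) * 4 ^ l + 9 * l ^ 2 * 4 ^ l := by
          gcongr
          · nlinarith
          · rw [mul_pow]; exact Nat.le_mul_of_pos_right _ h3
      _ ≤ (3 * l) ^ 2 * (2 * (4 ^ l * 64)) := by nlinarith [Nat.zero_le (l ^ 2 * 4 ^ l)]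
      _ ≤ _ := by gcongr
  | succ a ha ih =>
    rw [pow_succ 2 a]
    have : (a + 1) ^ 2 ≤ 2 * a ^ 2 := by nlinarith
    nlinarith [Nat.mul_le_mul_right (4 ^ l) this]

theorem second_range (l n o : ℕ) (hl : 6 ≤ l) (hn : 3 ≤ n) (ho : l ≤ o) :
    fb n * (n * o) ^ 2 * 4 ^ l + (3 * l) ^ 2 ≤ (3 * l) ^ 2 * 2 ^ (n * o) := by
  induction o, ho using Nat.le_induction with
  | base =>
    obtain ⟨c, rfl⟩ := Nat.exists_eq_add_of_le' hn
    have key : 6 * 10 ^ (c + 1) * (c + 3) ^ 2 + 9 ≤ 9 * 64 ^ (c + 1) := by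
      induction c with
      | zero => norm_num
      | succ c ih =>
        have ih := ih (by omega)
        rw [pow_succ 10 (c + 1), pow_succ 64 (c + 1)]
        have h3 : (c + 1 + 3) ^ 2 ≤ 2 * (c + 3) ^ 2 := by nlinarith
        nlinarith [Nat.mul_le_mul_left (6 * 10 ^ (c + 1) * 10) h3]
    have h2 : 64 ^ (c + 1) ≤ 2 ^ (l * (c + 1)) := by
      rw [show 64 = 2 ^ 6 by norm_num, ← pow_mul]
      exact Nat.pow_le_pow_right two_pos (Nat.mul_le_mul_right _ hl)
    have h3 : 1 ≤ 4 ^ l := Nat.one_le_pow _ _ (by norm_num)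
    have h4 : 2 ^ ((c + 3) * l) = 4 ^ l * 2 ^ (l * (c + 1)) := by
      rw [show (4 : ℕ) = 2 ^ 2 by norm_num, ← pow_mul, ← pow_add]; ring_nf
    rw [fb_of_two_le (by omega), show c + 3 - 2 = c + 1 by omega, h4]
    calc 6 * 10 ^ (c + 1) * ((c + 3) * l) ^ 2 * 4 ^ l + (3 * l) ^ 2
        ≤ 6 * 10 ^ (c + 1) * ((c + 3) * l) ^ 2 * 4 ^ l + (3 * l) ^ 2 * 4 ^ l :=
          Nat.add_le_add_left (Nat.le_mul_of_pos_right _ h3) _
      _ = (6 * 10 ^ (c + 1) * (c + 3) ^ 2 + 9) * l ^ 2 * 4 ^ l := by ring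
      _ ≤ (9 * 2 ^ (l * (c + 1))) * l ^ 2 * 4 ^ l :=
          Nat.mul_le_mul_right _ (Nat.mul_le_mul_right _ (key.trans (Nat.mul_le_mul_left _ h2)))
      _ = _ := by ring
  | succ o ho ih =>
    have h1 : (n * (o + 1)) ^ 2 ≤ 2 * (n * o) ^ 2 := by
      rw [mul_pow, mul_pow, ← mul_assoc, mul_comm 2, mul_assoc]
      exact Nat.mul_le_mul_left _ (by nlinarith)
    have h2 : 2 * 2 ^ (n * o) ≤ 2 ^ (n * (o + 1)) := by
      rw [← pow_succ']; exact Nat.pow_le_pow_right two_pos (by rw [mul_add, mul_one]; omega)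
    nlinarith [Nat.mul_le_mul_left (fb n) (Nat.mul_le_mul_right (4 ^ l) h1), Nat.mul_le_mul_left ((3 * l) ^ 2) h2]

theorem final_fix {p r k a n o l b : ℕ} (hl : 6 ≤ l) (hpl : p < 2 ^ (l + 1)) (hlp : 2 ^ l ≤ p)
    (hr : 2 ≤ r) (hba : b ≤ a) (hpbk : p ≤ b * k) (hk : 4 * (r ^ a - 1) ≤ b ^ 2 * fb n * k ^ 2)
    (ha : a = o * n) (hro : p < r ^ o) : p ≤ 3 * l * k := by
  by_contra hlt
  push Not at hlt
  have hbl : 3 * l < b := by
    by_contra h
    push Not at h
    have := Nat.mul_le_mul_right k h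
    omega
  have h1 : (3 * l) ^ 2 * (r ^ a - 1) < fb n * a ^ 2 * 4 ^ l := by
    have hsq : (3 * l * k) ^ 2 < (2 ^ (l + 1)) ^ 2 := Nat.pow_lt_pow_left (hlt.trans hpl) two_ne_zero
    rw [← pow_mul, mul_comm (l + 1), pow_mul] at hsq
    norm_num at hsq
    have h2 : (3 * l) ^ 2 * (4 * (r ^ a - 1)) ≤ a ^ 2 * fb n * (3 * l * k) ^ 2 :=
      calc (3 * l) ^ 2 * (4 * (r ^ a - 1)) ≤ (3 * l) ^ 2 * (b ^ 2 * fb n * k ^ 2) := Nat.mul_le_mul_left _ hk
        _ ≤ (3 * l) ^ 2 * (a ^ 2 * fb n * k ^ 2) := by gcongr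
        _ = _ := by ring
    have h3 : 0 < a ^ 2 * fb n := Nat.mul_pos (Nat.pow_pos (by omega)) (one_le_fb n)
    have h4 := h2.trans_lt (Nat.mul_lt_mul_of_pos_left hsq h3)
    rw [pow_succ 4 l] at h4
    nlinarith
  rw [Nat.mul_sub, mul_one] at h1
  by_cases hn : n ≤ 2
  · have := first_range l a hl (by omega)
    have h6 : fb n ≤ 6 := fb_two ▸ fb_mono hn
    have h7 : 2 ^ a ≤ r ^ a := Nat.pow_le_pow_left hr a
    have h8 := Nat.mul_le_mul_left ((3 * l) ^ 2) h7
    have h9 := Nat.mul_le_mul_right (4 ^ l) (Nat.mul_le_mul_right (a ^ 2) h6)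
    omega
  · push Not at hn
    have := second_range l n (max o l) hl hn (le_max_right _ _)
    have h7 : 2 ^ max o l ≤ r ^ o := by
      rcases le_total o l with h | h
      · rw [max_eq_right h]; exact hlp.trans hro.le
      · rw [max_eq_left h]; exact Nat.pow_le_pow_left hr o
    have h8 := Nat.mul_le_mul_left ((3 * l) ^ 2) (Nat.pow_le_pow_left h7 n)
    rw [← pow_mul, ← pow_mul, mul_comm (max o l) n, ← ha] at h8
    have h9 : a ≤ n * max o l := by rw [ha, mul_comm o]; exact Nat.mul_le_mul_left _ (le_max_left _ _)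
    have h10 := Nat.mul_le_mul_right (4 ^ l) (Nat.mul_le_mul_left (fb n) (Nat.pow_le_pow_left h9 2))
    omega

section Conjugates

open Polynomial

variable {V H : Type u} [AddCommGroup V] [Finite V] [Group H] [Finite H] [DistribMulAction H V]

theorem aeval_conj {F A : Type*} [CommRing F] [Ring A] [Algebra F A] {u v x : A} (huv : u * v = 1) (hvu : v * u = 1)
    (P : F[X]) : aeval (u * x * v) P = u * aeval x P * v := by
  have hpow : ∀ k : ℕ, (u * x * v) ^ k = u * x ^ k * v := by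
    intro k
    induction k with
    | zero => rw [pow_zero, pow_zero, mul_one, huv]
    | succ k ih =>
      rw [pow_succ, ih, pow_succ]
      calc u * x ^ k * v * (u * x * v) = u * x ^ k * (v * u) * x * v := by noncomm_ring
        _ = _ := by rw [hvu]; noncomm_ring
  induction P using Polynomial.induction_on' with
  | add P Q hP hQ => rw [map_add, map_add, hP, hQ, mul_add, add_mul]
  | monomial k c => rw [aeval_monomial, aeval_monomial, ← Algebra.smul_def, ← Algebra.smul_def, hpow,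
      mul_smul_comm, smul_mul_assoc]

/-- A generator acting without fixed points has at most as many conjugates among its powers as the dimension. -/
theorem conjugates_le (r q : ℕ) [Fact r.Prime] [Fact q.Prime] [Nontrivial V] {a : ℕ} (hexp : ∀ v : V, r • v = 0)
    (hV : Nat.card V = r ^ a) (z : H) (hzq : z ^ q = 1) (hfix : ∀ v : V, z • v = v → v = 0)
    (hnorm : ∀ g : H, ∃ i : ℕ, g * z * g⁻¹ = z ^ i) (C : Subgroup H)
    (hC : ∀ g : H, g * z = z * g → g ∈ C) : C.index ≤ a := by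
  classical
  suffices h : ∀ [Module (ZMod r) V], C.index ≤ a by exact @h (AddCommGroup.zmodModule hexp)
  intro _
  haveI : Module.Finite (ZMod r) V := Module.Finite.of_finite
  have hrank : Module.finrank (ZMod r) V = a := by
    have h := Module.natCard_eq_pow_finrank (K := ZMod r) (V := V)
    rw [hV, Nat.card_zmod] at h
    exact (Nat.pow_right_injective (Fact.out : r.Prime).two_le h).symm
  let φ : H →* Module.End (ZMod r) V :=
    { toFun := fun g => (DistribMulAction.toAddMonoidHom V g).toZModLinearMap r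
      map_one' := LinearMap.ext fun v => by show (1 : H) • v = v; exact one_smul H v
      map_mul' := fun g h => LinearMap.ext fun v => by show (g * h) • v = g • h • v; exact mul_smul g h v }
  set m := minpoly (ZMod r) (φ z) with hm
  have hint : IsIntegral (ZMod r) (φ z) := Algebra.IsIntegral.isIntegral _
  have hdeg : m.natDegree ≤ a := by
    rw [← hrank, ← LinearMap.charpoly_natDegree (φ z)]
    exact natDegree_le_of_dvd (LinearMap.minpoly_dvd_charpoly _) (LinearMap.charpoly_monic _).ne_zero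
  obtain ⟨ζ, hζ⟩ := IsAlgClosed.exists_aeval_eq_zero (AlgebraicClosure (ZMod r)) m (minpoly.degree_pos hint).ne'
  have hζq : ζ ^ q = 1 := by
    obtain ⟨c, hc⟩ := minpoly.dvd (ZMod r) (φ z) (p := X ^ q - 1) (by rw [map_sub, map_pow, aeval_X, map_one, ← map_pow, hzq, map_one, sub_self])
    have h := congrArg (fun P => aeval ζ P) hc
    rw [← hm] at h
    simp only [map_sub, map_pow, map_one, aeval_X, map_mul, hζ, zero_mul] at h
    exact sub_eq_zero.1 h
  have hζ1 : ζ ≠ 1 := by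
    rintro rfl
    have h1 : m.eval 1 = 0 := by
      have h := hζ
      rw [← map_one (algebraMap (ZMod r) (AlgebraicClosure (ZMod r))), aeval_algebraMap_apply] at h
      exact (map_eq_zero _).1 h
    obtain ⟨c, hc⟩ := dvd_iff_isRoot.2 h1
    have hc0 : aeval (φ z) c = 0 := LinearMap.ext fun v => hfix _ (by
      have h := LinearMap.congr_fun (minpoly.aeval (ZMod r) (φ z)) v
      rw [← hm, hc, map_mul, Module.End.mul_apply, map_sub, aeval_X, map_one, aeval_one,
        LinearMap.sub_apply, Module.End.one_apply, LinearMap.zero_apply, sub_eq_zero] at h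
      exact h)
    have hcne : c ≠ 0 := fun e => minpoly.ne_zero hint (by rw [← hm, hc, e, mul_zero])
    have h2 := natDegree_le_of_dvd (minpoly.dvd (ZMod r) (φ z) hc0) hcne
    rw [← hm, hc, natDegree_mul (X_sub_C_ne_zero 1) hcne, natDegree_X_sub_C] at h2
    omega
  choose i hi using fun x : H ⧸ C => hnorm x.out
  have hroot : ∀ x, ζ ^ i x ∈ (m.map (algebraMap (ZMod r) (AlgebraicClosure (ZMod r)))).roots.toFinset := fun x => by
    rw [Multiset.mem_toFinset, mem_roots (map_monic_ne_zero (minpoly.monic hint)), IsRoot, eval_map_algebraMap]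
    have h0 : aeval (φ z ^ i x) m = 0 := by
      rw [← map_pow, ← hi x, map_mul, map_mul,
        aeval_conj (by rw [← map_mul, mul_inv_cancel, map_one]) (by rw [← map_mul, inv_mul_cancel, map_one]),
        minpoly.aeval, mul_zero, zero_mul]
    obtain ⟨c, hc⟩ := minpoly.dvd (ZMod r) (φ z) (p := m.comp (X ^ i x)) (by rw [aeval_comp]; simpa using h0)
    have h := congrArg (fun P => aeval ζ P) hc
    rw [← hm] at h
    simpa [aeval_comp, hζ] using h
  have hζ0 : ζ ≠ 0 := fun e => by rw [e, zero_pow (Fact.out : q.Prime).ne_zero] at hζq; exact zero_ne_one hζq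
  have hord : orderOf (Units.mk0 ζ hζ0) = q := orderOf_eq_prime (Units.ext (by simpa using hζq))
    (fun e => hζ1 (by simpa using congrArg Units.val e))
  calc C.index ≤ ((m.map (algebraMap (ZMod r) (AlgebraicClosure (ZMod r)))).roots.toFinset).card := by
        rw [← Nat.card_eq_finsetCard]
        refine Nat.card_le_card_of_injective (fun x => ⟨_, hroot x⟩) fun x y e => ?_
        have e' : Units.mk0 ζ hζ0 ^ i x = Units.mk0 ζ hζ0 ^ i y := Units.ext (by
          simpa using congrArg Subtype.val e)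
        have hmod : i x ≡ i y [MOD q] := hord ▸ pow_eq_pow_iff_modEq.1 e'
        have hzi : z ^ i x = z ^ i y := by
          rw [pow_eq_pow_iff_modEq]
          exact hmod.of_dvd (orderOf_dvd_of_pow_eq_one hzq)
        rw [← hi, ← hi] at hzi
        rw [← QuotientGroup.out_eq' x, ← QuotientGroup.out_eq' y]
        refine QuotientGroup.eq.2 (hC _ ?_)
        calc x.out⁻¹ * y.out * z = x.out⁻¹ * (y.out * z * y.out⁻¹) * y.out := by group
          _ = x.out⁻¹ * (x.out * z * x.out⁻¹) * y.out := by rw [hzi]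
          _ = z * (x.out⁻¹ * y.out) := by group
    _ ≤ (m.map (algebraMap (ZMod r) (AlgebraicClosure (ZMod r)))).natDegree :=
        (Multiset.toFinset_card_le _).trans (card_roots' _)
    _ ≤ a := by rwa [natDegree_map]

omit [Finite H] in
/-- A normal subgroup of an irreducible group is completely reducible. -/
theorem cr_normal [Nontrivial V] (hirr : ∀ U : AddSubgroup V, (∀ g : H, ∀ u ∈ U, g • u ∈ U) → U = ⊥ ∨ U = ⊤)
    (C : Subgroup H) (hC : C.Normal) : CR C V := by
  intro U hU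
  obtain ⟨W, ⟨hW, hdis⟩, hmax⟩ := Set.Finite.exists_maximal
    (Set.toFinite {W : AddSubgroup V | (∀ g : C, ∀ u ∈ W, g • u ∈ W) ∧ U ⊓ W = ⊥})
    ⟨⊥, fun g u hu => by rw [AddSubgroup.mem_bot] at hu ⊢; rw [hu, smul_zero], inf_bot_eq _⟩
  refine ⟨W, hW, hdis, ?_⟩
  obtain ⟨M, ⟨hM, hM0⟩, hmin⟩ := Set.Finite.exists_minimal
    (Set.toFinite {M : AddSubgroup V | (∀ g : C, ∀ u ∈ M, g • u ∈ M) ∧ M ≠ ⊥})
    ⟨⊤, fun g u _ => AddSubgroup.mem_top _, fun h => by
      obtain ⟨v, hv⟩ := exists_ne (0 : V)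
      exact hv (AddSubgroup.mem_bot.1 (h ▸ AddSubgroup.mem_top v : v ∈ (⊥ : AddSubgroup V)))⟩
  set S := U ⊔ W with hS
  have hSinv : ∀ g : C, ∀ u ∈ S, g • u ∈ S := fun g u hu => by
    obtain ⟨x, hx, y, hy, rfl⟩ := AddSubgroup.mem_sup.1 hu
    rw [smul_add]
    exact AddSubgroup.mem_sup.2 ⟨_, hU g x hx, _, hW g y hy, rfl⟩
  by_cases hall : ∀ g : H, ∀ v ∈ M, g • v ∈ S
  · let X : AddSubgroup V :=
      { carrier := {v | ∀ g : H, g • v ∈ S}
        zero_mem' := fun g => by rw [smul_zero]; exact S.zero_mem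
        add_mem' := fun hx hy g => by rw [smul_add]; exact S.add_mem (hx g) (hy g)
        neg_mem' := fun hx g => by rw [smul_neg]; exact S.neg_mem (hx g) }
    rcases hirr X (fun g v hv h => by rw [← mul_smul]; exact hv (h * g)) with e | e
    · exact absurd ((AddSubgroup.eq_bot_iff_forall M).2 fun v hv =>
        (AddSubgroup.eq_bot_iff_forall X).1 e v fun g => hall g v hv) hM0
    · refine (AddSubgroup.eq_top_iff' _).2 fun v => ?_
      have := (e ▸ AddSubgroup.mem_top v : v ∈ X) 1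
      rwa [one_smul] at this
  exfalso
  push Not at hall
  obtain ⟨g, v0, hv0, hv0S⟩ := hall
  let T : V →+ V := DistribMulAction.toAddMonoidHom V g
  have hgM : ∀ c : C, ∀ u ∈ M.map T, c • u ∈ M.map T := by
    rintro c _ ⟨u, hu, rfl⟩
    refine ⟨(g⁻¹ * c.1 * g) • u, hM ⟨_, by simpa using hC.conj_mem c.1 c.2 g⁻¹⟩ u hu, ?_⟩
    show g • (g⁻¹ * c.1 * g) • u = c.1 • g • u
    rw [← mul_smul, ← mul_smul, mul_assoc g⁻¹, mul_inv_cancel_left]
  have hd : ∀ u ∈ M, g • u ∈ S → u = 0 := by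
    let X : AddSubgroup V := M ⊓ S.comap T
    have hX : X = ⊥ := by
      by_contra hne
      have hle : M ≤ X := hmin ⟨fun c u hu => ⟨hM c u hu.1, by
        show g • c.1 • u ∈ S
        have := hSinv ⟨_, hC.conj_mem c.1 c.2 g⟩ _ hu.2
        rw [show (⟨_, hC.conj_mem c.1 c.2 g⟩ : C) • T u = (g * c.1 * g⁻¹) • g • u from rfl, ← mul_smul,
          inv_mul_cancel_right, mul_smul] at this
        exact this⟩, hne⟩ inf_le_left
      exact hv0S (hle hv0).2
    exact fun u hu hu' => (AddSubgroup.eq_bot_iff_forall X).1 hX u ⟨hu, hu'⟩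
  have hle : W ⊔ M.map T ≤ W := hmax ⟨fun c u hu => by
    obtain ⟨x, hx, y, hy, rfl⟩ := AddSubgroup.mem_sup.1 hu
    rw [smul_add]
    exact AddSubgroup.mem_sup.2 ⟨_, hW c x hx, _, hgM c y hy, rfl⟩, by
    refine (AddSubgroup.eq_bot_iff_forall _).2 fun u hu => ?_
    obtain ⟨x, hx, _, ⟨y, hy, rfl⟩, hxy⟩ := AddSubgroup.mem_sup.1 hu.2
    have hy0 : y = 0 := hd y hy (by
      show T y ∈ S
      rw [show T y = u - x from eq_sub_of_add_eq' hxy]
      exact AddSubgroup.sub_mem _ (AddSubgroup.mem_sup_left hu.1) (AddSubgroup.mem_sup_right hx))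
    rw [hy0, map_zero, add_zero] at hxy
    exact (AddSubgroup.eq_bot_iff_forall _).1 hdis u ⟨hu.1, hxy ▸ hx⟩⟩ le_sup_left
  exact hv0S (AddSubgroup.mem_sup_right (hle (AddSubgroup.mem_sup_right ⟨v0, hv0, rfl⟩)))

end Conjugates

/-- The action of a quotient by a normal subgroup centralising an abelian normal subgroup. -/
@[reducible] noncomputable def centAction {G : Type u} [Group G] (V W : Subgroup G) [V.Normal] [W.Normal]
    [IsMulCommutative V] (hW : ∀ w ∈ W, ∀ v ∈ V, w * v = v * w) :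
    letI : CommGroup V := { (inferInstance : Group V) with mul_comm := mul_comm' }
    DistribMulAction (G ⧸ W) (Additive V) :=
  letI : CommGroup V := { (inferInstance : Group V) with mul_comm := mul_comm' }
  let φ : G ⧸ W →* MulAut V := QuotientGroup.lift W MulAut.conjNormal fun g hg => MulEquiv.ext fun x =>
    Subtype.ext (by
      rw [MulAut.conjNormal_apply]
      exact mul_inv_eq_iff_eq_mul.2 (hW g hg x.1 x.2))
  { smul := fun q x => Additive.ofMul (φ q x.toMul)
    one_smul := fun x => congrArg Additive.ofMul (DFunLike.congr_fun (map_one φ) x.toMul)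
    mul_smul := fun q r x => congrArg Additive.ofMul (DFunLike.congr_fun (map_mul φ q r) x.toMul)
    smul_zero := fun q => congrArg Additive.ofMul (map_one (φ q))
    smul_add := fun q x y => congrArg Additive.ofMul (map_mul (φ q) x.toMul y.toMul) }

/-- No normal subgroup of the prime order. -/
theorem core_bound : ∀ (n : ℕ) (G : Type u) [Group G] [Finite G], Nat.card G = n → Group.IsSolvable G →
    ∀ (p : ℕ) [Fact p.Prime], 64 ≤ p → p ∣ Nat.card G → ¬ p ^ 2 ∣ Nat.card G →
    (∀ P : Subgroup G, P.Normal → Nat.card P ≠ p) → p ≤ 3 * Nat.log 2 p * cls G := by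
  intro n
  induction n using Nat.strong_induction_on with
  | _ n ih =>
  intro G _ _ hn hsolv p _ hp64 hdvd hsq hnoP
  classical
  have hp : p.Prime := Fact.out
  haveI := hsolv
  haveI : Nontrivial G := Finite.one_lt_card_iff_nontrivial.1
    (lt_of_lt_of_le hp.one_lt (Nat.le_of_dvd Nat.card_pos hdvd))
  obtain ⟨V, hV⟩ := Core.exists_isMinNormal (G := G)
  haveI := hV.normal
  haveI : IsMulCommutative V := hV.isMulCommutative
  obtain ⟨r, hr, hrV⟩ := hV.exists_prime_pow_eq_one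
  haveI := Fact.mk hr
  have hVp : IsPGroup r V :=
    fun x => ⟨1, Subtype.ext (by rw [SubmonoidClass.coe_pow, pow_one, OneMemClass.coe_one]; exact hrV x.1 x.2)⟩
  obtain ⟨a, hVa⟩ := IsPGroup.iff_card.1 hVp
  have ha1 : 1 ≤ a := Nat.pos_of_ne_zero fun e => hV.ne_bot (Subgroup.eq_bot_of_card_eq V (by rw [hVa, e, pow_zero]))
  have hVG : Nat.card V ∣ Nat.card G := V.card_subgroup_dvd_card
  have hrp : r ≠ p := by
    rintro rfl
    refine hnoP V hV.normal ?_
    have : ¬ 2 ≤ a := fun h => hsq ((pow_dvd_pow r h).trans (hVa ▸ hVG))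
    rw [hVa, show a = 1 by omega, pow_one]
  have hpV : p.Coprime (Nat.card V) := by
    rw [hVa]; exact ((Nat.coprime_primes hp hr).2 (Ne.symm hrp)).pow_right a
  have hcard : Nat.card G = Nat.card V * Nat.card (G ⧸ V) := by
    rw [← Subgroup.index_eq_card, V.card_mul_index]
  have hdvdq : p ∣ Nat.card (G ⧸ V) := hpV.dvd_of_dvd_mul_left (hcard ▸ hdvd)
  have hsqq : ¬ p ^ 2 ∣ Nat.card (G ⧸ V) := fun h => hsq (hcard ▸ h.mul_left _)
  by_cases hM : ∀ M : Subgroup (G ⧸ V), M.Normal → Nat.card M ≠ p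
  · have hlt : Nat.card (G ⧸ V) < n := by
      rw [← hn, hcard]
      exact lt_mul_left Nat.card_pos ((Subgroup.one_lt_card_iff_ne_bot V).2 hV.ne_bot)
    exact (ih _ hlt (G ⧸ V) rfl (Group.isSolvable_of_surjective (QuotientGroup.mk'_surjective V)) p hp64
      hdvdq hsqq hM).trans (Nat.mul_le_mul_left _ (cls_quotient_le V))
  push Not at hM
  obtain ⟨M, hMn, hMp⟩ := hM
  haveI := hMn
  obtain ⟨x, hx⟩ := exists_prime_orderOf_dvd_card' (G := G) p hdvd
  have hVc : ∀ u ∈ V, ∀ v ∈ V, u * v = v * u := fun u hu v hv =>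
    congrArg Subtype.val (mul_comm' (⟨u, hu⟩ : V) ⟨v, hv⟩)
  -- elements of order dividing the prime lie above the small normal subgroup
  have hmem : ∀ y : G, y ^ p = 1 → (y : G ⧸ V) ∈ M := fun y hy => by
    rw [← QuotientGroup.eq_one_iff, ← orderOf_eq_one_iff]
    have h1 : orderOf (((y : G ⧸ V)) : (G ⧸ V) ⧸ M) ∣ p := orderOf_dvd_of_pow_eq_one (by
      rw [← QuotientGroup.mk_pow, ← QuotientGroup.mk_pow, hy]; rfl)
    have h2 : orderOf (((y : G ⧸ V)) : (G ⧸ V) ⧸ M) ∣ Nat.card ((G ⧸ V) ⧸ M) := orderOf_dvd_natCard _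
    refine Nat.eq_one_of_dvd_coprimes (hp.coprime_iff_not_dvd.2 fun h => hsqq ?_) h1 h2
    rw [← M.card_mul_index, hMp, sq, Subgroup.index_eq_card]
    exact Nat.mul_dvd_mul_left p h
  let K := M.comap (QuotientGroup.mk' V)
  have hxp : x ^ p = 1 := by rw [← hx]; exact pow_orderOf_eq_one x
  have hxK : ∀ y ∈ K, ∃ i : ℤ, ∃ v ∈ V, y = x ^ i * v := by
    intro y hy
    have hxM : Subgroup.zpowers ((x : G ⧸ V)) = M := by
      refine Subgroup.eq_of_le_of_card_ge (Subgroup.zpowers_le.2 (hmem x hxp)) ?_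
      rw [hMp, Nat.card_zpowers]
      have h1 : orderOf (x : G ⧸ V) ∣ p := orderOf_dvd_of_pow_eq_one (by
        rw [← QuotientGroup.mk_pow, hxp]; rfl)
      rcases (Nat.dvd_prime hp).1 h1 with h | h
      · exfalso
        have hxV : x ∈ V := (QuotientGroup.eq_one_iff x).1 (orderOf_eq_one_iff.1 h)
        have := orderOf_dvd_of_pow_eq_one (hrV x hxV)
        rw [hx] at this
        exact hrp ((Nat.prime_dvd_prime_iff_eq hp hr).1 this).symm
      · exact h.ge
    obtain ⟨i, hi⟩ := Subgroup.mem_zpowers_iff.1 (hxM.symm ▸ hy : (y : G ⧸ V) ∈ Subgroup.zpowers (x : G ⧸ V))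
    refine ⟨i, (x ^ i)⁻¹ * y, QuotientGroup.eq.1 ?_, by group⟩
    rw [← hi, QuotientGroup.mk_zpow]
  -- the centraliser of the minimal normal subgroup avoids the prime
  let W := Subgroup.centralizer (V : Set G)
  have hWV : ∀ w ∈ W, ∀ v ∈ V, w * v = v * w := fun w hw v hv => (hw v hv).symm
  have hxW : x ∉ W := by
    intro hxW
    have hKab : ∀ y ∈ K, ∀ y' ∈ K, y * y' = y' * y := by
      intro y hy y' hy'
      obtain ⟨i, v, hv, rfl⟩ := hxK y hy
      obtain ⟨j, v', hv', rfl⟩ := hxK y' hy'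
      have c1 : ∀ (l : ℤ), ∀ u ∈ V, Commute (x ^ l) u := fun l u hu => hWV _ (W.zpow_mem hxW l) u hu
      exact (((Commute.refl x).zpow_zpow i j).mul_right (c1 i v' hv')).mul_left
        ((c1 j v hv).symm.mul_right (hVc v hv v' hv')) |>.eq
    let P : Subgroup G :=
      { carrier := {y | y ∈ K ∧ y ^ p = 1}
        one_mem' := ⟨K.one_mem, one_pow p⟩
        mul_mem' := fun {y y'} hy hy' => ⟨K.mul_mem hy.1 hy'.1, by
          rw [(show Commute y y' from hKab y hy.1 y' hy'.1).mul_pow, hy.2, hy'.2, one_mul]⟩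
        inv_mem' := fun {y} hy => ⟨K.inv_mem hy.1, by rw [inv_pow, hy.2, inv_one]⟩ }
    have hPn : P.Normal := ⟨fun y hy g => ⟨(inferInstance : K.Normal).conj_mem y hy.1 g, by
      rw [conj_pow, hy.2, mul_one, mul_inv_cancel]⟩⟩
    obtain ⟨e, he⟩ := IsPGroup.iff_card.1 (show IsPGroup p P from fun y => ⟨1, Subtype.ext (by
      rw [SubmonoidClass.coe_pow, pow_one, OneMemClass.coe_one]; exact y.2.2)⟩)
    have he1 : e ≤ 1 := by
      by_contra h
      exact hsq ((pow_dvd_pow p (by omega)).trans (he ▸ P.card_subgroup_dvd_card))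
    have he0 : e ≠ 0 := fun h => by
      rw [h, pow_zero] at he
      have : x = 1 := Subgroup.mem_bot.1 (Subgroup.eq_bot_of_card_eq P he ▸
        (⟨hmem x hxp, hxp⟩ : x ∈ P))
      rw [this, orderOf_one] at hx
      exact hp.one_lt.ne hx
    exact hnoP P hPn (by rw [he, show e = 1 by omega, pow_one])
  haveI : W.Normal := inferInstanceAs (Subgroup.centralizer (V : Set G)).Normal
  letI : CommGroup V := { (inferInstance : Group V) with mul_comm := mul_comm' }
  letI := centAction V W hWV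
  haveI : Nontrivial (Additive V) := Finite.one_lt_card_iff_nontrivial.1
    (by rw [Nat.card_congr Additive.toMul]; exact (Subgroup.one_lt_card_iff_ne_bot V).2 hV.ne_bot)
  haveI : Group.IsSolvable (G ⧸ W) := Group.isSolvable_of_surjective (QuotientGroup.mk'_surjective W)
  have hsm : ∀ (g : G) (v : Additive V), (((g : G ⧸ W) • v).toMul : G) = g * v.toMul.1 * g⁻¹ :=
    fun g v => MulAut.conjNormal_apply g v.toMul
  have hfaith : ∀ h : G ⧸ W, (∀ v : Additive V, h • v = v) → h = 1 := by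
    intro h hh
    induction h using QuotientGroup.induction_on with | _ g =>
    refine (QuotientGroup.eq_one_iff g).2 fun v hv => ?_
    have := hsm g (Additive.ofMul ⟨v, hv⟩)
    rw [hh] at this
    exact eq_mul_inv_iff_mul_eq.1 this
  have hirr : ∀ U : AddSubgroup (Additive V), (∀ h : G ⧸ W, ∀ u ∈ U, h • u ∈ U) → U = ⊥ ∨ U = ⊤ := by
    intro U hU
    let L : Subgroup G :=
      { carrier := {y | ∃ h : y ∈ V, Additive.ofMul ⟨y, h⟩ ∈ U}
        one_mem' := ⟨V.one_mem, U.zero_mem⟩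
        mul_mem' := fun {y z} ⟨hy, hyU⟩ ⟨hz, hzU⟩ => ⟨V.mul_mem hy hz, U.add_mem hyU hzU⟩
        inv_mem' := fun {y} ⟨hy, hyU⟩ => ⟨V.inv_mem hy, U.neg_mem hyU⟩ }
    have hLn : L.Normal := ⟨fun y ⟨hy, hyU⟩ g => ⟨hV.normal.conj_mem y hy g, by
      have h1 := hU (g : G ⧸ W) _ hyU
      convert h1 using 1
      exact Additive.toMul.injective (Subtype.ext (hsm g (Additive.ofMul ⟨y, hy⟩)).symm)⟩⟩
    rcases hV.eq_of_le L hLn (fun y hy => hy.1) with h | h
    · refine Or.inl ((AddSubgroup.eq_bot_iff_forall U).2 fun u hu => ?_)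
      have : u.toMul.1 ∈ (⊥ : Subgroup G) := h ▸ (⟨u.toMul.2, hu⟩ : u.toMul.1 ∈ L)
      exact Additive.toMul.injective (Subtype.ext (Subgroup.mem_bot.1 this))
    · exact Or.inr ((AddSubgroup.eq_top_iff' U).2 fun u => (h.symm ▸ u.toMul.2 : u.toMul.1 ∈ L).2)
  set z : G ⧸ W := (x : G ⧸ W) with hz
  have hz1 : z ≠ 1 := fun h => hxW ((QuotientGroup.eq_one_iff x).1 h)
  have hzp : z ^ p = 1 := by rw [hz, ← QuotientGroup.mk_pow, hxp]; rfl
  have hzo : orderOf z = p := orderOf_eq_prime hzp hz1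
  have hnorm : ∀ h : G ⧸ W, ∃ i : ℕ, h * z * h⁻¹ = z ^ i := by
    intro h
    induction h using QuotientGroup.induction_on with | _ g =>
    obtain ⟨i, v, hv, e⟩ := hxK (g * x * g⁻¹) ((inferInstance : K.Normal).conj_mem x (hmem x hxp) g)
    have hvW : (v : G ⧸ W) = 1 := (QuotientGroup.eq_one_iff v).2 fun u hu => hVc u hu v hv
    have e' : (g : G ⧸ W) * z * (g : G ⧸ W)⁻¹ = z ^ i := by
      rw [hz, ← QuotientGroup.mk_inv, ← QuotientGroup.mk_mul, ← QuotientGroup.mk_mul, e, QuotientGroup.mk_mul,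
        hvW, mul_one, QuotientGroup.mk_zpow]
    obtain ⟨j, hj⟩ := mem_powers_iff_mem_zpowers.2 (e' ▸ Subgroup.zpow_mem _ (Subgroup.mem_zpowers z) i :
      (g : G ⧸ W) * z * (g : G ⧸ W)⁻¹ ∈ Subgroup.zpowers z)
    exact ⟨j, hj.symm⟩
  have hfix : ∀ v : Additive V, z • v = v → v = 0 := by
    let X : AddSubgroup (Additive V) :=
      { carrier := {v | z • v = v}
        zero_mem' := smul_zero z
        add_mem' := fun {u v} hu hv => by show z • (u + v) = u + v; rw [smul_add, hu, hv]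
        neg_mem' := fun {u} hu => by show z • (-u) = -u; rw [smul_neg, hu] }
    have hpw : ∀ (j : ℕ), ∀ v ∈ X, z ^ j • v = v := fun j v hv => by
      induction j with
      | zero => rw [pow_zero, one_smul]
      | succ j ih => rw [pow_succ, mul_smul, hv, ih]
    rcases hirr X (fun h v hv => by
      obtain ⟨i, hi⟩ := hnorm h⁻¹
      rw [inv_inv] at hi
      show z • h • v = h • v
      rw [← mul_smul, show z * h = h * (h⁻¹ * z * h) by group, mul_smul, hi, hpw i v hv]) with h | h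
    · exact fun v hv => (AddSubgroup.eq_bot_iff_forall X).1 h v hv
    · exact absurd (hfaith z fun v => (h ▸ AddSubgroup.mem_top v : v ∈ X)) hz1
  let C : Subgroup (G ⧸ W) := Subgroup.centralizer {z}
  have hCn : C.Normal := ⟨fun c hc h => by
    obtain ⟨i, hi⟩ := hnorm h⁻¹
    rw [inv_inv] at hi
    rw [Subgroup.mem_centralizer_singleton_iff] at hc ⊢
    have hc' : c * z ^ i = z ^ i * c := ((show Commute c z from hc).pow_right i).eq
    calc h * c * h⁻¹ * z = h * (c * (h⁻¹ * z * h)) * h⁻¹ := by group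
      _ = h * (h⁻¹ * z * h * c) * h⁻¹ := by rw [hi, hc']
      _ = z * (h * c * h⁻¹) := by group⟩
  have hexp : ∀ v : Additive V, r • v = 0 := fun v =>
    Additive.toMul.injective (Subtype.ext (by
      rw [toMul_nsmul, SubmonoidClass.coe_pow]; exact hrV _ v.toMul.2))
  have hVcard : Nat.card (Additive V) = r ^ a := (Nat.card_congr Additive.toMul).trans hVa
  have hCa : C.index ≤ a := conjugates_le r p hexp hVcard z hzp hfix hnorm C
    fun h hh => Subgroup.mem_centralizer_singleton_iff.2 hh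
  have hzC : z ∈ C := Subgroup.mem_centralizer_singleton_iff.2 rfl
  have hzc : ∀ c : C, (⟨z, hzC⟩ : C) * c = c * ⟨z, hzC⟩ := fun c =>
    Subtype.ext (Subgroup.mem_centralizer_singleton_iff.1 c.2).symm
  have hpC : p ≤ cls C := by
    have := Nat.card_le_card_of_injective (fun i : Fin p => ConjClasses.mk ((⟨z, hzC⟩ : C) ^ i.1)) fun i j h => by
      obtain ⟨c, hc⟩ := isConj_iff.1 (ConjClasses.mk_eq_mk_iff_isConj.1 h)
      rw [← ((show Commute (⟨z, hzC⟩ : C) c from hzc c).pow_left i.1).eq, mul_inv_cancel_right] at hc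
      have h2 : z ^ i.1 = z ^ j.1 := by simpa using congrArg Subtype.val hc
      rw [pow_eq_pow_iff_modEq, hzo] at h2
      exact Fin.ext (Nat.ModEq.eq_of_lt_of_lt h2 i.2 j.2)
    rwa [Nat.card_fin] at this
  obtain ⟨hoa, hCr⟩ := ratio_fix r p a (Additive V) C (fun c hc => Subtype.ext (hfaith c.1 hc))
    (cr_normal hirr C hCn) ⟨⟨z, hzC⟩, hzc, Subtype.ext (by simpa using hzp), hfix⟩ hVcard
  set o := orderOf (r : ZMod p) with ho
  have hcount := card_sub_one_le_above V W (fun v hv u hu => hVc u hu v hv) hWV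
  have hh := cls_quotient_le W
  have hCh : cls C ≤ C.index * cls (G ⧸ W) := (S4200.result C).1
  have hH : Nat.card (G ⧸ W) ≤ C.index ^ 2 * fb (a / o) * cls (G ⧸ W) := card_le_of_subgroup C hCr
  rw [hVa] at hcount
  have hrne : (r : ZMod p) ≠ 0 := fun e =>
    hrp ((Nat.prime_dvd_prime_iff_eq hp hr).1 ((ZMod.natCast_eq_zero_iff _ _).1 e)).symm
  have ho0 : 0 < o := Nat.pos_of_dvd_of_pos (orderOf_dvd_of_pow_eq_one (ZMod.pow_card_sub_one_eq_one hrne)) (by omega)
  have hro : p < r ^ o := by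
    have h1 : ((r ^ o : ℕ) : ZMod p) = 1 := by rw [Nat.cast_pow]; exact pow_orderOf_eq_one _
    have h2 : p ∣ r ^ o - 1 := by
      rw [← ZMod.natCast_eq_zero_iff, Nat.cast_sub (Nat.one_le_pow _ _ hr.pos), h1, Nat.cast_one, sub_self]
    have h3 := Nat.one_lt_pow ho0.ne' hr.one_lt
    have := Nat.le_of_dvd (by omega) h2
    omega
  have hl : 6 ≤ Nat.log 2 p := (Nat.le_log_iff_pow_le one_lt_two (by omega)).2 (by norm_num; omega)
  refine final_fix hl (Nat.lt_pow_succ_log_self one_lt_two p) (Nat.pow_log_le_self 2 (by omega)) hr.two_le hCa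
    ?_ (split_le hH hcount hh) (Nat.mul_div_cancel' hoa).symm hro
  exact (hpC.trans hCh).trans (Nat.mul_le_mul_left _ hh)

/-- The bound with the integral logarithm. -/
theorem fitting_index_bound {G : Type u} [Group G] [Finite G] (hG : Group.IsSolvable G) (p : ℕ) [Fact p.Prime]
    (hp : p ∣ (Cfsg.fittingSubgroup G).index) : p ≤ 3 * Nat.log 2 p * cls G := by
  have hpp : p.Prime := Fact.out
  have hdvd : p ∣ Nat.card G := hp.trans (Subgroup.index_dvd_card _)
  have hGp : p ≤ Nat.card G := Nat.le_of_dvd Nat.card_pos hdvd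
  obtain ⟨hs2, hs4⟩ := card_le_of_cls (G := G)
  by_cases hbig : p < 64
  · have hk2 : 2 ≤ cls G := by
      by_contra h
      have := hs2 (by omega)
      haveI : Nontrivial G := Finite.one_lt_card_iff_nontrivial.1 (by have := hpp.two_le; omega)
      obtain ⟨g, hg⟩ := exists_ne (1 : G)
      have : Subsingleton (ConjClasses G) := (Finite.card_le_one_iff_subsingleton).1 (show cls G ≤ 1 by omega)
      exact hg (isConj_one_right.1 (ConjClasses.mk_eq_mk_iff_isConj.1
        (Subsingleton.elim (ConjClasses.mk g) (ConjClasses.mk 1))).symm)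
    have hk3 : 3 ≤ p → 3 ≤ cls G := fun h => by
      by_contra h'
      have := hs2 (by omega)
      omega
    have hk5 : 43 ≤ p → 5 ≤ cls G := fun h => by
      by_contra h'
      have := hs4 (by omega)
      omega
    have := hpp.two_le
    have hll := Nat.lt_pow_succ_log_self one_lt_two p
    have hl0 := Nat.pow_log_le_self 2 (show p ≠ 0 by omega)
    generalize Nat.log 2 p = l at hll hl0 ⊢
    have : l < 6 := by
      by_contra h
      have := Nat.pow_le_pow_right (show 0 < 2 by norm_num) (show 6 ≤ l by omega)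
      omega
    interval_cases l <;> norm_num at hll hl0 ⊢ <;> omega
  push Not at hbig
  have hl : 6 ≤ Nat.log 2 p := (Nat.le_log_iff_pow_le one_lt_two (by omega)).2 (by norm_num; omega)
  by_cases hsq : p ^ 2 ∣ Nat.card G
  · have := main hG p hsq
    have := Nat.mul_le_mul_right (cls G) (show 18 ≤ 3 * Nat.log 2 p by omega)
    omega
  refine core_bound _ G rfl hG p hbig hdvd hsq fun P hP hPc => hsq ?_
  have hle : P ≤ Cfsg.fittingSubgroup G :=
    le_sSup ⟨hP, (IsPGroup.of_card (n := 1) (by rw [hPc, pow_one])).isNilpotent⟩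
  rw [← (Cfsg.fittingSubgroup G).card_mul_index, sq]
  exact Nat.mul_dvd_mul (hPc ▸ Subgroup.card_dvd_of_le hle) hp

end Cfsg.Agent.ClassBoundSq
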