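import Cfsg.Agent.ClassBoundSq.Count

/-!
Groups with a centre embedded in a field and a self-centralising normal subgroup of class two.
-/

set_option autoImplicit false

namespace Cfsg.Agent.ClassBoundSq

universe u v

/-- The data. -/
structure Heis (K : Type u) [Field K] (C : Type v) [Group C] where
  B : Subgroup C
  N : Subgroup C
  normal : N.Normal
  central : ∀ b ∈ B, ∀ c : C, b * c = c * b
  le : B ≤ N
  comm : ∀ a ∈ N, ∀ b ∈ N, a * b * a⁻¹ * b⁻¹ ∈ B
  cent : ∀ c : C, (∀ x ∈ N, c * x = x * c) → c ∈ B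
  χ : B →* Kˣ
  inj : Function.Injective χ

theorem card_hom_le (A : Type*) [CommGroup A] [Finite A] (K : Type*) [Field K] :
    Finite (A →* Kˣ) ∧ Nat.card (A →* Kˣ) ≤ Nat.card A := by
  classical
  haveI := Fintype.ofFinite A
  have h := linearIndependent_monoidHom A K
  haveI : Finite (A →* K) := h.finite
  haveI := Fintype.ofFinite (A →* K)
  have hinj : Function.Injective fun f : A →* Kˣ => (Units.coeHom K).comp f := fun f g e =>
    MonoidHom.ext fun a => Units.ext (DFunLike.congr_fun e a)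
  refine ⟨Finite.of_injective _ hinj, (Nat.card_le_card_of_injective _ hinj).trans ?_⟩
  have := h.fintype_card_le_finrank
  rwa [Module.finrank_fintype_fun_eq_card, ← Nat.card_eq_fintype_card, ← Nat.card_eq_fintype_card] at this

namespace Heis

variable {K : Type u} [Field K] {C : Type v} [Group C] (H : Heis K C)

instance normal_N : H.N.Normal := H.normal

instance normal_B : H.B.Normal := ⟨fun b hb c => by rwa [← H.central b hb c, mul_inv_cancel_right]⟩

/-- The quotient of the normal subgroup. -/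
abbrev W : Type v := H.N ⧸ H.B.subgroupOf H.N

instance commGroup_W : CommGroup H.W :=
  { (inferInstance : Group (H.N ⧸ H.B.subgroupOf H.N)) with
    mul_comm := fun u v => by
      induction u using QuotientGroup.induction_on with | _ a =>
      induction v using QuotientGroup.induction_on with | _ b =>
      refine (QuotientGroup.eq_iff_div_mem (N := H.B.subgroupOf H.N)).2 ?_
      simpa [Subgroup.mem_subgroupOf, div_eq_mul_inv, mul_assoc] using H.comm a a.2 b b.2 }

/-- The commutator as an element of the centre. -/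
def br (a b : H.N) : H.B := ⟨a.1 * b.1 * a.1⁻¹ * b.1⁻¹, H.comm a a.2 b b.2⟩

theorem br_mul_left (a a' b : H.N) : H.br (a * a') b = H.br a b * H.br a' b := Subtype.ext (by
  show (a.1 * a'.1) * b.1 * (a.1 * a'.1)⁻¹ * b.1⁻¹ =
    a.1 * b.1 * a.1⁻¹ * b.1⁻¹ * (a'.1 * b.1 * a'.1⁻¹ * b.1⁻¹)
  rw [← H.central (a'.1 * b.1 * a'.1⁻¹ * b.1⁻¹) (H.comm a' a'.2 b b.2)]
  calc (a.1 * a'.1) * b.1 * (a.1 * a'.1)⁻¹ * b.1⁻¹
      = a.1 * (a'.1 * b.1 * a'.1⁻¹ * b.1⁻¹) * (b.1 * a.1⁻¹ * b.1⁻¹) := by group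
    _ = (a'.1 * b.1 * a'.1⁻¹ * b.1⁻¹) * a.1 * (b.1 * a.1⁻¹ * b.1⁻¹) := by
        rw [H.central _ (H.comm a' a'.2 b b.2) a.1]
    _ = _ := by group)

theorem br_mul_right (a b b' : H.N) : H.br a (b * b') = H.br a b * H.br a b' := Subtype.ext (by
  show a.1 * (b.1 * b'.1) * a.1⁻¹ * (b.1 * b'.1)⁻¹ =
    a.1 * b.1 * a.1⁻¹ * b.1⁻¹ * (a.1 * b'.1 * a.1⁻¹ * b'.1⁻¹)
  calc a.1 * (b.1 * b'.1) * a.1⁻¹ * (b.1 * b'.1)⁻¹
      = a.1 * b.1 * a.1⁻¹ * ((a.1 * b'.1 * a.1⁻¹ * b'.1⁻¹) * b.1⁻¹) := by group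
    _ = a.1 * b.1 * a.1⁻¹ * (b.1⁻¹ * (a.1 * b'.1 * a.1⁻¹ * b'.1⁻¹)) := by
        rw [H.central _ (H.comm a a.2 b' b'.2) b.1⁻¹]
    _ = _ := by group)

theorem br_self (a : H.N) : H.br a a = 1 := Subtype.ext (by
  show a.1 * a.1 * a.1⁻¹ * a.1⁻¹ = 1; group)

theorem br_left (a b : H.N) (ha : a.1 ∈ H.B) : H.br a b = 1 := Subtype.ext (by
  show a.1 * b.1 * a.1⁻¹ * b.1⁻¹ = 1; rw [H.central a ha]; group)

theorem br_right (a b : H.N) (hb : b.1 ∈ H.B) : H.br a b = 1 := Subtype.ext (by
  show a.1 * b.1 * a.1⁻¹ * b.1⁻¹ = 1; rw [← H.central b hb]; group)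

/-- The commutator form with one argument fixed. -/
noncomputable def brHom (a : H.N) : H.W →* Kˣ :=
  QuotientGroup.lift _ (H.χ.comp (MonoidHom.mk' (H.br a) (H.br_mul_right a))) fun b hb => by
    rw [MonoidHom.mem_ker, MonoidHom.comp_apply, MonoidHom.mk'_apply, H.br_right a b hb, map_one]

/-- The commutator form. -/
noncomputable def pair : H.W →* H.W →* Kˣ :=
  QuotientGroup.lift _ (MonoidHom.mk' H.brHom fun a a' => QuotientGroup.monoidHom_ext _ <| MonoidHom.ext fun b => by
    show H.χ (H.br (a * a') b) = H.χ (H.br a b) * H.χ (H.br a' b)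
    rw [H.br_mul_left, map_mul]) fun a ha => QuotientGroup.monoidHom_ext _ <| MonoidHom.ext fun b => by
      show H.χ (H.br a b) = 1
      rw [H.br_left a b ha, map_one]

theorem pair_mk (a b : H.N) : H.pair a b = H.χ (H.br a b) := rfl

theorem pair_self (u : H.W) : H.pair u u = 1 := by
  induction u using QuotientGroup.induction_on with | _ a => rw [H.pair_mk, H.br_self, map_one]

theorem pair_inj : Function.Injective H.pair := by
  refine (injective_iff_map_eq_one _).2 fun u hu => ?_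
  induction u using QuotientGroup.induction_on with | _ a =>
  refine (QuotientGroup.eq_one_iff a).2 (H.cent a.1 fun x hx => ?_)
  have h : H.br a ⟨x, hx⟩ = 1 := H.inj ((DFunLike.congr_fun hu ((⟨x, hx⟩ : H.N) : H.W)).trans (map_one H.χ).symm)
  exact mul_inv_eq_iff_eq_mul.1 (mul_inv_eq_one.1 (congrArg Subtype.val h))

variable [Finite C]

theorem pair_surjective : Function.Surjective H.pair := by
  obtain ⟨h1, h2⟩ := card_hom_le H.W K
  exact (H.pair_inj.bijective_of_nat_card_le h2).2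

/-- The order of the quotient is a square. -/
theorem exists_sq : ∃ e, 0 < e ∧ Nat.card H.W = e ^ 2 := by
  obtain ⟨I, hI, hmax⟩ := Set.Finite.exists_maximal
    (Set.toFinite {I : Subgroup H.W | ∀ u ∈ I, ∀ v ∈ I, H.pair u v = 1})
    ⟨⊥, fun u hu v _ => by rw [Subgroup.mem_bot.1 hu, map_one, MonoidHom.one_apply]⟩
  refine ⟨Nat.card I, Nat.card_pos, ?_⟩
  let φ : H.W →* I →* Kˣ := MonoidHom.mk' (fun u => (H.pair u).comp I.subtype) fun u v => by
    ext x
    simp
  have hker : φ.ker = I := by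
    refine le_antisymm (fun u hu => ?_) fun u hu => MonoidHom.ext fun x => hI u hu x.1 x.2
    have hu' : ∀ v ∈ I, H.pair u v = 1 := fun v hv => DFunLike.congr_fun hu ⟨v, hv⟩
    have hanti : ∀ v ∈ I, H.pair v u = 1 := fun v hv => by
      have h := H.pair_self (u * v)
      simp only [map_mul, MonoidHom.mul_apply, H.pair_self, hu' v hv, one_mul, mul_one] at h
      exact h
    have hJ : ∀ x ∈ I ⊔ Subgroup.zpowers u, ∀ y ∈ I ⊔ Subgroup.zpowers u, H.pair x y = 1 := by
      intro x hx y hy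
      obtain ⟨a, ha, _, ⟨i, rfl⟩, rfl⟩ := Subgroup.mem_sup.1 hx
      obtain ⟨b, hb, _, ⟨j, rfl⟩, rfl⟩ := Subgroup.mem_sup.1 hy
      simp [hI a ha b hb, hu' b hb, hanti a ha, H.pair_self]
    exact hmax hJ le_sup_left (Subgroup.mem_sup_right (Subgroup.mem_zpowers u))
  obtain ⟨hf1, hc1⟩ := card_hom_le I K
  have h1 : I.index ≤ Nat.card I := by
    rw [← hker, Subgroup.index_ker, hker]
    exact (Nat.card_le_card_of_injective _ Subtype.val_injective).trans hc1
  let ψ : I →* (H.W ⧸ I) →* Kˣ := MonoidHom.mk'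
    (fun a => QuotientGroup.lift I (H.pair a) fun v hv => hI a a.2 v hv) fun a a' =>
      QuotientGroup.monoidHom_ext _ <| MonoidHom.ext fun v => by
        show H.pair (a * a' : I).1 v = H.pair a.1 v * H.pair a'.1 v
        simp
  have hψ : Function.Injective ψ := (injective_iff_map_eq_one ψ).2 fun a ha => Subtype.ext <|
    H.pair_inj ((MonoidHom.ext fun v => DFunLike.congr_fun ha (v : H.W ⧸ I) : H.pair a.1 = 1).trans
      (map_one H.pair).symm)
  obtain ⟨hf2, hc2⟩ := card_hom_le (H.W ⧸ I) K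
  have h2 : Nat.card I ≤ I.index := (Nat.card_le_card_of_injective ψ hψ).trans hc2
  rw [← I.index_mul_card, le_antisymm h1 h2, sq]

/-- Conjugation. -/
noncomputable def conj : C →* MulAut H.W where
  toFun g := QuotientGroup.congr _ _ (MulAut.conjNormal g : MulAut H.N) (by
    refine le_antisymm ?_ ?_
    · rintro _ ⟨a, ha, rfl⟩
      exact H.normal_B.conj_mem _ ha g
    · intro a ha
      refine ⟨(MulAut.conjNormal g : MulAut H.N).symm a, ?_, MulEquiv.apply_symm_apply _ a⟩
      rw [SetLike.mem_coe, Subgroup.mem_subgroupOf, MulAut.conjNormal_symm_apply]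
      simpa using H.normal_B.conj_mem _ ha g⁻¹)
  map_one' := by
    ext u
    induction u using QuotientGroup.induction_on with | _ a =>
    show ((MulAut.conjNormal 1 : MulAut H.N) a : H.W) = _
    rw [map_one]; rfl
  map_mul' g h := by
    ext u
    induction u using QuotientGroup.induction_on with | _ a =>
    show ((MulAut.conjNormal (g * h) : MulAut H.N) a : H.W) = _
    rw [map_mul]; rfl

theorem conj_mk (g : C) (a : H.N) :
    H.conj g (a : H.W) = ((⟨g * a.1 * g⁻¹, H.normal.conj_mem _ a.2 g⟩ : H.N) : H.W) :=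
  congrArg _ (Subtype.ext (MulAut.conjNormal_apply g a))

theorem pair_conj (g : C) (u v : H.W) : H.pair (H.conj g u) (H.conj g v) = H.pair u v := by
  induction u using QuotientGroup.induction_on with | _ a =>
  induction v using QuotientGroup.induction_on with | _ b =>
  rw [H.conj_mk, H.conj_mk, H.pair_mk, H.pair_mk]
  congr 1
  refine Subtype.ext ?_
  show (g * a.1 * g⁻¹) * (g * b.1 * g⁻¹) * (g * a.1 * g⁻¹)⁻¹ * (g * b.1 * g⁻¹)⁻¹ =
    a.1 * b.1 * a.1⁻¹ * b.1⁻¹
  calc _ = g * (a.1 * b.1 * a.1⁻¹ * b.1⁻¹) * g⁻¹ := by group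
    _ = _ := by rw [← H.central _ (H.comm a a.2 b b.2) g, mul_inv_cancel_right]

theorem conj_ker : H.conj.ker = H.N := by
  ext g
  refine ⟨fun hg => ?_, fun hg => MulEquiv.ext fun u => ?_⟩
  · have hb : ∀ a : H.N, g * a.1 * g⁻¹ * a.1⁻¹ ∈ H.B := fun a => by
      have h : H.conj g (a : H.W) = (a : H.W) := by rw [show H.conj g = 1 from hg]; rfl
      rw [H.conj_mk, QuotientGroup.eq_iff_div_mem, Subgroup.mem_subgroupOf] at h
      simpa [div_eq_mul_inv] using h
    let d : H.N →* Kˣ := H.χ.comp (MonoidHom.mk' (fun a => (⟨_, hb a⟩ : H.B)) fun a a' => Subtype.ext (by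
      show g * (a.1 * a'.1) * g⁻¹ * (a.1 * a'.1)⁻¹ = g * a.1 * g⁻¹ * a.1⁻¹ * (g * a'.1 * g⁻¹ * a'.1⁻¹)
      calc g * (a.1 * a'.1) * g⁻¹ * (a.1 * a'.1)⁻¹
          = g * a.1 * g⁻¹ * ((g * a'.1 * g⁻¹ * a'.1⁻¹) * a.1⁻¹) := by group
        _ = g * a.1 * g⁻¹ * (a.1⁻¹ * (g * a'.1 * g⁻¹ * a'.1⁻¹)) := by rw [H.central _ (hb a') a.1⁻¹]
        _ = _ := by group))
    obtain ⟨u, hu⟩ := H.pair_surjective (QuotientGroup.lift (H.B.subgroupOf H.N) d fun b hb' => by
      rw [MonoidHom.mem_ker]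
      refine (congrArg H.χ (Subtype.ext ?_)).trans (map_one H.χ)
      show g * b.1 * g⁻¹ * b.1⁻¹ = 1
      rw [← H.central b.1 hb' g]; group)
    induction u using QuotientGroup.induction_on with | _ c =>
    have hc : c.1⁻¹ * g ∈ H.B := H.cent _ fun x hx => by
      have h : H.br c ⟨x, hx⟩ = ⟨_, hb ⟨x, hx⟩⟩ :=
        H.inj (DFunLike.congr_fun hu ((⟨x, hx⟩ : H.N) : H.W))
      have h' : c.1 * x * c.1⁻¹ = g * x * g⁻¹ := mul_right_cancel (congrArg Subtype.val h)
      calc c.1⁻¹ * g * x = c.1⁻¹ * (g * x * g⁻¹) * g := by group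
        _ = c.1⁻¹ * (c.1 * x * c.1⁻¹) * g := by rw [h']
        _ = x * (c.1⁻¹ * g) := by group
    simpa using H.N.mul_mem c.2 (H.le hc)
  · induction u using QuotientGroup.induction_on with | _ a =>
    rw [H.conj_mk]
    show ((⟨g * a.1 * g⁻¹, _⟩ : H.N) : H.W) = (a : H.W)
    have h : ((⟨g, hg⟩ : H.N) : H.W) * a * ((⟨g, hg⟩ : H.N) : H.W)⁻¹ = a := by
      rw [mul_comm ((⟨g, hg⟩ : H.N) : H.W) (a : H.W), mul_inv_cancel_right]
    exact h

/-- Conjugation from the quotient by the centre. -/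
noncomputable def act : C ⧸ H.B →* MulAut H.W :=
  QuotientGroup.lift H.B H.conj fun b hb => by rw [H.conj_ker]; exact H.le hb

theorem act_mk (g : C) : H.act (g : C ⧸ H.B) = H.conj g := rfl

theorem index_eq : H.B.index = Nat.card H.W * Nat.card H.conj.range := by
  rw [← Subgroup.index_ker, H.conj_ker, ← Subgroup.relIndex_mul_index H.le]
  rfl

theorem card_fibre (φ : MulAut H.W) : Nat.card {q : C ⧸ H.B // H.act q = φ} ≤ Nat.card H.W := by
  have hk : Nat.card H.act.ker = Nat.card H.W := by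
    have h1 := H.act.ker.index_mul_card
    have h2 : H.act.range = H.conj.range :=
      SetLike.ext fun y => by
        simp only [MonoidHom.mem_range]
        refine ⟨?_, fun ⟨g, hg⟩ => ⟨(g : C ⧸ H.B), hg⟩⟩
        rintro ⟨q, hq⟩
        induction q using QuotientGroup.induction_on with | _ g => exact ⟨g, hq⟩
    rw [Subgroup.index_ker, h2, ← Subgroup.index_eq_card, H.index_eq, mul_comm] at h1
    exact Nat.eq_of_mul_eq_mul_right Nat.card_pos h1
  rcases isEmpty_or_nonempty {q : C ⧸ H.B // H.act q = φ} with h | ⟨⟨q0, h0⟩⟩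
  · rw [Nat.card_of_isEmpty]; exact Nat.zero_le _
  rw [← hk]
  refine Nat.card_le_card_of_injective (fun q => ⟨q0⁻¹ * q.1, by
    rw [MonoidHom.mem_ker, map_mul, map_inv, h0, q.2, inv_mul_cancel]⟩) fun a b e => Subtype.ext ?_
  exact mul_left_cancel (congrArg Subtype.val e)

/-- Centralisers bound the class number from below. -/
theorem card_mul_le [Fintype (C ⧸ H.B)] (c : C ⧸ H.B → ℕ)
    (hc : ∀ g : C, Nat.card H.B * c g ≤ Nat.card (Subgroup.centralizer ({g} : Set C))) :
    Nat.card C * (∑ q, c q) ≤ H.B.index ^ 2 * cls C := by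
  classical
  haveI := Fintype.ofFinite C
  have hpairs : Nat.card {p : C × C // Commute p.1 p.2} =
      ∑ g : C, Nat.card (Subgroup.centralizer ({g} : Set C)) := by
    rw [← Nat.card_sigma]
    exact Nat.card_congr
      { toFun := fun p => ⟨p.1.1, p.1.2, Subgroup.mem_centralizer_singleton_iff.2 p.2.symm⟩
        invFun := fun s => ⟨(s.1, s.2.1), (Subgroup.mem_centralizer_singleton_iff.1 s.2.2).symm⟩
        left_inv := fun p => rfl
        right_inv := fun s => rfl }
  have hfib : ∀ q : C ⧸ H.B, (Finset.univ.filter fun g : C => (g : C ⧸ H.B) = q).card = Nat.card H.B := by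
    intro q
    rw [← Fintype.card_subtype, ← Nat.card_eq_fintype_card]
    induction q using QuotientGroup.induction_on with | _ g0 =>
    exact Nat.card_congr
      { toFun := fun g => ⟨g0⁻¹ * g.1, QuotientGroup.eq.1 g.2.symm⟩
        invFun := fun b => ⟨g0 * b.1, QuotientGroup.mk_mul_of_mem g0 b.2⟩
        left_inv := fun g => Subtype.ext (mul_inv_cancel_left g0 g.1)
        right_inv := fun b => Subtype.ext (inv_mul_cancel_left g0 b.1) }
  have key : Nat.card H.B * (Nat.card H.B * ∑ q, c q) ≤ cls C * (H.B.index * Nat.card H.B) := by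
    rw [H.B.index_mul_card, ← card_comm_eq_card_conjClasses_mul_card, hpairs,
      ← Finset.sum_fiberwise Finset.univ (fun g : C => (g : C ⧸ H.B)), Finset.mul_sum, Finset.mul_sum]
    refine Finset.sum_le_sum fun q _ => ?_
    calc Nat.card H.B * (Nat.card H.B * c q)
        = ∑ _g ∈ Finset.univ.filter (fun g : C => (g : C ⧸ H.B) = q), Nat.card H.B * c q := by
          rw [Finset.sum_const, hfib, smul_eq_mul]
      _ ≤ _ := Finset.sum_le_sum fun g hg => by
          have := hc g
          rwa [(Finset.mem_filter.1 hg).2] at this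
  have key' : Nat.card H.B * ∑ q, c q ≤ cls C * H.B.index :=
    Nat.le_of_mul_le_mul_left (by rw [← mul_assoc] at key ⊢; convert key using 1; ring) (Nat.card_pos (α := H.B))
  calc Nat.card C * ∑ q, c q = H.B.index * (Nat.card H.B * ∑ q, c q) := by
        rw [← H.B.index_mul_card, mul_assoc]
    _ ≤ H.B.index * (cls C * H.B.index) := Nat.mul_le_mul_left _ key'
    _ = _ := by ring

theorem cent_one (g : C) (hg : (g : C ⧸ H.B) = 1) :
    Nat.card H.B * H.B.index ≤ Nat.card (Subgroup.centralizer ({g} : Set C)) := by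
  rw [Subgroup.card_mul_index, show Subgroup.centralizer ({g} : Set C) = ⊤ from
    (Subgroup.eq_top_iff' _).2 fun c => Subgroup.mem_centralizer_singleton_iff.2
      (H.central g ((QuotientGroup.eq_one_iff g).1 hg) c).symm, Subgroup.card_top]

theorem cent_order (g : C) :
    Nat.card H.B * orderOf (g : C ⧸ H.B) ≤ Nat.card (Subgroup.centralizer ({g} : Set C)) := by
  set Z := Subgroup.centralizer ({g} : Set C) with hZ
  let f : Z →* C ⧸ H.B := (QuotientGroup.mk' H.B).comp Z.subtype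
  have hk : Nat.card f.ker = Nat.card H.B := Nat.card_congr
    { toFun := fun z => ⟨z.1.1, (QuotientGroup.eq_one_iff _).1 z.2⟩
      invFun := fun b => ⟨⟨b.1, Subgroup.mem_centralizer_singleton_iff.2 (H.central b b.2 g)⟩,
        (QuotientGroup.eq_one_iff _).2 b.2⟩
      left_inv := fun z => rfl
      right_inv := fun b => rfl }
  rw [← f.ker.index_mul_card, Subgroup.index_ker, hk, mul_comm]
  refine Nat.mul_le_mul_right _ ?_
  rw [← Nat.card_zpowers]
  exact Subgroup.card_le_of_le (Subgroup.zpowers_le.2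
    ⟨⟨g, Subgroup.mem_centralizer_singleton_iff.2 rfl⟩, rfl⟩)

end Heis

end Cfsg.Agent.ClassBoundSq
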