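import Cfsg.Agent.BaseTwo.Reduce

/-!
The decomposition by idempotents, recording that the abelian subgroup fixes each piece.
-/

set_option autoImplicit false
set_option maxHeartbeats 1000000

universe u v

namespace Cfsg.Agent.ClassBoundSq

open BaseTwo BaseTwo.Reduce

variable {V : Type v} [AddCommGroup V] {G : Type u} [Group G] [DistribMulAction G V] [Finite V] [Finite G]

/-- A decomposition permuted by the group. -/
theorem exists_idempotents_fix [Nontrivial V]
    (hirr : ∀ U : AddSubgroup V, (∀ g : G, ∀ u ∈ U, g • u ∈ U) → U = ⊥ ∨ U = ⊤)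
    (B : Subgroup G) (hBn : B.Normal) (hBc : ∀ a ∈ B, ∀ b ∈ B, a * b = b * a)
    (hnf : ¬ IsField (ringOf V B)) :
    ∃ (ι : Type v) (_ : Fintype ι) (_ : MulAction G ι) (E : ι → AddMonoid.End V) (i0 : ι),
      (∀ i v, E i (E i v) = E i v) ∧ (∀ i j, i ≠ j → ∀ v, E i (E j v) = 0) ∧ (∀ v, ∑ i, E i v = v) ∧
      (∀ (g : G) i v, g • E i v = E (g • i) (g • v)) ∧ (∀ i, ∃ g : G, g • i0 = i) ∧ (∀ i, E i ≠ 0) ∧
      (∀ b ∈ B, ∀ i : ι, b • i = i) ∧ ∃ j, j ≠ i0 := by
  classical
  letI := ringOfComm (V := V) hBc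
  haveI : Finite (AddMonoid.End V) := Finite.of_injective _ DFunLike.coe_injective
  haveI := Fintype.ofFinite (ringOf V B)
  -- no nilpotents
  have hred : ∀ a : ringOf V B, IsNilpotent a → a = 0 := by
    let W : AddSubgroup V :=
      { carrier := {v | ∀ a : ringOf V B, IsNilpotent a → a.1 v = 0}
        add_mem' := fun {x y} hx hy a ha => by rw [map_add, hx a ha, hy a ha, add_zero]
        zero_mem' := fun a _ => map_zero a.1
        neg_mem' := fun {x} hx a ha => by rw [map_neg, hx a ha, neg_zero] }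
    have hW : ∀ g : G, ∀ u ∈ W, g • u ∈ W := fun g u hu a ha => by
      have h := conj_smul hBn g ((conj hBn g).symm a) u
      rw [RingEquiv.apply_symm_apply, hu _ (ha.map (conj hBn g).symm), smul_zero] at h
      exact h.symm
    rcases hirr W hW with h | h
    · exfalso
      obtain ⟨v, hv, hmin⟩ := Set.Finite.exists_minimalFor
        (fun v : V => Nat.card (Set.range fun a : ringOf V B => a.1 v)) {v : V | v ≠ 0} (Set.toFinite _)
        (exists_ne 0)
      refine hv ((AddSubgroup.eq_bot_iff_forall W).1 h v fun n hn => by_contra fun hne => ?_)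
      have hsub : Set.range (fun a : ringOf V B => a.1 (n.1 v)) ⊆ Set.range fun a : ringOf V B => a.1 v := by
        rintro _ ⟨a, rfl⟩; exact ⟨a * n, rfl⟩
      have hge := hmin (show n.1 v ∈ {v : V | v ≠ 0} from hne) (Nat.card_le_card_of_injective _ (Set.inclusion_injective hsub))
      have heq := Set.eq_of_subset_of_ncard_le hsub (by rw [← Nat.card_coe_set_eq, ← Nat.card_coe_set_eq]; exact hge)
      obtain ⟨a, ha⟩ : v ∈ Set.range (fun a : ringOf V B => a.1 (n.1 v)) := heq ▸ ⟨1, rfl⟩
      have hnil : IsNilpotent (a * n) := (Commute.all a n).isNilpotent_mul_left hn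
      obtain ⟨k, hk⟩ := hnil
      have hpow : ∀ k : ℕ, ((a * n) ^ k).1 v = v := by
        intro k
        induction k with
        | zero => rfl
        | succ k ih => rw [pow_succ]; show ((a * n) ^ k).1 ((a * n).1 v) = v; rw [show (a * n).1 v = v from ha, ih]
      exact hv ((hpow k).symm.trans (by rw [hk]; rfl))
    · intro a ha
      refine Subtype.ext (DFunLike.ext _ _ fun v => ?_)
      exact (h ▸ AddSubgroup.mem_top v : v ∈ W) a ha
  have hnt : Nontrivial (ringOf V B) := by
    obtain ⟨v, hv⟩ := exists_ne (0 : V)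
    exact ⟨1, 0, fun e => hv (DFunLike.congr_fun (congrArg Subtype.val e) v)⟩
  -- a nontrivial idempotent
  obtain ⟨a, ha0, hau⟩ : ∃ a : ringOf V B, a ≠ 0 ∧ ¬ IsUnit a := by
    by_contra h
    push_neg at h
    refine hnf ⟨⟨1, 0, one_ne_zero⟩, mul_comm, fun {x} hx => ?_⟩
    obtain ⟨u, rfl⟩ := h x hx
    exact ⟨_, u.mul_inv⟩
  obtain ⟨i, j, hij, heq⟩ : ∃ i j, i < j ∧ a ^ i = a ^ j := by
    obtain ⟨i, j, hne, e⟩ := Finite.exists_ne_map_eq_of_infinite fun k : ℕ => a ^ k
    rcases lt_or_gt_of_ne hne with h | h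
    exacts [⟨i, j, h, e⟩, ⟨j, i, h, e.symm⟩]
  set e := a ^ ((j - i) * (i + 1)) with he
  have hper : ∀ t k, i ≤ k → a ^ (k + t * (j - i)) = a ^ k := by
    intro t
    induction t with
    | zero => intro k _; rw [zero_mul, add_zero]
    | succ t ih =>
      intro k hk
      rw [show k + (t + 1) * (j - i) = (k - i) + (j + t * (j - i)) by
        rw [Nat.succ_mul]; omega, pow_add, pow_add a j, ← heq, ← pow_add, ih i le_rfl, ← pow_add]
      congr 1; omega
  have hidem : e * e = e := by
    rw [he, ← pow_add]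
    exact (congrArg (a ^ ·) (by rw [mul_comm (j - i)])).trans
      (hper (i + 1) _ (le_trans (Nat.le_succ i) (Nat.le_mul_of_pos_left _ (by omega))))
  have he0 : e ≠ 0 := fun h => ha0 (hred a ⟨_, h⟩)
  have he1 : e ≠ 1 := fun h => hau (IsUnit.of_pow_eq_one h (Nat.mul_ne_zero (by omega) (Nat.succ_ne_zero i)))
  -- atoms
  let Atom : ringOf V B → Prop := fun f => f * f = f ∧ f ≠ 0 ∧ ∀ d, d * d = d → f * d = d → d = 0 ∨ d = f
  have hbelow : ∀ f : ringOf V B, f * f = f → f ≠ 0 → ∃ d, Atom d ∧ f * d = d := by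
    intro f hf hf0
    obtain ⟨d, ⟨hd, hd0, hfd⟩, hmin⟩ := Set.Finite.exists_minimalFor
      (fun d : ringOf V B => Nat.card (Set.range (d * ·))) {d | d * d = d ∧ d ≠ 0 ∧ f * d = d}
      (Set.toFinite _) ⟨f, hf, hf0, hf⟩
    refine ⟨d, ⟨hd, hd0, fun c hc hdc => ?_⟩, hfd⟩
    by_contra hno
    rw [not_or] at hno
    have hsub : Set.range (c * ·) ⊆ Set.range (d * ·) := by
      rintro _ ⟨x, rfl⟩; exact ⟨c * x, by show d * (c * x) = c * x; rw [← mul_assoc, hdc]⟩
    have hge := hmin (show c ∈ {d | d * d = d ∧ d ≠ 0 ∧ f * d = d} from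
      ⟨hc, hno.1, by rw [← hdc, ← mul_assoc, hfd]⟩) (Nat.card_le_card_of_injective _ (Set.inclusion_injective hsub))
    have hset := Set.eq_of_subset_of_ncard_le hsub (by rw [← Nat.card_coe_set_eq, ← Nat.card_coe_set_eq]; exact hge)
    obtain ⟨x, hx⟩ : d ∈ Set.range (c * ·) := hset ▸ ⟨1, mul_one d⟩
    have : c * d = d := by rw [← hx]; show c * (c * x) = c * x; rw [← mul_assoc, hc]
    exact hno.2 (by rw [← this, mul_comm, hdc])
  have horth : ∀ f d : ringOf V B, Atom f → Atom d → f ≠ d → f * d = 0 := by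
    intro f d hf hd hne
    have hid : f * d * (f * d) = f * d := by rw [mul_mul_mul_comm, hf.1, hd.1]
    rcases hf.2.2 (f * d) hid (by rw [← mul_assoc, hf.1]) with h | h
    · exact h
    rcases hd.2.2 (f * d) hid (by rw [mul_comm d, mul_assoc, hd.1]) with h' | h'
    · exact h'
    · exact absurd (h.symm.trans h') hne
  have hsum : ∑ f : {f // Atom f}, f.1 = 1 := by
    by_contra hne
    set s := ∑ f : {f // Atom f}, f.1 with hs
    have hfs : ∀ f : {f // Atom f}, f.1 * s = f.1 := fun f => by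
      rw [hs, Finset.mul_sum, Finset.sum_eq_single f (fun g _ hg => horth _ _ f.2 g.2 fun h => hg (Subtype.ext h.symm))
        (fun h => absurd (Finset.mem_univ f) h), f.2.1]
    have hss : s * s = s := by
      conv_lhs => arg 1; rw [hs]
      rw [Finset.sum_mul, Finset.sum_congr rfl fun f _ => hfs f]
    obtain ⟨d, hd, hsd⟩ := hbelow (1 - s) (by rw [sub_mul, one_mul, mul_sub, mul_one, hss, sub_self, sub_zero])
      (sub_ne_zero.2 (Ne.symm hne))
    have := hfs ⟨d, hd⟩
    rw [sub_mul, one_mul, mul_comm, this, sub_self] at hsd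
    exact hd.2.1 hsd.symm
  have hatom : ∀ g f, Atom f → Atom (conj hBn g f) := fun g f hf =>
    ⟨by rw [← map_mul, hf.1], fun h => hf.2.1 ((conj hBn g).injective (h.trans (map_zero _).symm)), fun d hd hfd => by
      obtain ⟨d, rfl⟩ := (conj hBn g).surjective d
      rw [← map_mul] at hd hfd
      rcases hf.2.2 d ((conj hBn g).injective hd) ((conj hBn g).injective hfd) with h | h
      · exact Or.inl (by rw [h, map_zero])
      · exact Or.inr (by rw [h])⟩
  letI act : MulAction G {f // Atom f} :=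
    { smul := fun g f => ⟨conj hBn g f.1, hatom g f.1 f.2⟩
      one_smul := fun f => Subtype.ext (conj_one hBn f.1)
      mul_smul := fun g h f => Subtype.ext (conj_mul hBn g h f.1) }
  obtain ⟨f0, hf0, -⟩ := hbelow e hidem he0
  have hval : ∀ (f : {f // Atom f}), f.1.1 ≠ 0 := fun f h => f.2.2.1 (Subtype.ext h)
  have hsplit : ∀ v, ∑ f : {f // Atom f}, f.1.1 v = v := fun v => by
    let φ : ringOf V B →+ V := AddMonoidHom.mk' (fun x => x.1 v) fun x y => rfl
    calc ∑ f : {f // Atom f}, f.1.1 v = φ (∑ f : {f // Atom f}, f.1) := (map_sum φ _ _).symm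
      _ = v := by rw [hsum]; rfl
  refine ⟨{f // Atom f}, inferInstance, act, fun f => f.1.1, ⟨f0, hf0⟩, fun f v => ?_, fun f d hne v => ?_,
    hsplit, fun g f v => conj_smul hBn g f.1 v, fun d => ?_, hval,
    fun b hb f => Subtype.ext (Subtype.ext ?_), ?_⟩
  · exact DFunLike.congr_fun (congrArg Subtype.val f.2.1) v
  · exact DFunLike.congr_fun (congrArg Subtype.val (horth _ _ f.2 d.2 fun h => hne (Subtype.ext h))) v
  · -- transitivity
    by_contra hno
    push_neg at hno
    let U : AddSubgroup V :=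
      { carrier := {v | ∀ c : {f // Atom f}, (∀ g : G, g • (⟨f0, hf0⟩ : {f // Atom f}) ≠ c) → c.1.1 v = 0}
        add_mem' := fun {x y} hx hy c hc => by rw [map_add, hx c hc, hy c hc, add_zero]
        zero_mem' := fun c _ => map_zero c.1.1
        neg_mem' := fun {x} hx c hc => by rw [map_neg, hx c hc, neg_zero] }
    have hU : ∀ g : G, ∀ u ∈ U, g • u ∈ U := fun g u hu c hc => by
      have h := conj_smul hBn g (g⁻¹ • c).1 u
      rw [hu (g⁻¹ • c) (fun k hk => hc (g * k) (by rw [mul_smul, hk, smul_inv_smul])), smul_zero] at h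
      exact (h.trans (congrArg (fun c : {f // Atom f} => c.1.1 (g • u)) (smul_inv_smul g c))).symm
    rcases hirr U hU with h | h
    · apply hval ⟨f0, hf0⟩
      refine DFunLike.ext _ _ fun v => (AddSubgroup.eq_bot_iff_forall U).1 h _ fun c hc => ?_
      exact DFunLike.congr_fun (congrArg Subtype.val (horth _ _ c.2 hf0 fun h => hc 1 (by rw [one_smul]; exact Subtype.ext h.symm))) v
    · exact hval d (DFunLike.ext _ _ fun v => (h ▸ AddSubgroup.mem_top v : v ∈ U) d hno)
  · show ρ V G b * f.1.1 * ρ V G b⁻¹ = f.1.1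
    rw [ringOf_comm hBc _ (Subring.subset_closure ⟨b, hb, rfl⟩) _ f.1.2, mul_assoc, ← map_mul, mul_inv_cancel,
      map_one, mul_one]
  · by_contra hno
    push_neg at hno
    apply he1
    have h1 : f0 = 1 := by
      rw [← hsum, Finset.sum_eq_single (⟨f0, hf0⟩ : {f // Atom f}) (fun d _ hd => absurd (hno d) hd)
        (fun h => absurd (Finset.mem_univ _) h)]
    rcases hf0.2.2 e hidem (by rw [h1, one_mul]) with h | h
    · exact absurd h he0
    · rw [h, h1]

end Cfsg.Agent.ClassBoundSq
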