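import Cfsg.Agent.BaseThree.Reduce

/-!
The order of a solvable primitive permutation group.
-/

set_option autoImplicit false
set_option maxHeartbeats 1000000

namespace Cfsg.Agent.ClassBoundSq

open MulAction BaseTwo

universe u

theorem pow_eight_le : ∀ r : ℕ, 10 ≤ r → r ^ 8 ≤ 6 * 10 ^ (r - 2) := by
  intro r hr
  induction r, hr using Nat.le_induction with
  | base => norm_num
  | succ r hr ih =>
    have h1 : (r + 1) ^ 8 * 10 ^ 8 ≤ r ^ 8 * 11 ^ 8 := by
      rw [← mul_pow, ← mul_pow]; exact Nat.pow_le_pow_left (by omega) 8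
    rw [show r + 1 - 2 = (r - 2) + 1 by omega, pow_succ 10]
    generalize (r + 1) ^ 8 = A, r ^ 8 = B, 10 ^ (r - 2) = C at *
    norm_num at h1
    omega

/-- The order bound. -/
theorem prim_bound {Ω : Type u} [Finite Ω] [Nontrivial Ω] {G : Type u} [Group G] [Finite G]
    [Group.IsSolvable G] [MulAction G Ω] [FaithfulSMul G Ω] (hprim : IsPreprimitive G Ω) :
    Nat.card G ^ 2 ≤ 6 * 10 ^ (Nat.card Ω - 2) ∧ Nat.card G ≤ (Nat.card Ω).factorial := by
  classical
  have hfact : Nat.card G ≤ (Nat.card Ω).factorial := by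
    rw [← Nat.card_perm]
    exact Nat.card_le_card_of_injective _ (MulAction.toPerm_injective (α := G) (β := Ω))
  refine ⟨?_, hfact⟩
  haveI := hprim
  haveI : Nontrivial G := by
    obtain ⟨a, b, hab⟩ := exists_pair_ne Ω
    obtain ⟨g, hg⟩ := exists_smul_eq G a b
    exact ⟨g, 1, fun e => hab (by rw [← hg, e, one_smul])⟩
  obtain ⟨N, hN⟩ := Core.exists_isMinNormal (G := G)
  haveI := hN.normal
  haveI : IsMulCommutative N := hN.isMulCommutative
  obtain ⟨q, hq, hqN⟩ := hN.exists_prime_pow_eq_one
  haveI := Fact.mk hq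
  letI : CommGroup N := { (inferInstance : Group N) with mul_comm := mul_comm' }
  obtain ⟨m, ⟨co⟩⟩ := exists_coord (r := q) (M := Additive N) fun x => by
    have := hqN x.toMul.1 x.toMul.2
    exact Additive.toMul.injective (Subtype.ext this)
  obtain ⟨a⟩ : Nonempty Ω := inferInstance
  have hst := PrimReduce.stabilizer_eq_bot_of_abelian hprim hN.ne_bot a
  haveI := PrimReduce.isPretransitive_of_normal hprim hN.ne_bot
  have hNΩ : Nat.card N = Nat.card Ω := by
    have h := MulAction.index_stabilizer_of_transitive N a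
    rwa [hst, Subgroup.index_bot] at h
  have hΩ : Nat.card Ω = q ^ m := by
    rw [← hNΩ, show Nat.card N = Nat.card (Additive N) from Nat.card_congr Additive.ofMul,
      ← Nat.card_congr co.toEquiv, Nat.card_fun, Nat.card_zmod, Nat.card_fin]
  have hG : Nat.card G = Nat.card Ω * Nat.card (stabilizer G a) := by
    rw [← MulAction.index_stabilizer_of_transitive G a, Subgroup.index_mul_card]
  -- conjugation on the normal subgroup
  let G0 := stabilizer G a
  letI : DistribMulAction G0 (Additive N) :=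
    { smul := fun g x => Additive.ofMul ⟨g.1 * x.toMul.1 * g.1⁻¹, hN.normal.conj_mem _ x.toMul.2 _⟩
      one_smul := fun x => Additive.toMul.injective (Subtype.ext (by
        show (1 : G) * x.toMul.1 * (1 : G)⁻¹ = x.toMul.1; group))
      mul_smul := fun g h x => Additive.toMul.injective (Subtype.ext (by
        show (g.1 * h.1) * x.toMul.1 * (g.1 * h.1)⁻¹ = g.1 * (h.1 * x.toMul.1 * h.1⁻¹) * g.1⁻¹; group))
      smul_zero := fun g => Additive.toMul.injective (Subtype.ext (by
        show g.1 * (1 : G) * g.1⁻¹ = 1; group))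
      smul_add := fun g x y => Additive.toMul.injective (Subtype.ext (by
        show g.1 * (x.toMul.1 * y.toMul.1) * g.1⁻¹ = g.1 * x.toMul.1 * g.1⁻¹ * (g.1 * y.toMul.1 * g.1⁻¹)
        group)) }
  have hsmul : ∀ (g : G0) (x : Additive N), ((g • x).toMul : G) = g.1 * x.toMul.1 * g.1⁻¹ := fun g x => rfl
  have hf : ∀ g : G0, (∀ x : Additive N, g • x = x) → g = 1 := fun g hg => Subtype.ext <|
    PrimReduce.eq_one_of_commute_transitive (fun b => PrimReduce.transitive_of_normal hprim hN.ne_bot a b)
      g.2 fun c hc => by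
        have h := hsmul g (Additive.ofMul ⟨c, hc⟩)
        rw [hg] at h
        exact mul_inv_eq_iff_eq_mul.1 h.symm |>.symm
  have hsep : ∀ g h : G0, (∀ x : Additive N, g • x = h • x) → g = h := fun g h e => by
    refine (inv_mul_eq_one.1 (hf (h⁻¹ * g) fun x => ?_)).symm
    rw [mul_smul, e, inv_smul_smul]
  by_cases hbig : 10 ≤ Nat.card Ω
  · have hirr : ∀ U : AddSubgroup (Additive N), (∀ g : G0, ∀ u ∈ U, g • u ∈ U) → U = ⊥ ∨ U = ⊤ := by
      intro U hU
      let M : Subgroup G :=
        { carrier := {x | ∃ h : x ∈ N, Additive.ofMul ⟨x, h⟩ ∈ U}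
          one_mem' := ⟨N.one_mem, U.zero_mem⟩
          mul_mem' := fun {x y} ⟨hx, hxU⟩ ⟨hy, hyU⟩ => ⟨N.mul_mem hx hy, U.add_mem hxU hyU⟩
          inv_mem' := fun {x} ⟨hx, hxU⟩ => ⟨N.inv_mem hx, U.neg_mem hxU⟩ }
      have hM : M.Normal := ⟨fun x hx g => by
        obtain ⟨n, hn, hna⟩ := PrimReduce.transitive_of_normal hprim hN.ne_bot a (g • a)
        have hg0 : n⁻¹ * g ∈ G0 := by rw [mem_stabilizer_iff, mul_smul, inv_smul_eq_iff, hna]
        obtain ⟨hx, hxU⟩ := hx
        have h1 : Additive.ofMul (⟨_, hN.normal.conj_mem x hx (n⁻¹ * g)⟩ : N) ∈ U :=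
          hU ⟨_, hg0⟩ _ hxU
        have e : g * x * g⁻¹ = n⁻¹ * g * x * (n⁻¹ * g)⁻¹ := by
          have hc : ∀ y ∈ N, n * y = y * n := fun y hy =>
            congrArg Subtype.val (mul_comm (⟨n, hn⟩ : N) ⟨y, hy⟩)
          have h2 := hc _ (hN.normal.conj_mem x hx (n⁻¹ * g))
          calc g * x * g⁻¹ = n * (n⁻¹ * g * x * (n⁻¹ * g)⁻¹) * n⁻¹ := by group
            _ = _ := by rw [h2, mul_inv_cancel_right]
        exact ⟨hN.normal.conj_mem x hx g, by convert h1 using 3⟩⟩
      rcases hN.eq_of_le M hM (fun x hx => hx.1) with h | h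
      · refine Or.inl ((AddSubgroup.eq_bot_iff_forall U).2 fun u hu => ?_)
        have : u.toMul.1 ∈ (⊥ : Subgroup G) := h ▸ (⟨u.toMul.2, hu⟩ : u.toMul.1 ∈ M)
        exact Additive.toMul.injective (Subtype.ext (Subgroup.mem_bot.1 this))
      · exact Or.inr ((AddSubgroup.eq_top_iff' U).2 fun u => (h.symm ▸ u.toMul.2 : u.toMul.1 ∈ M).2)
    obtain ⟨x, y, z, hxyz⟩ := BaseThree.exists_three (Additive N) G0 fun U hU => by
      rcases hirr U hU with rfl | rfl
      · exact ⟨⊤, fun _ _ _ => AddSubgroup.mem_top _, inf_top_eq _, sup_top_eq _⟩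
      · exact ⟨⊥, fun g u hu => by rw [AddSubgroup.mem_bot] at hu ⊢; rw [hu, smul_zero],
          inf_bot_eq _, sup_bot_eq _⟩
    have h0 : Nat.card G0 ≤ Nat.card Ω ^ 3 := by
      have := Nat.card_le_card_of_injective (fun g : G0 => (g • x, g • y, g • z)) fun g h e => by
        simp only [Prod.mk.injEq] at e
        refine hsep g h fun v => ?_
        have := hxyz (h⁻¹ * g) (by rw [mul_smul, e.1, inv_smul_smul]) (by rw [mul_smul, e.2.1, inv_smul_smul])
          (by rw [mul_smul, e.2.2, inv_smul_smul]) v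
        rwa [mul_smul, inv_smul_eq_iff] at this
      rw [Nat.card_prod, Nat.card_prod, show Nat.card (Additive N) = Nat.card Ω from
        (Nat.card_congr Additive.toMul).trans hNΩ] at this
      calc _ ≤ _ := this
        _ = _ := by ring
    calc Nat.card G ^ 2 ≤ (Nat.card Ω * Nat.card Ω ^ 3) ^ 2 :=
          Nat.pow_le_pow_left (hG ▸ Nat.mul_le_mul_left _ h0) 2
      _ = Nat.card Ω ^ 8 := by ring
      _ ≤ _ := pow_eight_le _ hbig
  -- few points
  by_cases h4 : Nat.card Ω ≤ 4
  · have h2 : 1 < Nat.card Ω := Finite.one_lt_card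
    refine (Nat.pow_le_pow_left hfact 2).trans ?_
    interval_cases Nat.card Ω <;> norm_num [Nat.factorial]
  let e : Fin m → Additive N := fun i => co (Pi.single i 1)
  have he0 : ∀ (g : G0) i, g • e i ≠ 0 := fun g i h => by
    rw [smul_eq_zero_iff_eq, EmbeddingLike.map_eq_zero_iff, Pi.single_eq_zero_iff] at h
    exact one_ne_zero h
  have hinj : ∀ g : G0, Function.Injective fun i => (⟨g • e i, he0 g i⟩ : {x : Additive N // x ≠ 0}) := by
    intro g i j h
    have h1 := congrFun (co.injective (MulAction.injective g (congrArg Subtype.val h))) i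
    rw [Pi.single_eq_same] at h1
    by_contra hne
    rw [Pi.single_eq_of_ne hne] at h1
    exact one_ne_zero h1
  have h0 : Nat.card G0 ≤ (Nat.card Ω - 1).descFactorial m := by
    haveI := Fintype.ofFinite (Additive N)
    have := Nat.card_le_card_of_injective
      (fun g : G0 => (⟨_, hinj g⟩ : Fin m ↪ {x : Additive N // x ≠ 0})) fun g h eq => by
        refine hsep g h fun x => ?_
        obtain ⟨v, rfl⟩ := co.surjective x
        rw [← Finset.univ_sum_single v, map_sum, Finset.smul_sum, Finset.smul_sum]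
        refine Finset.sum_congr rfl fun i _ => ?_
        have hv : co (Pi.single i (v i)) = (v i).val • e i := by
          rw [← map_nsmul]
          congr 1
          ext k
          simp [Pi.single_apply]
        rw [hv, BaseTwo.Reduce.smul_nat, BaseTwo.Reduce.smul_nat,
          show g • e i = h • e i from congrArg (fun f : Fin m ↪ _ => (f i).1) eq]
    rw [Nat.card_eq_fintype_card (α := Fin m ↪ _), Fintype.card_embedding_eq, Fintype.card_fin] at this
    convert this using 2
    rw [Fintype.card_subtype_compl, Fintype.card_subtype_eq, ← Nat.card_eq_fintype_card,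
      ← Nat.card_congr (Additive.ofMul (α := N)), hNΩ]
  have hm4 : m < 4 := by
    by_contra hm
    have := Nat.pow_le_pow_left hq.two_le m
    have := Nat.pow_le_pow_right two_pos (show 4 ≤ m by omega)
    omega
  have hq10 : q < 10 := by
    by_contra hq'
    rcases Nat.eq_zero_or_pos m with rfl | hm
    · rw [pow_zero] at hΩ; omega
    · have := Nat.le_self_pow hm.ne' q; omega
  refine (Nat.pow_le_pow_left (hG ▸ Nat.mul_le_mul_left _ h0) 2).trans ?_
  rw [hΩ] at hbig h4 ⊢
  interval_cases q <;> interval_cases m <;>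
    first
    | (norm_num at hq; done)
    | (norm_num at h4; done)
    | (norm_num at hbig; done)
    | (norm_num [Nat.descFactorial_succ]; done)

end Cfsg.Agent.ClassBoundSq
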