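import Cfsg.Agent.ClassBoundSq.Induct
import Cfsg.Agent.ClassBoundSq.Idem

/-!
The induction for groups with a central element fixing only zero.
-/

set_option autoImplicit false
set_option maxHeartbeats 1000000

namespace Cfsg.Agent.ClassBoundSq

open BaseTwo BaseTwo.Reduce MulAction

universe u

/-- A central element of exponent `q` fixing only zero. -/
def Fpf (q : ℕ) (H : Type u) (V : Type u) [Group H] [AddCommGroup V] [DistribMulAction H V] : Prop :=
  ∃ z : H, (∀ h : H, z * h = h * z) ∧ z ^ q = 1 ∧ ∀ v : V, z • v = v → v = 0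

/-- The induction. -/
theorem cr_induction_fpf (p q₀ : ℕ) [Fact p.Prime] (P : ℕ → ℕ → ℕ → Prop) (hone : P 0 1 1)
    (hprod : ∀ a b n₁ k₁ n₂ k₂ n k : ℕ, 0 < a → 0 < b → P a n₁ k₁ → P b n₂ k₂ → 0 < k₁ → 0 < k₂ →
      n ≤ n₁ * n₂ → n * (k₁ * k₂) ≤ n₁ * n₂ * k → P (a + b) n k)
    (hblock : ∀ (a r : ℕ) (m c : Fin r → ℕ) (s n k : ℕ), 0 < a → 2 ≤ r → (∀ q, P a (m q) (c q)) →
      (∀ q, 0 < c q) → s ^ 2 ≤ 6 * 10 ^ (r - 2) → s ≤ r.factorial → n ≤ s * ∏ q, m q →
      n * ∏ q, c q ≤ s ^ 2 * (∏ q, m q) * k → P (r * a) n k)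
    (hfield : ∀ (V H : Type u) [AddCommGroup V] [Finite V] [Group H] [Finite H] [Group.IsSolvable H]
      [DistribMulAction H V] [Nontrivial V] (K : Type u) [Field K] [Finite K] [Module K V],
      ∀ T : Setting K V H, (∃ z ∈ T.B, (∀ h : H, z * h = h * z) ∧ z ^ q₀ = 1 ∧ ∀ v : V, z • v = v → v = 0) →
      ∀ a : ℕ, Nat.card V = p ^ a → P a (Nat.card H) (cls H)) :
    ∀ (a : ℕ) (V : Type u) [AddCommGroup V] [Finite V] (H : Type u) [Group H] [Finite H]
      [Group.IsSolvable H] [DistribMulAction H V], (∀ h : H, (∀ v : V, h • v = v) → h = 1) → CR H V →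
      Fpf q₀ H V → Nat.card V = p ^ a → P a (Nat.card H) (cls H) := by
  intro a
  induction a using Nat.strong_induction_on with
  | _ a ih =>
  intro V _ _ H _ _ _ _ hf hcr hfpf hV
  classical
  have hp : p.Prime := Fact.out
  rcases Nat.eq_zero_or_pos a with rfl | ha
  · haveI : Subsingleton V := (Nat.card_eq_one_iff_unique.1 (hV.trans (pow_zero p))).1
    haveI : Subsingleton H := ⟨fun g h => (hf g fun v => Subsingleton.elim _ _).trans
      (hf h fun v => Subsingleton.elim _ _).symm⟩
    rw [cls_of_comm fun g h => Subsingleton.elim _ _, Nat.card_unique]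
    exact hone
  haveI : Nontrivial V := Finite.one_lt_card_iff_nontrivial.1 (hV ▸ Nat.one_lt_pow ha.ne' hp.one_lt)
  have key : ∀ (G' : Type u) [Group G'] [Finite G'] [Group.IsSolvable G'] (S : Type u) [AddCommGroup S]
      [Finite S] [DistribMulAction G' S], CR G' S → Fpf q₀ G' S → ∀ b, b < a → Nat.card S = p ^ b →
      P b (Nat.card (toPermHom G' S).range) (cls (toPermHom G' S).range) := by
    intro G' _ _ _ S _ _ _ hS hz b hb hcard
    letI : DistribMulAction (toPermHom G' S).range S := imgAction (A := G') (Ω := S)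
    haveI : Group.IsSolvable (toPermHom G' S).range := img_solvable (A := G') (Ω := S)
    obtain ⟨z, hzc, hzq, hzf⟩ := hz
    have hz' : Fpf q₀ (toPermHom G' S).range S := ⟨⟨_, z, rfl⟩, by
      rintro ⟨_, g, rfl⟩
      exact Subtype.ext (by
        show toPermHom G' S z * toPermHom G' S g = toPermHom G' S g * toPermHom G' S z
        rw [← map_mul, ← map_mul, hzc g]),
      Subtype.ext (by rw [SubmonoidClass.coe_pow, OneMemClass.coe_one]; exact (map_pow _ z q₀).symm.trans (by rw [hzq, map_one])),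
      fun v hv => hzf v hv⟩
    refine ih b hb S _ (fun h hh => Subtype.ext (Equiv.ext hh)) (fun U hU => ?_) hz' hcard
    obtain ⟨W, hW, h⟩ := hS U fun g u hu => hU ⟨_, g, rfl⟩ u hu
    exact ⟨W, by rintro ⟨_, g, rfl⟩ u hu; exact hW g u hu, h⟩
  obtain ⟨z0, hz0c, hz0q, hz0f⟩ := hfpf
  by_cases hirr : ∀ U : AddSubgroup V, (∀ g : H, ∀ u ∈ U, g • u ∈ U) → U = ⊥ ∨ U = ⊤
  swap
  · push Not at hirr
    obtain ⟨U, hU, hU0, hU1⟩ := hirr
    obtain ⟨W, hW, hinf, hsup⟩ := hcr U hU
    have hW0 : W ≠ ⊥ := fun h => hU1 (by rwa [h, sup_bot_eq] at hsup)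
    have hd : ∀ S : AddSubgroup V, S ≠ ⊥ → ∃ b, 0 < b ∧ Nat.card S = p ^ b := fun S hS => by
      obtain ⟨b, -, hb⟩ := (Nat.dvd_prime_pow hp).1 (hV ▸ S.card_addSubgroup_dvd_card)
      refine ⟨b, Nat.pos_of_ne_zero fun e => hS (AddSubgroup.eq_bot_of_card_eq S ?_), hb⟩
      rw [hb, e, pow_zero]
    obtain ⟨a₁, ha₁, hcU⟩ := hd U hU0
    obtain ⟨a₂, ha₂, hcW⟩ := hd W hW0
    have hab : a = a₁ + a₂ := by
      have h : Nat.card (U × W) = Nat.card V := Nat.card_eq_of_bijective (fun x => x.1.1 + x.2.1) ⟨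
        fun x y e => by
          simp only at e
          have h1 : (x.1 : V) - y.1 = y.2 - x.2 := by linear_combination (norm := abel) e
          have h2 : (x.1 : V) - y.1 = 0 := (AddSubgroup.eq_bot_iff_forall _).1 hinf _
            ⟨U.sub_mem x.1.2 y.1.2, h1 ▸ W.sub_mem y.2.2 x.2.2⟩
          exact Prod.ext (Subtype.ext (sub_eq_zero.1 h2))
            (Subtype.ext (sub_eq_zero.1 (h1.symm.trans h2)).symm),
        fun v => by
          obtain ⟨x, hx, y, hy, e⟩ := AddSubgroup.mem_sup.1 (show v ∈ U ⊔ W by rw [hsup]; exact AddSubgroup.mem_top v)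
          exact ⟨(⟨x, hx⟩, ⟨y, hy⟩), e⟩⟩
      rw [Nat.card_prod, hcU, hcW, hV, ← pow_add] at h
      exact (Nat.pow_right_injective hp.two_le h).symm
    letI := subAction U hU
    letI := subAction W hW
    let f : H →* (toPermHom H U).range × (toPermHom H W).range :=
      (toPermHom H U).rangeRestrict.prod (toPermHom H W).rangeRestrict
    have hfi : Function.Injective f := (injective_iff_map_eq_one f).2 fun h e => hf h fun v => by
      obtain ⟨x, hx, y, hy, rfl⟩ := AddSubgroup.mem_sup.1 (show v ∈ U ⊔ W by rw [hsup]; exact AddSubgroup.mem_top v)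
      have h1 := congrArg (fun z => ((z.1.1 : Equiv.Perm U) ⟨x, hx⟩).1) e
      have h2 := congrArg (fun z => ((z.2.1 : Equiv.Perm W) ⟨y, hy⟩).1) e
      rw [smul_add, show h • x = x from h1, show h • y = y from h2]
    rw [hab]
    refine hprod a₁ a₂ _ _ _ _ _ _ ha₁ ha₂ (key H U (cr_sub hcr U hU) ⟨z0, hz0c, hz0q, fun v hv => Subtype.ext (hz0f v.1 (congrArg Subtype.val hv))⟩ a₁ (by omega) hcU)
      (key H W (cr_sub hcr W hW) ⟨z0, hz0c, hz0q, fun v hv => Subtype.ext (hz0f v.1 (congrArg Subtype.val hv))⟩ a₂ (by omega) hcW) (cls_pos _) (cls_pos _) ?_ ?_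
    · rw [← Nat.card_prod]; exact Nat.card_le_card_of_injective f hfi
    · have h := cls_mul_le_of_injective f hfi
      rwa [cls_prod, Nat.card_prod] at h
  by_cases hfd : ∀ B : Subgroup H, B.Normal → (∀ x ∈ B, ∀ y ∈ B, x * y = y * x) → z0 ∈ B → IsField (ringOf V B)
  · obtain ⟨B, ⟨hBn, hBc, hzB⟩, hmax⟩ := Set.Finite.exists_maximal
      (Set.toFinite {B : Subgroup H | B.Normal ∧ (∀ x ∈ B, ∀ y ∈ B, x * y = y * x) ∧ z0 ∈ B})
      ⟨Subgroup.center H, inferInstance, fun x hx y _ => (Subgroup.mem_center_iff.1 hx y).symm,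
        Subgroup.mem_center_iff.2 fun g => (hz0c g).symm⟩
    letI : Field (ringOf V B) := (hfd B hBn hBc hzB).toField
    haveI : Finite (AddMonoid.End V) := Finite.of_injective _ DFunLike.coe_injective
    exact hfield V H (ringOf V B)
      { σ := conj hBn
        semi := fun g c z => conj_smul hBn g c z
        B := B
        normal := hBn
        comm := hBc
        maxi := fun N hN hc hle => le_antisymm (hmax ⟨hN, hc, hle hzB⟩ hle) hle
        scalar := fun b hb => ⟨⟨_, Subring.subset_closure ⟨b, hb, rfl⟩⟩, fun v => rfl⟩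
        refl_of_cent := fun g hg => RingEquiv.ext fun x => Subtype.ext (by
          show ρ V H g * x.1 * ρ V H g⁻¹ = x.1
          have h : ρ V H g * x.1 = x.1 * ρ V H g := by
            obtain ⟨x, hx⟩ := x
            induction hx using Subring.closure_induction with
            | mem z hz => obtain ⟨c, hc, rfl⟩ := hz; show ρ V H g * ρ V H c = ρ V H c * ρ V H g; rw [← map_mul, ← map_mul, hg c hc]
            | zero => rw [mul_zero, zero_mul]
            | one => rw [mul_one, one_mul]
            | add s t _ _ hs ht => simp only at hs ht ⊢; rw [mul_add, add_mul, hs, ht]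
            | neg s _ hs => simp only at hs ⊢; rw [mul_neg, neg_mul, hs]
            | mul s t _ _ hs ht => simp only at hs ht ⊢; rw [← mul_assoc, hs, mul_assoc, ht, mul_assoc]
          rw [h, mul_assoc, ← map_mul, mul_inv_cancel, map_one, mul_one])
        faithful := hf } ⟨z0, hzB, hz0c, hz0q, hz0f⟩ a hV
  push Not at hfd
  obtain ⟨B, hB, hBc, hzB, hnf⟩ := hfd
  obtain ⟨ι, hι, act, E, i0, hidem, horth, hsum, heq, htr, hne, hfixι, j, hj⟩ :=
    exists_idempotents_fix hirr B hB hBc hnf
  have hzι : ∀ i : ι, z0 • i = i := fun i => hfixι z0 hzB i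
  -- coarsen to a primitive permutation action
  have hst : stabilizer H i0 ≠ ⊤ := fun h => by
    obtain ⟨g, hg⟩ := htr j
    have : g ∈ stabilizer H i0 := h ▸ Subgroup.mem_top g
    exact hj (hg.symm.trans this)
  obtain ⟨M, hM, hle⟩ := (eq_top_or_exists_le_coatom (stabilizer H i0)).resolve_left hst
  choose sec hsec using htr
  let π : ι → H ⧸ M := fun i => (sec i : H ⧸ M)
  have hπ : ∀ (g : H) i, π (g • i) = g • π i := fun g i => by
    show ((sec (g • i) : H) : H ⧸ M) = ((g * sec i : H) : H ⧸ M)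
    refine QuotientGroup.eq.2 (hle ?_)
    rw [mem_stabilizer_iff, mul_smul, inv_smul_eq_iff, hsec, mul_smul, hsec]
  haveI := Fintype.ofFinite (H ⧸ M)
  let E' : H ⧸ M → AddMonoid.End V := fun q => ∑ i ∈ Finset.univ.filter (fun i => π i = q), E i
  have hE' : ∀ q v, E' q v = ∑ i ∈ Finset.univ.filter (fun i => π i = q), E i v := fun q v =>
    map_sum (AddMonoidHom.mk' (fun f : AddMonoid.End V => f v) fun _ _ => rfl) _ _
  have hEE : ∀ q i v, E' q (E i v) = if π i = q then E i v else 0 := fun q i v => by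
    rw [hE']
    split_ifs with h
    · rw [Finset.sum_eq_single i (fun k _ hk => horth k i hk v) (fun hh => absurd (by simp [h]) hh), hidem]
    · exact Finset.sum_eq_zero fun k hk => horth k i (fun e => h (by rw [← e]; exact (Finset.mem_filter.1 hk).2)) v
  have hidem' : ∀ q v, E' q (E' q v) = E' q v := fun q v => by
    conv_lhs => rw [hE' q v, map_sum]
    rw [hE' q v]
    exact Finset.sum_congr rfl fun i hi => by rw [hEE, if_pos (Finset.mem_filter.1 hi).2]
  have horth' : ∀ q r, q ≠ r → ∀ v, E' q (E' r v) = 0 := fun q r hqr v => by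
    rw [hE' r v, map_sum]
    exact Finset.sum_eq_zero fun i hi => by
      rw [hEE, if_neg (fun h => hqr (h.symm.trans (Finset.mem_filter.1 hi).2))]
  have hsum' : ∀ v, ∑ q, E' q v = v := fun v => by
    simp only [hE']
    rw [Finset.sum_fiberwise]
    exact hsum v
  have heq' : ∀ (g : H) q v, g • E' q v = E' (g • q) (g • v) := fun g q v => by
    rw [hE', hE', Finset.smul_sum]
    refine Finset.sum_equiv (MulAction.toPerm g) (fun i => ?_) fun i _ => heq g i v
    simp [hπ]
  have hzq0 : ∀ q : H ⧸ M, z0 • q = q := fun q => by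
    induction q using QuotientGroup.induction_on with | _ g =>
    show ((z0 * g : H) : H ⧸ M) = (g : H ⧸ M)
    refine QuotientGroup.eq.2 (hle ?_)
    rw [mem_stabilizer_iff, hz0c g, mul_inv_rev, mul_assoc, inv_mul_cancel, mul_one, inv_smul_eq_iff]
    exact (hzι i0).symm
  let Vq : H ⧸ M → AddSubgroup V := fun q => (E' q).range
  have hfix : ∀ q, ∀ z ∈ Vq q, E' q z = z := by rintro q _ ⟨w, rfl⟩; exact hidem' q w
  have hstab : ∀ q, ∀ g : stabilizer H q, ∀ z ∈ Vq q, g.1 • z ∈ Vq q := fun q g z hz => ⟨g.1 • z, by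
    have := heq' g.1 q z
    rw [show g.1 • q = q from g.2, hfix q z hz] at this
    exact this.symm⟩
  have htrans : ∀ q q' : H ⧸ M, ∃ g : H, g • q = q' := fun q q' => exists_smul_eq H q q'
  have hcardeq : ∀ q q', Nat.card (Vq q) = Nat.card (Vq q') := fun q q' => by
    obtain ⟨g, rfl⟩ := htrans q q'
    exact Nat.card_congr
      { toFun := fun z => ⟨g • z.1, g • z.1, (heq' g q z.1).symm.trans (congrArg (g • ·) (hfix q z.1 z.2))⟩
        invFun := fun z => ⟨g⁻¹ • z.1, g⁻¹ • z.1, by
          have := heq' g⁻¹ (g • q) z.1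
          rw [inv_smul_smul, hfix _ z.1 z.2] at this
          exact this.symm⟩
        left_inv := fun z => Subtype.ext (inv_smul_smul g z.1)
        right_inv := fun z => Subtype.ext (smul_inv_smul g z.1) }
  let q0 : H ⧸ M := ((1 : H) : H ⧸ M)
  have hcardV : Nat.card V = ∏ q, Nat.card (Vq q) := by
    rw [← Nat.card_pi]
    refine Nat.card_congr
      { toFun := fun v q => ⟨E' q v, v, rfl⟩
        invFun := fun f => ∑ q, (f q).1
        left_inv := fun v => hsum' v
        right_inv := fun f => funext fun q => Subtype.ext ?_ }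
    show E' q (∑ r, (f r).1) = (f q).1
    rw [map_sum, Finset.sum_eq_single q (fun r _ hr => by rw [← hfix r _ (f r).2, horth' q r (Ne.symm hr)])
      (fun h => absurd (Finset.mem_univ q) h), hfix q _ (f q).2]
  obtain ⟨b, -, hb⟩ := (Nat.dvd_prime_pow hp).1 (hV ▸ (Vq q0).card_addSubgroup_dvd_card)
  set r := Fintype.card (H ⧸ M) with hr
  have hab : a = r * b := by
    rw [hV, Finset.prod_congr rfl fun q _ => (hcardeq q q0).trans hb, Finset.prod_const, Finset.card_univ,
      ← pow_mul, mul_comm] at hcardV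
    exact Nat.pow_right_injective hp.two_le hcardV
  have hb0 : 0 < b := Nat.pos_of_ne_zero fun e => by rw [e, mul_zero] at hab; omega
  have hr2 : 2 ≤ r := by
    rw [hr, ← Nat.card_eq_fintype_card]
    exact Subgroup.one_lt_index_of_ne_top hM.1
  have hblt : b < a := hab ▸ lt_mul_left hb0 hr2
  -- irreducibility of the blocks
  have hirrq : ∀ q, ∀ X : AddSubgroup (Vq q),
      letI := subAction (G := stabilizer H q) (Vq q) (hstab q)
      (∀ g : stabilizer H q, ∀ u ∈ X, g • u ∈ X) → X = ⊥ ∨ X = ⊤ := by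
    intro q X
    letI := subAction (G := stabilizer H q) (Vq q) (hstab q)
    intro hX
    let U : AddSubgroup V :=
      { carrier := {v | ∀ g : H, (⟨E' q (g • v), g • v, rfl⟩ : Vq q) ∈ X}
        add_mem' := fun {x y} hx hy g => by
          have : (⟨E' q (g • (x + y)), g • (x + y), rfl⟩ : Vq q) =
              ⟨E' q (g • x), g • x, rfl⟩ + ⟨E' q (g • y), g • y, rfl⟩ :=
            Subtype.ext (by show E' q (g • (x + y)) = _ + _; rw [smul_add, map_add])
          rw [this]; exact X.add_mem (hx g) (hy g)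
        zero_mem' := fun g => by
          have : (⟨E' q (g • (0 : V)), g • (0 : V), rfl⟩ : Vq q) = 0 :=
            Subtype.ext (by show E' q (g • (0 : V)) = 0; rw [smul_zero, map_zero])
          rw [this]; exact X.zero_mem
        neg_mem' := fun {x} hx g => by
          have : (⟨E' q (g • -x), g • -x, rfl⟩ : Vq q) = -⟨E' q (g • x), g • x, rfl⟩ :=
            Subtype.ext (by show E' q (g • -x) = -_; rw [smul_neg, map_neg])
          rw [this]; exact X.neg_mem (hx g) }
    have hUinv : ∀ g : H, ∀ u ∈ U, g • u ∈ U := fun g u hu k => by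
      have := hu (k * g)
      simp only [mul_smul] at this
      exact this
    rcases hirr U hUinv with h | h
    · refine Or.inl ((AddSubgroup.eq_bot_iff_forall X).2 fun u hu => Subtype.ext ?_)
      refine (AddSubgroup.eq_bot_iff_forall U).1 h u.1 fun g => ?_
      by_cases hg : g • q = q
      · have := hX ⟨g, hg⟩ u hu
        convert this using 1
        exact Subtype.ext (hfix q _ (hstab q ⟨g, hg⟩ u.1 u.2))
      · convert X.zero_mem using 1
        refine Subtype.ext ?_
        show E' q (g • u.1) = 0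
        have := heq' g q u.1
        rw [hfix q u.1 u.2] at this
        rw [this]
        exact horth' q (g • q) (Ne.symm hg) _
    · refine Or.inr ((AddSubgroup.eq_top_iff' X).2 fun u => ?_)
      have := (h ▸ AddSubgroup.mem_top u.1 : u.1 ∈ U) 1
      convert this using 1
      exact Subtype.ext (by show u.1 = E' q ((1 : H) • u.1); rw [one_smul, hfix q u.1 u.2])
  -- the permutation group and its kernel
  letI actq : ∀ q, DistribMulAction (stabilizer H q) (Vq q) := fun q => subAction (Vq q) (hstab q)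
  let B0 := (toPermHom H (H ⧸ M)).ker
  let f : B0 →* ∀ q, (toPermHom (stabilizer H q) (Vq q)).range :=
    { toFun := fun x q => (toPermHom (stabilizer H q) (Vq q)).rangeRestrict ⟨x.1, Equiv.Perm.congr_fun x.2 q⟩
      map_one' := funext fun q => map_one (toPermHom (stabilizer H q) (Vq q)).rangeRestrict
      map_mul' := fun x y => funext fun q => map_mul (toPermHom (stabilizer H q) (Vq q)).rangeRestrict
        ⟨x.1, Equiv.Perm.congr_fun x.2 q⟩ ⟨y.1, Equiv.Perm.congr_fun y.2 q⟩ }
  have hfi : Function.Injective f := (injective_iff_map_eq_one f).2 fun x e => Subtype.ext <| hf x.1 fun v => by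
    rw [← hsum' v, Finset.smul_sum]
    refine Finset.sum_congr rfl fun q _ => ?_
    exact congrArg (fun z => ((z q).1 ⟨E' q v, v, rfl⟩).1) e
  haveI : Nontrivial (H ⧸ M) := Fintype.one_lt_card_iff_nontrivial.1 hr2
  haveI : IsPreprimitive H (H ⧸ M) :=
    (isCoatom_stabilizer_iff_preprimitive H q0).1 (by rw [stabilizer_quotient]; exact hM)
  let R := (toPermHom H (H ⧸ M)).range
  haveI : Group.IsSolvable R :=
    Group.isSolvable_of_surjective (toPermHom H (H ⧸ M)).rangeRestrict_surjective
  have hR : IsPreprimitive R (H ⧸ M) :=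
    IsPreprimitive.of_surjective (φ := (toPermHom H (H ⧸ M)).rangeRestrict)
      (f := { toFun := id, map_smul' := fun g x => rfl }) Function.surjective_id
  obtain ⟨hs1, hs2⟩ := prim_bound (G := R) hR
  rw [Nat.card_eq_fintype_card (α := H ⧸ M)] at hs1 hs2
  have hidx : B0.index = Nat.card R := by
    rw [Subgroup.index_ker]
  let e := Fintype.equivFin (H ⧸ M)
  rw [hab]
  refine hblock b r (fun i => Nat.card (toPermHom (stabilizer H (e.symm i)) (Vq (e.symm i))).range)
    (fun i => cls (toPermHom (stabilizer H (e.symm i)) (Vq (e.symm i))).range) (Nat.card R) _ _ hb0 hr2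
    (fun i => key _ _ (cr_of_irr (hirrq _)) ⟨⟨z0, hzq0 _⟩, fun g => Subtype.ext (hz0c g.1), Subtype.ext hz0q,
      fun v hv => Subtype.ext (hz0f v.1 (congrArg Subtype.val hv))⟩ b hblt ((hcardeq _ q0).trans hb)) (fun i => cls_pos _) hs1 hs2 ?_ ?_
  · rw [Equiv.prod_comp e.symm fun q => Nat.card (toPermHom (stabilizer H q) (Vq q)).range, ← Nat.card_pi,
      ← B0.index_mul_card, hidx]
    exact Nat.mul_le_mul_left _ (Nat.card_le_card_of_injective f hfi)
  · rw [Equiv.prod_comp e.symm fun q => Nat.card (toPermHom (stabilizer H q) (Vq q)).range,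
      Equiv.prod_comp e.symm fun q => cls (toPermHom (stabilizer H q) (Vq q)).range,
      ← B0.index_mul_card, hidx]
    have h1 := cls_mul_le_of_injective f hfi
    rw [cls_pi, Nat.card_pi] at h1
    have h2 : cls B0 ≤ Nat.card R * cls H := hidx ▸ (S4200.result B0).1
    calc _ ≤ Nat.card R * ((∏ q, Nat.card (toPermHom (stabilizer H q) (Vq q)).range) * cls B0) := by
            rw [mul_assoc]; exact Nat.mul_le_mul_left _ h1
      _ ≤ Nat.card R * ((∏ q, Nat.card (toPermHom (stabilizer H q) (Vq q)).range) * (Nat.card R * cls H)) :=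
            Nat.mul_le_mul_left _ (Nat.mul_le_mul_left _ h2)
      _ = _ := by ring

end Cfsg.Agent.ClassBoundSq
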