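import Cfsg.Agent.ClassBoundSq.Field

/-!
The class number of a solvable completely reducible linear group against its order.
-/

set_option autoImplicit false
set_option maxHeartbeats 1000000

namespace Cfsg.Agent.ClassBoundSq

open BaseTwo BaseTwo.Setting MulAction

universe u

/-- Orders in characteristic two in dimension at most four. -/
def smallOrder : ℕ → ℕ
  | 0 => 1
  | 1 => 1
  | 2 => 6
  | 3 => 21
  | _ => 72

/-- The order bound over the prime field with two elements. -/
theorem order_two (a : ℕ) (V : Type u) [AddCommGroup V] [Finite V] (H : Type u) [Group H] [Finite H]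
    [Group.IsSolvable H] [DistribMulAction H V] (hf : ∀ h : H, (∀ v : V, h • v = v) → h = 1) (hcr : CR H V)
    (hV : Nat.card V = 2 ^ a) (ha : a ≤ 4) : Nat.card H ≤ smallOrder a := by
  refine cr_induction 2 (fun a n _ => a ≤ 4 → n ≤ smallOrder a) (fun _ => le_rfl) ?_ ?_ ?_ a V H hf hcr hV ha
  · intro a b n₁ k₁ n₂ k₂ n k ha hb h1 h2 _ _ hn _ hab
    refine (hn.trans (Nat.mul_le_mul (h1 (by omega)) (h2 (by omega)))).trans ?_
    have : a ≤ 3 := by omega
    have : b ≤ 3 := by omega
    interval_cases a <;> interval_cases b <;> first | omega | norm_num [smallOrder]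
  · intro a r m c s n k ha hr hm _ _ hs hn _ hra
    have h4 : r * 1 ≤ r * a := Nat.mul_le_mul_left r ha
    have h5 : 2 * a ≤ r * a := Nat.mul_le_mul_right a hr
    refine (hn.trans (Nat.mul_le_mul hs (Finset.prod_le_pow_card _ _ _ fun q _ => hm q (by omega)))).trans ?_
    rw [Finset.card_univ, Fintype.card_fin]
    have : a ≤ 2 := by omega
    have : r ≤ 4 := by omega
    interval_cases a <;> interval_cases r <;> first | omega | norm_num [smallOrder, Nat.factorial]
  · intro V H _ _ _ _ _ _ _ K _ _ _ T a hV ha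
    haveI : FiniteDimensional K V := Module.Finite.of_finite
    have hV' := Module.natCard_eq_pow_finrank (K := K) (V := V)
    have hd : 0 < Module.finrank K V := Module.finrank_pos
    obtain ⟨b, -, hb⟩ := (Nat.dvd_prime_pow Nat.prime_two).1
      (hV ▸ hV' ▸ dvd_pow_self (Nat.card K) hd.ne')
    rw [hV, hb, ← pow_mul] at hV'
    have hab : a = b * Module.finrank K V := Nat.pow_right_injective le_rfl hV'
    have hb0 : 0 < b := Nat.pos_of_ne_zero fun e => by
      have := Finite.one_lt_card (α := K)
      rw [hb, e, pow_zero] at this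
      omega
    have hbd : b * 1 ≤ a := hab ▸ Nat.mul_le_mul_left b hd
    obtain ⟨e, he0, hw⟩ := (heis T).exists_sq
    have hed : e ≤ Module.finrank K V := (Nat.pow_le_pow_iff_left two_ne_zero).1 (hw ▸ card_W_le T)
    have hw1 : Nat.card (heis T).W = 1 := by
      refine w_one_of_coprime T ?_
      rw [hw, hb]
      have hle : b * e ≤ 4 := le_trans (hab ▸ Nat.mul_le_mul_left b hed) ha
      rcases (show e = 1 ∨ 2 ≤ e by omega) with rfl | he2
      · simp
      have : b * 2 ≤ b * e := Nat.mul_le_mul_left b he2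
      have : b ≤ 2 := by omega
      have h1e : 1 * e ≤ b * e := Nat.mul_le_mul_right e hb0
      have : e ≤ 4 := by omega
      interval_cases b <;> interval_cases e <;> first | omega | norm_num
    have hc1 := (heis T).bound_one hw1
    have hCB : Nat.card T.C ≤ 2 ^ b - 1 := by
      have hidx := (heis T).index_eq
      have hNB : (heis T).N ≤ (heis T).B := by
        rw [← Subgroup.relIndex_eq_one]
        exact (Subgroup.index_eq_card _).trans hw1
      have hall : ∀ c : T.C, c ∈ (heis T).B := fun c => (heis T).cent c fun x hx =>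
        ((heis T).central x (hNB hx) c).symm
      have h := Nat.le_of_dvd (by
        have : 2 ≤ 2 ^ b := Nat.le_self_pow hb0.ne' 2
        omega) (hb ▸ card_B_dvd T)
      rwa [show (heis T).B = ⊤ from (Subgroup.eq_top_iff' _).2 hall, Subgroup.card_top] at h
    haveI : Fact (Nat.Prime 2) := ⟨Nat.prime_two⟩
    rw [← T.C.index_mul_card]
    refine (Nat.mul_le_mul (index_le T hb) hCB).trans ?_
    have : b ≤ 4 := by omega
    interval_cases b <;> interval_cases a <;> first | omega | norm_num [smallOrder]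

theorem field_hbase {K V H : Type u} [Field K] [Finite K] [AddCommGroup V] [Module K V] [Nontrivial V]
    [Group H] [DistribMulAction H V] [Finite H] [Group.IsSolvable H] (T : Setting K V H) :
    ∃ x y z : (heis T).W, ∀ φ ∈ (heis T).conj.range, φ x = x → φ y = y → φ z = z → φ = 1 := by
  letI := wAction T
  obtain ⟨x, y, z, hxyz⟩ := BaseThree.exists_three (Additive (heis T).W) H (w_cr T)
  have hact : ∀ (g : T.C) (u : (heis T).W), Additive.ofMul ((heis T).conj g u) = g.1 • Additive.ofMul u := by
    intro g u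
    obtain ⟨a, rfl⟩ := QuotientGroup.mk_surjective u
    rw [(heis T).conj_mk]
    rfl
  refine ⟨x.toMul, y.toMul, z.toMul, ?_⟩
  rintro _ ⟨g, rfl⟩ h1 h2 h3
  refine MulEquiv.ext fun u => Additive.ofMul.injective ?_
  rw [hact]
  exact hxyz g.1 ((hact g x.toMul).symm.trans (congrArg Additive.ofMul h1))
    ((hact g y.toMul).symm.trans (congrArg Additive.ofMul h2))
    ((hact g z.toMul).symm.trans (congrArg Additive.ofMul h3)) _

theorem field_h72 {K V H : Type u} [Field K] [Finite K] [AddCommGroup V] [Module K V] [Nontrivial V]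
    [Group H] [DistribMulAction H V] [Finite H] [Group.IsSolvable H] (T : Setting K V H) :
    Nat.card (heis T).W = 4 ^ 2 → Nat.card (heis T).conj.range ≤ 72 := by
  letI := wAction T
  intro hw
  let R := (toPermHom H (Additive (heis T).W)).range
  letI : DistribMulAction R (Additive (heis T).W) := imgAction (A := H) (Ω := Additive (heis T).W)
  haveI : Group.IsSolvable R := img_solvable (A := H) (Ω := Additive (heis T).W)
  have hR : Nat.card R ≤ 72 := order_two 4 (Additive (heis T).W) R
    (fun h hh => Subtype.ext (Equiv.ext hh)) (fun U hU => by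
      obtain ⟨W', hW', h⟩ := w_cr T U fun g u hu => hU ⟨_, g, rfl⟩ u hu
      exact ⟨W', by rintro ⟨_, g, rfl⟩ u hu; exact hW' g u hu, h⟩)
    (by rw [Nat.card_congr Additive.toMul, hw]; norm_num) le_rfl
  refine le_trans ?_ hR
  have hmem : ∀ φ : (heis T).conj.range,
      (Additive.toMul.trans (φ.1.toEquiv.trans Additive.ofMul) : Equiv.Perm (Additive (heis T).W)) ∈ R := by
    rintro ⟨_, g, rfl⟩
    refine ⟨g.1, Equiv.ext fun u => ?_⟩
    obtain ⟨a, ha⟩ := QuotientGroup.mk_surjective u.toMul
    show g.1 • u = Additive.ofMul ((heis T).conj g u.toMul)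
    rw [← ofMul_toMul u, toMul_ofMul, ← ha, (heis T).conj_mk]
    rfl
  refine Nat.card_le_card_of_injective (fun φ => ⟨_, hmem φ⟩) fun φ ψ h => Subtype.ext (MulEquiv.ext fun u => ?_)
  exact congrArg Additive.toMul (Equiv.congr_fun (congrArg Subtype.val h) (Additive.ofMul u))

/-- The statement for the class number. -/
def Ratio (p a n k : ℕ) : Prop :=
  n ≤ fb a * k ∧ (a = 2 → n ≤ 5 * k ∨ ∃ m, m ∣ p - 1 ∧ n = 24 * m ∧ n ≤ 6 * k)

theorem ratio_field (p : ℕ) [Fact p.Prime] (V H : Type u) [AddCommGroup V] [Finite V] [Group H] [Finite H]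
    [Group.IsSolvable H] [DistribMulAction H V] [Nontrivial V] (K : Type u) [Field K] [Finite K] [Module K V]
    (T : Setting K V H) (a : ℕ) (hV : Nat.card V = p ^ a) : Ratio p a (Nat.card H) (cls H) := by
  have hp : p.Prime := Fact.out
  haveI : FiniteDimensional K V := Module.Finite.of_finite
  have hV' := Module.natCard_eq_pow_finrank (K := K) (V := V)
  set d := Module.finrank K V with hd'
  have hd : 0 < d := Module.finrank_pos
  obtain ⟨b, -, hb⟩ := (Nat.dvd_prime_pow hp).1 (hV ▸ hV' ▸ dvd_pow_self (Nat.card K) hd.ne')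
  rw [hV, hb, ← pow_mul] at hV'
  have hab : a = b * d := Nat.pow_right_injective hp.two_le hV'
  have hb0 : 0 < b := Nat.pos_of_ne_zero fun e => by
    have := Finite.one_lt_card (α := K)
    rw [hb, e, pow_zero] at this
    omega
  have hbd : b * 1 ≤ a := hab ▸ Nat.mul_le_mul_left b hd
  have hidx : T.C.index ≤ b := index_le T hb
  rcases (heis T).bound (card_W_le T) (field_h72 T) (field_hbase T) with ⟨-, hC⟩ | ⟨e, he, hed, hC, h2⟩
  · -- the centraliser is abelian
    have h : Nat.card H ≤ b ^ 2 * 1 * cls H :=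
      (card_le_of_subgroup T.C (f := 1) (by rw [one_mul, hC])).trans (by gcongr)
    refine ⟨h.trans (Nat.mul_le_mul_right _ ?_), fun ha => Or.inl (h.trans (Nat.mul_le_mul_right _ ?_))⟩
    · rw [mul_one]; exact (fb_sq b).trans (fb_mono (by omega))
    · rw [mul_one]
      exact le_trans (Nat.pow_le_pow_left (show b ≤ 2 by omega) 2) (by norm_num)
  have hbe : b * e ≤ a := hab ▸ Nat.mul_le_mul_left b hed
  have h : Nat.card H ≤ b ^ 2 * fb e * cls H := (card_le_of_subgroup T.C hC).trans (by gcongr)
  refine ⟨h.trans (Nat.mul_le_mul_right _ (fb_field he hb0 hbe)), fun ha => ?_⟩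
  have hb1 : b = 1 := by
    have := Nat.mul_le_mul_left b he
    omega
  subst hb1
  have he2 : e = 2 := by omega
  have htop : T.C = ⊤ := Subgroup.index_eq_one.1
    (le_antisymm hidx (Nat.pos_of_ne_zero Subgroup.index_ne_zero_of_finite))
  have eC : T.C ≃* H := (MulEquiv.subgroupCongr htop).trans Subgroup.topEquiv
  have hcard : Nat.card T.C = Nat.card H := Nat.card_congr eC.toEquiv
  have hcls : cls T.C = cls H := cls_congr eC
  have := h2 he2
  rw [hcard, hcls] at this
  refine this.imp id fun h => ⟨Nat.card (heis T).B, ?_, h.1, h.2⟩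
  have := card_B_dvd T
  rwa [hb, pow_one] at this

/-- The order over the class number. -/
theorem ratio (p : ℕ) [Fact p.Prime] (a : ℕ) (V : Type u) [AddCommGroup V] [Finite V] (H : Type u) [Group H]
    [Finite H] [Group.IsSolvable H] [DistribMulAction H V] (hf : ∀ h : H, (∀ v : V, h • v = v) → h = 1)
    (hcr : CR H V) (hV : Nat.card V = p ^ a) : Ratio p a (Nat.card H) (cls H) := by
  refine cr_induction p (Ratio p) ⟨le_rfl, fun h => absurd h (by norm_num)⟩ ?_ ?_ (ratio_field p) a V H hf hcr hV
  · intro a b n₁ k₁ n₂ k₂ n k ha hb h1 h2 hk1 hk2 _ hn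
    have h : n ≤ fb a * fb b * k := Nat.le_of_mul_le_mul_right (c := k₁ * k₂) (hn.trans (by
      calc n₁ * n₂ * k ≤ (fb a * k₁) * (fb b * k₂) * k := Nat.mul_le_mul_right _ (Nat.mul_le_mul h1.1 h2.1)
        _ = _ := by ring)) (Nat.mul_pos hk1 hk2)
    refine ⟨h.trans (Nat.mul_le_mul_right _ (fb_mul a b)), fun hab => Or.inl (h.trans ?_)⟩
    rw [show a = 1 by omega, show b = 1 by omega]
    simp only [fb]
    omega
  · intro a r m c s n k ha hr hm hc hs hfac _ hn
    have hP : (∏ q, m q) ≤ fb a ^ r * ∏ q, c q := by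
      calc (∏ q, m q) ≤ ∏ q, fb a * c q := Finset.prod_le_prod' fun q _ => (hm q).1
        _ = _ := by rw [Finset.prod_mul_distrib, Finset.prod_const, Finset.card_univ, Fintype.card_fin]
    have h : n ≤ s ^ 2 * fb a ^ r * k := Nat.le_of_mul_le_mul_right (c := ∏ q, c q) (hn.trans (by
      calc s ^ 2 * (∏ q, m q) * k ≤ s ^ 2 * (fb a ^ r * ∏ q, c q) * k :=
            Nat.mul_le_mul_right _ (Nat.mul_le_mul_left _ hP)
        _ = _ := by ring)) (Finset.prod_pos fun q _ => hc q)
    refine ⟨h.trans (Nat.mul_le_mul_right _ (fb_block ha hr hs)), fun hra => Or.inl (h.trans ?_)⟩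
    have h5 : r * 1 ≤ r * a := Nat.mul_le_mul_left r ha
    obtain rfl : r = 2 := by omega
    obtain rfl : a = 1 := by omega
    refine Nat.mul_le_mul_right _ ?_
    rw [show fb 1 = 1 from rfl, one_pow, mul_one]
    exact le_trans (Nat.pow_le_pow_left (hfac.trans (le_of_eq (by rfl : Nat.factorial 2 = 2))) 2) (by norm_num)

end Cfsg.Agent.ClassBoundSq
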