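import Cfsg.Agent.ClassBoundSq.InductFix
import Cfsg.Agent.ClassBoundSq.Linear

/-!
The ratio of order and class number in the presence of a central element fixing only zero:
the dimension drops to that over the field it generates.
-/

set_option autoImplicit false
set_option maxHeartbeats 1000000

namespace Cfsg.Agent.ClassBoundSq

open BaseTwo BaseTwo.Setting MulAction

universe u

/-- The field case. -/
theorem ratio_fix_field (r q : ℕ) [Fact r.Prime] [Fact q.Prime] (V H : Type u) [AddCommGroup V] [Finite V]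
    [Group H] [Finite H] [Group.IsSolvable H] [DistribMulAction H V] [Nontrivial V] (K : Type u) [Field K]
    [Finite K] [Module K V] (T : Setting K V H) (hz : ∃ z ∈ T.B, (∀ h : H, z * h = h * z) ∧ z ^ q = 1 ∧ ∀ v : V, z • v = v → v = 0) (a : ℕ) (hV : Nat.card V = r ^ a) :
    orderOf (r : ZMod q) ∣ a ∧ Nat.card H ≤ fb (a / orderOf (r : ZMod q)) * cls H := by
  classical
  set o := orderOf (r : ZMod q) with ho
  have hr : r.Prime := Fact.out
  have hq : q.Prime := Fact.out
  obtain ⟨z, hzB, hzc, hzq, hzf⟩ := hz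
  haveI : FiniteDimensional K V := Module.Finite.of_finite
  have hV' := Module.natCard_eq_pow_finrank (K := K) (V := V)
  set d := Module.finrank K V with hd'
  have hd : 0 < d := Module.finrank_pos
  obtain ⟨b, -, hb⟩ := (Nat.dvd_prime_pow hr).1 (hV ▸ hV' ▸ dvd_pow_self (Nat.card K) hd.ne')
  rw [hV, hb, ← pow_mul] at hV'
  have hab : a = b * d := Nat.pow_right_injective hr.two_le hV'
  -- the scalar of the central element
  obtain ⟨ζ, hζ⟩ := T.scalar z hzB
  obtain ⟨w, hw⟩ := exists_ne (0 : V)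
  have hζ1 : ζ ≠ 1 := fun e => hw (hzf w (by rw [hζ, e, one_smul]))
  have hζq : ζ ^ q = 1 := by
    have h : ∀ k : ℕ, z ^ k • w = ζ ^ k • w := by
      intro k
      induction k with
      | zero => simp
      | succ k ih => rw [pow_succ', mul_smul, ih, hζ, smul_smul, ← pow_succ']
    have := h q
    rw [hzq, one_smul] at this
    exact (PS.smul_inj hw (this.trans (by rfl : ζ ^ q • w = ζ ^ q • w) |>.symm.trans (one_smul K w).symm))
  have hζ0 : ζ ≠ 0 := fun e => by rw [e, zero_pow hq.ne_zero] at hζq; exact zero_ne_one hζq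
  have hordζ : orderOf ζ = q := orderOf_eq_prime hζq hζ1
  have hdvd : q ∣ r ^ b - 1 := by
    have h := orderOf_dvd_natCard (Units.mk0 ζ hζ0)
    rwa [Nat.card_units, hb, ← orderOf_units, Units.val_mk0, hordζ] at h
  have hmod : ∀ i : ℕ, ζ ^ (r ^ i) = ζ → o ∣ i := fun i h => by
    refine orderOf_dvd_of_pow_eq_one ?_
    have h2 : r ^ i ≡ 1 [MOD orderOf (Units.mk0 ζ hζ0)] :=
      pow_eq_pow_iff_modEq.1 (Units.ext (by rw [Units.val_pow_eq_pow_val, pow_one]; exact h))
    rw [← orderOf_units, Units.val_mk0, hordζ, ← ZMod.natCast_eq_natCast_iff] at h2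
    exact_mod_cast h2
  have hob : o ∣ b := by
    refine orderOf_dvd_of_pow_eq_one ?_
    have h := (ZMod.natCast_eq_zero_iff _ q).2 hdvd
    rw [Nat.cast_sub (Nat.one_le_pow _ _ hr.pos), Nat.cast_pow, Nat.cast_one, sub_eq_zero] at h
    exact h
  refine ⟨hab ▸ hob.mul_right d, ?_⟩
  have hb0 : 0 < b := Nat.pos_of_ne_zero fun e => by
    have := Finite.one_lt_card (α := K)
    rw [hb, e, pow_zero] at this
    omega
  have ho0 : 0 < o := Nat.pos_of_dvd_of_pos hob hb0
  -- the index of the centraliser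
  haveI := Fintype.ofFinite K
  haveI : CharP K r := charP_of_card_eq_prime_pow (f := b) (by rw [← Nat.card_eq_fintype_card, hb])
  letI := ZMod.algebra K r
  have hrank : Module.finrank (ZMod r) K = b := by
    have h := Module.natCard_eq_pow_finrank (K := ZMod r) (V := K)
    rw [hb, Nat.card_zmod] at h
    exact (Nat.pow_right_injective hr.two_le h).symm
  let toAlg : (K ≃+* K) → (K ≃ₐ[ZMod r] K) := fun e => AlgEquiv.ofRingEquiv (f := e) fun x =>
    RingHom.congr_fun (Subsingleton.elim (e.toRingHom.comp (algebraMap (ZMod r) K)) (algebraMap (ZMod r) K)) x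
  have hfrob := FiniteField.bijective_frobeniusAlgEquivOfAlgebraic_pow (ZMod r) K
  choose i hi using fun x : H ⧸ T.C => hfrob.2 (toAlg (T.σ x.out))
  have hio : ∀ x, o ∣ (i x).1 := fun x => by
    refine hmod _ ?_
    have hσ : T.σ x.out ζ = ζ := by
      refine PS.smul_inj (show x.out • w ≠ 0 from (smul_ne_zero_iff_ne x.out).2 hw) ?_
      rw [← T.semi, ← hζ, ← mul_smul, ← hzc, mul_smul, hζ]
    have h := DFunLike.congr_fun (hi x) ζ
    rw [AlgEquiv.coe_pow, FiniteField.coe_frobeniusAlgEquivOfAlgebraic_iterate] at h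
    have h2 : ζ ^ (Fintype.card (ZMod r) ^ (i x).1) = ζ := h.trans hσ
    rwa [ZMod.card] at h2
  have hidx : T.C.index ≤ b / o := by
    rw [← Nat.card_fin (b / o)]
    refine Nat.card_le_card_of_injective (fun x => (⟨(i x).1 / o, ?_⟩ : Fin (b / o))) fun x y h => ?_
    · exact Nat.div_lt_div_of_lt_of_dvd hob (hrank ▸ (i x).2)
    · have h' : (i x).1 / o = (i y).1 / o := congrArg Fin.val h
      have e : i x = i y := Fin.ext (by
        rw [← Nat.div_mul_cancel (hio x), ← Nat.div_mul_cancel (hio y), h'])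
      have h3 : toAlg (T.σ x.out) = toAlg (T.σ y.out) := by rw [← hi x, ← hi y, e]
      have hσ : T.σ x.out = T.σ y.out := RingEquiv.ext fun k => DFunLike.congr_fun h3 k
      rw [← QuotientGroup.out_eq' x, ← QuotientGroup.out_eq' y]
      refine QuotientGroup.eq.2 (T.mem_C.2 fun c hc => ?_)
      obtain ⟨k, hk⟩ := T.scalar c hc
      have hcj : x.out * c * x.out⁻¹ = y.out * c * y.out⁻¹ := by
        refine inv_mul_eq_one.1 (T.faithful _ fun v => ?_)
        have h1 : ∀ g : H, ∀ v : V, (g * c * g⁻¹) • v = T.σ g k • v := fun g v => by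
          rw [mul_smul, mul_smul, hk, T.semi, smul_inv_smul]
        rw [mul_smul, inv_smul_eq_iff, h1, h1, hσ]
      calc x.out⁻¹ * y.out * c = x.out⁻¹ * (y.out * c * y.out⁻¹) * y.out := by group
        _ = x.out⁻¹ * (x.out * c * x.out⁻¹) * y.out := by rw [hcj]
        _ = c * (x.out⁻¹ * y.out) := by group
  obtain ⟨c, hc⟩ := hob
  rw [hc, Nat.mul_div_cancel_left c ho0] at hidx
  have hdiv : a / o = c * d := by rw [hab, hc, mul_assoc, Nat.mul_div_cancel_left _ ho0]
  rw [hdiv]
  have hc0 : 0 < c := Nat.pos_of_ne_zero fun e => by rw [hc, e, mul_zero] at hb0; omega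
  letI := wAction T
  -- reuse the bound for the centraliser
  have hC := (heis T).bound (d := d) (card_W_le T) (field_h72 T) (field_hbase T)
  rcases hC with ⟨-, hC⟩ | ⟨e, he, hed, hC, -⟩
  · calc Nat.card H ≤ T.C.index ^ 2 * 1 * cls H := card_le_of_subgroup T.C (f := 1) (by rw [one_mul, hC])
      _ ≤ c ^ 2 * 1 * cls H := by gcongr
      _ ≤ fb (c * d) * cls H := Nat.mul_le_mul_right _ (by
          rw [mul_one]; exact (fb_sq c).trans (fb_mono (Nat.le_mul_of_pos_right c hd)))
  · calc Nat.card H ≤ T.C.index ^ 2 * fb e * cls H := card_le_of_subgroup T.C hC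
      _ ≤ c ^ 2 * fb e * cls H := by gcongr
      _ ≤ fb (c * d) * cls H := Nat.mul_le_mul_right _ (fb_field he hc0 (Nat.mul_le_mul_left c hed))

end Cfsg.Agent.ClassBoundSq

namespace Cfsg.Agent.ClassBoundSq

universe u

/-- The ratio with the dimension over the field of the central element. -/
theorem ratio_fix (r q : ℕ) [Fact r.Prime] [Fact q.Prime] (a : ℕ) (V : Type u) [AddCommGroup V] [Finite V]
    (H : Type u) [Group H] [Finite H] [Group.IsSolvable H] [DistribMulAction H V]
    (hf : ∀ h : H, (∀ v : V, h • v = v) → h = 1) (hcr : CR H V) (hz : Fpf q H V) (hV : Nat.card V = r ^ a) :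
    orderOf (r : ZMod q) ∣ a ∧ Nat.card H ≤ fb (a / orderOf (r : ZMod q)) * cls H := by
  set o := orderOf (r : ZMod q) with ho
  refine cr_induction_fpf r q (fun a n k => o ∣ a ∧ n ≤ fb (a / o) * k) ⟨dvd_zero o, by simp [fb]⟩ ?_ ?_
    (fun V H _ _ _ _ _ _ _ K _ _ _ T hz a hV => ratio_fix_field r q V H K T hz a hV) a V H hf hcr hz hV
  · intro a b n₁ k₁ n₂ k₂ n k _ _ h1 h2 hk1 hk2 _ hn
    have h : n ≤ fb (a / o) * fb (b / o) * k := Nat.le_of_mul_le_mul_right (c := k₁ * k₂) (hn.trans (by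
      calc n₁ * n₂ * k ≤ (fb (a / o) * k₁) * (fb (b / o) * k₂) * k := Nat.mul_le_mul_right _ (Nat.mul_le_mul h1.2 h2.2)
        _ = _ := by ring)) (Nat.mul_pos hk1 hk2)
    exact ⟨dvd_add h1.1 h2.1, h.trans (Nat.mul_le_mul_right _ (by
      rw [Nat.add_div_of_dvd_right h1.1]; exact fb_mul _ _))⟩
  · intro a s m c t n k ha hs hm hc ht _ _ hn
    obtain ⟨hoa, -⟩ := hm ⟨0, by omega⟩
    have ho0 : 0 < o := Nat.pos_of_dvd_of_pos hoa ha
    have hP : (∏ q, m q) ≤ fb (a / o) ^ s * ∏ q, c q := by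
      calc (∏ q, m q) ≤ ∏ q, fb (a / o) * c q := Finset.prod_le_prod' fun q _ => (hm q).2
        _ = _ := by rw [Finset.prod_mul_distrib, Finset.prod_const, Finset.card_univ, Fintype.card_fin]
    have h : n ≤ t ^ 2 * fb (a / o) ^ s * k := Nat.le_of_mul_le_mul_right (c := ∏ q, c q) (hn.trans (by
      calc t ^ 2 * (∏ q, m q) * k ≤ t ^ 2 * (fb (a / o) ^ s * ∏ q, c q) * k :=
            Nat.mul_le_mul_right _ (Nat.mul_le_mul_left _ hP)
        _ = _ := by ring)) (Finset.prod_pos fun q _ => hc q)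
    refine ⟨hoa.mul_left s, h.trans (Nat.mul_le_mul_right _ ?_)⟩
    rw [Nat.mul_div_assoc _ hoa]
    exact fb_block (Nat.div_pos (Nat.le_of_dvd ha hoa) ho0) hs ht

end Cfsg.Agent.ClassBoundSq
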